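import Cfsg.Agent.Coherence.GroupFacts
import Mathlib.Algebra.Group.Subgroup.Pointwise

/-!
# Invariant lines in a module of order `p²`

If a group acts on an elementary abelian group of order `p²` through a group of odd order dividing
`p - 1`, some subgroup of order `p` is invariant.
-/

set_option autoImplicit false
set_option linter.unusedSectionVars false

namespace CfsgLib.Coherence

universe u

variable {Q : Type u} [Group Q]

/-- The subgroups of order `p` of `V`. -/
def OrderSubgroups (V : Subgroup Q) (p : ℕ) : Type u :=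
  {W : Subgroup Q // W ≤ V ∧ Nat.card W = p}

instance finite_orderSubgroups [Finite Q] (V : Subgroup Q) (p : ℕ) : Finite (OrderSubgroups V p) :=
  inferInstanceAs (Finite {W : Subgroup Q // W ≤ V ∧ Nat.card W = p})

theorem map_conj_mem {V W : Subgroup Q} [hV : V.Normal] {p : ℕ} (hW : W ≤ V ∧ Nat.card W = p) (g : Q) :
    W.map (MulAut.conj g).toMonoidHom ≤ V ∧ Nat.card (W.map (MulAut.conj g).toMonoidHom) = p := by
  refine ⟨?_, ?_⟩
  · rintro _ ⟨w, hw, rfl⟩
    exact hV.conj_mem w (hW.1 hw) g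
  · exact (Nat.card_congr (W.equivMapOfInjective _ (MulAut.conj g).injective).symm.toEquiv).trans hW.2

/-- Conjugation on the subgroups of order `p` of a normal `V`. -/
def linesPerm (V : Subgroup Q) [V.Normal] (p : ℕ) : Q →* Equiv.Perm (OrderSubgroups V p) where
  toFun g :=
    { toFun := fun W => ⟨_, map_conj_mem W.2 g⟩
      invFun := fun W => ⟨_, map_conj_mem W.2 g⁻¹⟩
      left_inv := fun W => Subtype.ext (by
        show (W.1.map _).map _ = W.1
        rw [Subgroup.map_map]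
        convert W.1.map_id using 2
        ext x; simp [mul_assoc])
      right_inv := fun W => Subtype.ext (by
        show (W.1.map _).map _ = W.1
        rw [Subgroup.map_map]
        convert W.1.map_id using 2
        ext x; simp [mul_assoc]) }
  map_one' := Equiv.ext fun W => Subtype.ext (by
    show W.1.map _ = W.1
    convert W.1.map_id using 2
    ext x; simp)
  map_mul' a b := Equiv.ext fun W => Subtype.ext (by
    show W.1.map _ = (W.1.map _).map _
    rw [Subgroup.map_map]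
    congr 1
    ext x; simp [mul_assoc])

theorem zpowers_eq_of_mem [Finite Q] {p : ℕ} [hp : Fact p.Prime] {W : Subgroup Q} (hW : Nat.card W = p)
    {w : Q} (hw : w ∈ W) (hw1 : w ≠ 1) : Subgroup.zpowers w = W := by
  refine Subgroup.eq_of_le_of_card_ge (Subgroup.zpowers_le.2 hw) ?_
  rw [hW, Nat.card_zpowers]
  have h : orderOf w ∣ p := by
    have h1 := orderOf_dvd_natCard (⟨w, hw⟩ : W)
    rwa [hW, ← Subgroup.orderOf_coe] at h1
  rcases (Nat.dvd_prime hp.out).1 h with h1 | h1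
  · exact absurd (orderOf_eq_one_iff.1 h1) hw1
  · exact h1.ge

variable [Finite Q] {p : ℕ} [hp : Fact p.Prime] (V : Subgroup Q) [hV : V.Normal]

theorem card_orderSubgroups (hcard : Nat.card V = p ^ 2) (hexp : ∀ v ∈ V, v ^ p = 1) :
    Nat.card (OrderSubgroups V p) = p + 1 := by
  classical
  have := Fintype.ofFinite Q
  have := Fintype.ofFinite (OrderSubgroups V p)
  set D := Finset.univ.filter (fun x : Q => x ∈ V ∧ x ≠ 1) with hD
  have hDcard : D.card = p ^ 2 - 1 := by
    have e : D = (Finset.univ.filter (fun x : Q => x ∈ V)).erase 1 := by ext x; simp [hD, and_comm]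
    rw [e, Finset.card_erase_of_mem (by simp), ← hcard, Nat.card_eq_fintype_card, Fintype.card_subtype]
  have hmem : ∀ x ∈ D, Subgroup.zpowers x ≤ V ∧ Nat.card (Subgroup.zpowers x) = p := by
    intro x hx
    obtain ⟨-, hxV, hx1⟩ := Finset.mem_filter.1 hx
    exact ⟨Subgroup.zpowers_le.2 hxV, by rw [Nat.card_zpowers, orderOf_eq_prime (hexp x hxV) hx1]⟩
  have hfib : ∀ W : OrderSubgroups V p,
      (D.filter (fun x => Subgroup.zpowers x = W.1)).card = p - 1 := by
    intro W
    have e : D.filter (fun x => Subgroup.zpowers x = W.1) =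
        (Finset.univ.filter (fun x : Q => x ∈ W.1)).erase 1 := by
      ext x
      simp only [hD, Finset.mem_filter, Finset.mem_univ, true_and, Finset.mem_erase]
      exact ⟨fun h => ⟨h.1.2, h.2 ▸ Subgroup.mem_zpowers x⟩,
        fun h => ⟨⟨W.2.1 h.2, h.1⟩, zpowers_eq_of_mem W.2.2 h.2 h.1⟩⟩
    rw [e, Finset.card_erase_of_mem (by simp), ← Fintype.card_subtype, ← Nat.card_eq_fintype_card]
    exact congrArg (fun k => k - 1) W.2.2
  have hkey : D.card = Fintype.card (OrderSubgroups V p) * (p - 1) := by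
    have h := Finset.card_eq_sum_card_fiberwise (s := D)
      (t := (Finset.univ : Finset (OrderSubgroups V p)).image (fun W => W.1))
      (f := Subgroup.zpowers) (fun x hx =>
        Finset.mem_image.2 ⟨⟨_, hmem x hx⟩, Finset.mem_univ _, rfl⟩)
    rw [Finset.sum_image (f := fun W => (D.filter (fun x => Subgroup.zpowers x = W)).card)
        (g := fun W : OrderSubgroups V p => W.1) (fun a _ b _ hab => Subtype.ext hab),
      Finset.sum_congr rfl (fun W _ => hfib W)] at h
    simpa using h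
  have h2 := hp.out.two_le
  rw [hDcard, show p ^ 2 - 1 = (p + 1) * (p - 1) by
    have := Nat.sq_sub_sq p 1; simpa using this] at hkey
  rw [Nat.card_eq_fintype_card]
  exact (Nat.eq_of_mul_eq_mul_right (by omega) hkey).symm

/-- An element fixing three lines fixes all of them. -/
theorem fixes_all_of_three (hcomm : ∀ a ∈ V, ∀ b ∈ V, a * b = b * a) (hcard : Nat.card V = p ^ 2)
    (g : Q) (h : 2 < Nat.card (MulAction.fixedBy (OrderSubgroups V p) (linesPerm V p g)))
    (W : OrderSubgroups V p) : linesPerm V p g W = W := by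
  classical
  set σ := linesPerm V p g with hσ
  have := Fintype.ofFinite (OrderSubgroups V p)
  rw [Nat.card_eq_fintype_card, Fintype.card_subtype] at h
  obtain ⟨X, hX, Y, hY, Z, hZ, hXY, hXZ, hYZ⟩ := Finset.two_lt_card.1 h
  simp only [Finset.mem_filter, Finset.mem_univ, true_and, MulAction.mem_fixedBy,
    Equiv.Perm.smul_def] at hX hY hZ
  have hstab : ∀ U : OrderSubgroups V p, σ U = U → ∀ u ∈ U.1, g * u * g⁻¹ ∈ U.1 := by
    intro U hU u hu
    have h1 : U.1.map (MulAut.conj g).toMonoidHom = U.1 := congrArg Subtype.val hU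
    rw [← h1]
    exact Subgroup.mem_map_of_mem _ hu
  have hdisj : ∀ A B : OrderSubgroups V p, A ≠ B → A.1 ⊓ B.1 = ⊥ := by
    intro A B hne
    rw [eq_bot_iff]
    intro x hx
    by_contra hx1
    exact hne (Subtype.ext ((zpowers_eq_of_mem A.2.2 hx.1 hx1).symm.trans
      (zpowers_eq_of_mem B.2.2 hx.2 hx1)))
  -- a nontrivial element of `Z` as a product
  obtain ⟨z, hz, hz1⟩ : ∃ z ∈ Z.1, z ≠ 1 := by
    refine (Subgroup.nontrivial_iff_exists_ne_one _).1 (Finite.one_lt_card_iff_nontrivial.1 ?_)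
    rw [Z.2.2]; exact hp.out.one_lt
  have hXYV : X.1 ⊔ Y.1 = V := by
    refine Subgroup.eq_of_le_of_card_ge (sup_le X.2.1 Y.2.1) ?_
    let f : X.1 × Y.1 → (X.1 ⊔ Y.1 : Subgroup Q) := fun a =>
      ⟨a.1 * a.2, mul_mem (Subgroup.mem_sup_left a.1.2) (Subgroup.mem_sup_right a.2.2)⟩
    have hf : Function.Injective f := by
      intro a b hab
      have h1 : (a.1 : Q) * a.2 = b.1 * b.2 := congrArg Subtype.val hab
      exact Subgroup.mul_injective_of_disjoint (disjoint_iff.2 (hdisj X Y hXY)) h1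
    have h2 := Nat.card_le_card_of_injective f hf
    rw [Nat.card_prod, X.2.2, Y.2.2] at h2
    rw [hcard, pow_two]
    exact h2
  obtain ⟨x, y, hx, hy, rfl⟩ : ∃ x y, x ∈ X.1 ∧ y ∈ Y.1 ∧ x * y = z := by
    have hzV : z ∈ X.1 ⊔ Y.1 := hXYV.symm ▸ Z.2.1 hz
    have : (X.1 ⊔ Y.1 : Subgroup Q) ≤ V := hXYV.le
    obtain ⟨x, y, hx, hy, e⟩ : ∃ x y, x ∈ X.1 ∧ y ∈ Y.1 ∧ x * y = z := by
      refine Subgroup.closure_induction (k := (X.1 : Set Q) ∪ Y.1)
        (p := fun w _ => ∃ x y, x ∈ X.1 ∧ y ∈ Y.1 ∧ x * y = w) ?_ ?_ ?_ ?_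
        (by rwa [Subgroup.closure_union, Subgroup.closure_eq, Subgroup.closure_eq])
      · rintro w (hw | hw)
        · exact ⟨w, 1, hw, one_mem _, mul_one w⟩
        · exact ⟨1, w, one_mem _, hw, one_mul w⟩
      · exact ⟨1, 1, one_mem _, one_mem _, one_mul 1⟩
      · rintro _ _ _ _ ⟨a, b, ha, hb, rfl⟩ ⟨c, d, hc, hd, rfl⟩
        refine ⟨a * c, b * d, mul_mem ha hc, mul_mem hb hd, ?_⟩
        rw [mul_assoc, ← mul_assoc c, hcomm c (X.2.1 hc) b (Y.2.1 hb)]
        simp [mul_assoc]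
      · rintro _ _ ⟨a, b, ha, hb, rfl⟩
        refine ⟨a⁻¹, b⁻¹, inv_mem ha, inv_mem hb, ?_⟩
        rw [mul_inv_rev, hcomm _ (X.2.1 (inv_mem ha)) _ (Y.2.1 (inv_mem hb))]
    exact ⟨x, y, hx, hy, e⟩
  have hx1 : x ≠ 1 := by
    rintro rfl
    rw [one_mul] at hz hz1
    exact hYZ (Subtype.ext ((zpowers_eq_of_mem Y.2.2 hy hz1).symm.trans (zpowers_eq_of_mem Z.2.2 hz hz1)))
  have hy1 : y ≠ 1 := by
    rintro rfl
    rw [mul_one] at hz hz1
    exact hXZ (Subtype.ext ((zpowers_eq_of_mem X.2.2 hx hz1).symm.trans (zpowers_eq_of_mem Z.2.2 hz hz1)))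
  have hZ' := hstab Z hZ _ hz
  rw [← zpowers_eq_of_mem Z.2.2 hz hz1, Subgroup.mem_zpowers_iff] at hZ'
  obtain ⟨k, hk⟩ := hZ'
  have hxV := X.2.1 hx
  have hyV := Y.2.1 hy
  have hprod : g * (x * y) * g⁻¹ = (g * x * g⁻¹) * (g * y * g⁻¹) := by group
  rw [hprod, Commute.mul_zpow (hcomm x hxV y hyV)] at hk
  -- both factors agree
  have h1 : (x ^ k)⁻¹ * (g * x * g⁻¹) = y ^ k * (g * y * g⁻¹)⁻¹ := by
    rw [inv_mul_eq_iff_eq_mul, ← mul_assoc, hk]; group
  have h2 : (x ^ k)⁻¹ * (g * x * g⁻¹) ∈ X.1 ⊓ Y.1 :=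
    Subgroup.mem_inf.2 ⟨X.1.mul_mem (X.1.inv_mem (X.1.zpow_mem hx k)) (hstab X hX x hx),
      h1 ▸ Y.1.mul_mem (Y.1.zpow_mem hy k) (Y.1.inv_mem (hstab Y hY y hy))⟩
  rw [hdisj X Y hXY, Subgroup.mem_bot] at h2
  have hcx : g * x * g⁻¹ = x ^ k := (inv_mul_eq_one.1 h2).symm
  have hcy : g * y * g⁻¹ = y ^ k := by
    rw [hcx] at hk; exact (mul_left_cancel hk).symm
  have hall : ∀ v ∈ V, g * v * g⁻¹ = v ^ k := by
    intro v hv
    rw [← hXYV, ← zpowers_eq_of_mem X.2.2 hx hx1, ← zpowers_eq_of_mem Y.2.2 hy hy1,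
      Subgroup.zpowers_eq_closure, Subgroup.zpowers_eq_closure, ← Subgroup.closure_union] at hv
    have hV' : ∀ w ∈ Subgroup.closure ({x} ∪ {y} : Set Q), w ∈ V := fun w hw =>
      Subgroup.closure_le V |>.2 (by rintro _ (rfl | rfl) <;> assumption) hw
    refine Subgroup.closure_induction (p := fun w _ => g * w * g⁻¹ = w ^ k) ?_ ?_ ?_ ?_ hv
    · rintro w (rfl | rfl)
      · exact hcx
      · exact hcy
    · simp
    · intro a b ha hb e1 e2
      rw [Commute.mul_zpow (hcomm a (hV' a ha) b (hV' b hb)), ← e1, ← e2]; group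
    · intro a _ e1
      rw [inv_zpow, ← e1]; group
  apply Subtype.ext
  show W.1.map (MulAut.conj g).toMonoidHom = W.1
  refine Subgroup.eq_of_le_of_card_ge ?_ (le_of_eq (W.2.2.trans (map_conj_mem W.2 g).2.symm))
  rintro _ ⟨w, hw, rfl⟩
  show g * w * g⁻¹ ∈ W.1
  rw [hall w (W.2.1 hw)]
  exact zpow_mem hw k

/-- Existence of a normal subgroup of order `p` inside `V`. -/
theorem exists_invariant_prime_order (hcomm : ∀ a ∈ V, ∀ b ∈ V, a * b = b * a)
    (hcard : Nat.card V = p ^ 2) (hexp : ∀ v ∈ V, v ^ p = 1) (K : Subgroup Q)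
    (hcent : ∀ k ∈ K, ∀ v ∈ V, k * v = v * k) (hodd : Odd K.index) (hdvd : K.index ∣ p - 1) :
    ∃ W : Subgroup Q, W.Normal ∧ W ≤ V ∧ Nat.card W = p := by
  classical
  set φ := linesPerm V p with hφ
  have hker : K ≤ φ.ker := by
    intro k hk
    rw [MonoidHom.mem_ker]
    refine Equiv.ext fun W => Subtype.ext ?_
    show W.1.map (MulAut.conj k).toMonoidHom = W.1
    refine Subgroup.eq_of_le_of_card_ge ?_ (le_of_eq (W.2.2.trans (map_conj_mem W.2 k).2.symm))
    rintro _ ⟨w, hw, rfl⟩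
    show k * w * k⁻¹ ∈ W.1
    rw [hcent k hk w (W.2.1 hw), mul_inv_cancel_right]
    exact hw
  have hE : Nat.card φ.range ∣ p - 1 ∧ Odd (Nat.card φ.range) := by
    have h1 : Nat.card φ.range ∣ K.index := by
      rw [← Nat.card_congr (QuotientGroup.quotientKerEquivRange φ).toEquiv]
      exact Subgroup.index_dvd_of_le hker
    exact ⟨h1.trans hdvd, hodd.of_dvd_nat h1⟩
  have hΩ := card_orderSubgroups V hcard hexp
  have := Fintype.ofFinite (OrderSubgroups V p)
  have : Nonempty (OrderSubgroups V p) := (Nat.card_pos_iff.1 (by omega)).1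
  have := Fintype.ofFinite φ.range
  have hle : ∀ s : φ.range, s ≠ 1 → Nat.card (MulAction.fixedBy (OrderSubgroups V p) s) ≤ 2 := by
    rintro ⟨s, g, rfl⟩ hs
    by_contra hlt
    push Not at hlt
    refine hs (Subtype.ext (Equiv.ext fun W => ?_))
    exact fixes_all_of_three V hcomm hcard g hlt W
  have h2 : ∀ s : φ.range, s ≠ 1 → Nat.card (MulAction.fixedBy (OrderSubgroups V p) s) = 2 := by
    intro s hs
    have ho1 : orderOf s ≠ 1 := fun h => hs (orderOf_eq_one_iff.1 h)
    obtain ⟨r, hr, hrd⟩ := Nat.exists_prime_and_dvd ho1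
    have : Fact r.Prime := ⟨hr⟩
    set k := orderOf s / r with hk
    have hdiv : k ∣ orderOf s := Nat.div_dvd_of_dvd hrd
    have hok : orderOf (s ^ k) = r := by
      rw [orderOf_pow_of_dvd (Nat.div_pos (Nat.le_of_dvd (orderOf_pos s) hrd) hr.pos).ne' hdiv,
        Nat.div_div_self hrd (orderOf_pos s).ne']
    have ht : s ^ k ≠ 1 := fun h => by rw [h, orderOf_one] at hok; exact hr.ne_one hok.symm
    have hrp : r ∣ p - 1 := (hrd.trans (orderOf_dvd_natCard s)).trans hE.1
    have hrodd : Odd r := hE.2.of_dvd_nat (hrd.trans (orderOf_dvd_natCard s))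
    have hP : IsPGroup r (Subgroup.zpowers (s ^ k)) :=
      IsPGroup.of_card (n := 1) (by rw [Nat.card_zpowers, hok, pow_one])
    have hfix := hP.card_modEq_card_fixedPoints (OrderSubgroups V p)
    have hfe : MulAction.fixedPoints (Subgroup.zpowers (s ^ k)) (OrderSubgroups V p) =
        MulAction.fixedBy (OrderSubgroups V p) (s ^ k) := by
      ext W
      refine ⟨fun h => h ⟨_, Subgroup.mem_zpowers _⟩, fun h t => ?_⟩
      obtain ⟨t, ht'⟩ := t
      obtain ⟨i, rfl⟩ := Subgroup.mem_zpowers_iff.1 ht'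
      exact (MulAction.mem_stabilizer_iff (G := φ.range)).1
        (Subgroup.zpow_mem _ ((MulAction.mem_stabilizer_iff (G := φ.range)).2 h) i)
    rw [hfe, hΩ] at hfix
    have hm : p + 1 ≡ 2 [MOD r] := by
      have h1 : p - 1 + 2 ≡ 0 + 2 [MOD r] := (Nat.modEq_zero_iff_dvd.2 hrp).add_right 2
      rwa [show p - 1 + 2 = p + 1 by have := hp.out.two_le; omega, zero_add] at h1
    have h3 : Nat.card (MulAction.fixedBy (OrderSubgroups V p) (s ^ k)) = 2 := by
      have h4 := hle _ ht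
      have h5 := hm.symm.trans hfix
      have hr3 : 3 ≤ r := by obtain ⟨i, hi⟩ := hrodd; have := hr.two_le; omega
      generalize Nat.card (MulAction.fixedBy (OrderSubgroups V p) (s ^ k)) = c at h4 h5
      unfold Nat.ModEq at h5
      rw [Nat.mod_eq_of_lt (by omega : 2 < r), Nat.mod_eq_of_lt (by omega : c < r)] at h5
      exact h5.symm
    have heq : MulAction.fixedBy (OrderSubgroups V p) s =
        MulAction.fixedBy (OrderSubgroups V p) (s ^ k) := by
      ext W
      refine ⟨fun h => ?_, fun h => fixedBy_of_pow (hE.2.of_dvd_nat (orderOf_dvd_natCard s)) h3.le h⟩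
      exact (MulAction.mem_stabilizer_iff (G := φ.range)).1
        (Subgroup.pow_mem _ ((MulAction.mem_stabilizer_iff (G := φ.range)).2 h) k)
    rw [heq, h3]
  obtain ⟨W, hW⟩ := exists_fixed_of_two hE.2 h2
  refine ⟨W.1, ⟨fun n hn g => ?_⟩, W.2⟩
  have h1 : W.1.map (MulAut.conj g).toMonoidHom = W.1 :=
    congrArg Subtype.val (hW ⟨φ g, g, rfl⟩)
  rw [← h1]
  exact Subgroup.mem_map_of_mem _ hn

end CfsgLib.Coherence
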