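import Cfsg.Agent.Coherence.Bounds
import Cfsg.Agent.Coherence.Lines
import Cfsg.Agent.OddOrderChar.AbelianInertia

/-!
# Peterfalvi (6.5)

With `L` odd, `K/M` nilpotent and `L/H₁` Frobenius with kernel `K/H₁` (`H₁ = K'M`): `S(M)` is
coherent outside the exceptional situation.
-/

set_option autoImplicit false
set_option linter.unusedSectionVars false

namespace CfsgLib.Coherence

open Cfsg CfsgLib.Characters

universe u v

variable {L : Type u} [Group L] [Fintype L] {G : Type v} [Group G] [Fintype G]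

theorem card_map_mk (H N : Subgroup L) [H.Normal] :
    Nat.card (N.map (QuotientGroup.mk' H)) = H.relIndex N := by
  conv_rhs => rw [← QuotientGroup.ker_mk' H]
  rw [Subgroup.relIndex_ker]

/-- Degrees in `S(A)` for `A ≥ K'` are all `[L:K]`. -/
theorem above_degree {K : Subgroup L} [K.Normal] {A : Subgroup L} [A.Normal] (hA : ⁅K, K⁆ ≤ A)
    {φ : L → ℂ} (hφ : φ ∈ inducedIrrAbove K A) : φ 1 = (K.index : ℂ) := by
  obtain ⟨θ, hθ, -, hθA, rfl⟩ := hφ
  have : (A.subgroupOf K).Normal := Subgroup.Normal.subgroupOf ‹A.Normal› K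
  obtain ⟨ψ, hψ, he⟩ := exists_irr_quotient (A.subgroupOf K) hθ fun n hn => hθA n hn
  have hcomm : ∀ x y : K ⧸ A.subgroupOf K, x * y = y * x := by
    intro x y
    obtain ⟨a, rfl⟩ := QuotientGroup.mk'_surjective _ x
    obtain ⟨b, rfl⟩ := QuotientGroup.mk'_surjective _ y
    rw [← map_mul, ← map_mul]
    apply QuotientGroup.eq.2
    refine hA ?_
    have e : (((a * b)⁻¹ * (b * a) : K) : L) = (b : L)⁻¹ * (a : L)⁻¹ * ((b : L)⁻¹)⁻¹ * ((a : L)⁻¹)⁻¹ := by
      simp [mul_assoc]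
    show (((a * b)⁻¹ * (b * a) : K) : L) ∈ ⁅K, K⁆
    rw [e]
    exact Subgroup.commutator_mem_commutator (inv_mem b.2) (inv_mem a.2)
  have := Fintype.ofFinite (K ⧸ A.subgroupOf K)
  have h1 : θ 1 = 1 := by
    rw [he, QuotientGroup.mk_one]
    exact OddOrderChar.irr_degree_one_of_comm hcomm ⟨ψ, hψ⟩
  rw [ind_one, h1, mul_one]

variable {K H₁ : Subgroup L} [K.Normal] [H₁.Normal]

theorem map_centralizer_eq (hcomm : ⁅K, K⁆ ≤ H₁) (_hH₁K : H₁ ≤ K)
    (hfrob : ∀ k ∈ K, k ∉ H₁ → ∀ x : L, x * k * x⁻¹ * k⁻¹ ∈ H₁ → x ∈ K) :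
    ∀ n ∈ K.map (QuotientGroup.mk' H₁), n ≠ 1 →
      Subgroup.centralizer ({n} : Set (L ⧸ H₁)) = K.map (QuotientGroup.mk' H₁) := by
  rintro n ⟨k, hk, rfl⟩ hn
  have hk1 : k ∉ H₁ := fun h => hn ((QuotientGroup.eq_one_iff k).2 h)
  ext y
  obtain ⟨x, rfl⟩ := QuotientGroup.mk'_surjective H₁ y
  rw [Subgroup.mem_centralizer_singleton_iff]
  constructor
  · intro h
    refine Subgroup.mem_map_of_mem _ (hfrob k hk hk1 x ((QuotientGroup.eq_one_iff _).1 ?_))
    show QuotientGroup.mk' H₁ (x * k * x⁻¹ * k⁻¹) = 1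
    rw [map_mul, map_mul, map_mul, h, map_inv, map_inv, mul_inv_cancel_right, mul_inv_cancel]
  · rintro ⟨x', hx', he⟩
    rw [← he, ← map_mul, ← map_mul]
    apply QuotientGroup.eq.2
    refine hcomm ?_
    rw [show (x' * k)⁻¹ * (k * x') = k⁻¹ * x'⁻¹ * (k⁻¹)⁻¹ * (x'⁻¹)⁻¹ by simp [mul_assoc]]
    exact Subgroup.commutator_mem_commutator (inv_mem hk) (inv_mem hx')

theorem index_map_mk (hH₁K : H₁ ≤ K) : (K.map (QuotientGroup.mk' H₁)).index = K.index :=
  Subgroup.index_map_eq _ (QuotientGroup.mk'_surjective H₁) (by rwa [QuotientGroup.ker_mk'])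

/-- Every normal `N` between `H₁` and `K` has `[N:H₁] ≡ 1` modulo `[L:K]`. -/
theorem frob_congr (hcomm : ⁅K, K⁆ ≤ H₁) (hH₁K : H₁ ≤ K)
    (hfrob : ∀ k ∈ K, k ∉ H₁ → ∀ x : L, x * k * x⁻¹ * k⁻¹ ∈ H₁ → x ∈ K) (N : Subgroup L) [N.Normal]
    (hNK : N ≤ K) : K.index ∣ H₁.relIndex N - 1 := by
  have : (N.map (QuotientGroup.mk' H₁)).Normal :=
    Subgroup.Normal.map inferInstance _ (QuotientGroup.mk'_surjective H₁)
  rw [← index_map_mk hH₁K, ← card_map_mk]
  exact index_dvd_card_sub_one _ _ fun n hn hn1 =>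
    map_centralizer_eq hcomm hH₁K hfrob n (Subgroup.map_mono hNK hn) hn1

theorem three_le_index (hodd : Odd (Nat.card L)) (hKL : K < ⊤) : 3 ≤ K.index := by
  have h1 : K.index ≠ 1 := fun h => hKL.ne (Subgroup.index_eq_one.1 h)
  have h2 : Odd K.index := hodd.of_dvd_nat K.index_dvd_card
  obtain ⟨i, hi⟩ := h2
  omega

theorem big_of_odd_one_mod {e a : ℕ} (he : Odd e) (ha : Odd a) (h : e ∣ a - 1) (h1 : 1 < a) :
    2 * e + 1 ≤ a := by
  obtain ⟨c, hc⟩ := h
  obtain ⟨j, hj⟩ := ha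
  obtain ⟨i, hi⟩ := he
  have hc2 : 2 ∣ c := by
    have h2 : 2 ∣ e * c := ⟨j, by omega⟩
    exact (Nat.Coprime.dvd_of_dvd_mul_left (by rw [hi]; simp) h2)
  obtain ⟨c', rfl⟩ := hc2
  have hc0 : c' ≠ 0 := by rintro rfl; simp at hc; omega
  have : e * 2 ≤ e * (2 * c') := Nat.mul_le_mul_left e (by omega)
  omega

theorem le_two_of_bound {p d e : ℕ} (hp : p.Prime) (he : 3 ≤ e) (hdvd : e ∣ p - 1)
    (hle : p ^ d ≤ 4 * e ^ 2 + 1) : d ≤ 2 := by
  by_contra hd
  have h1 : p ^ 3 ≤ p ^ d := Nat.pow_le_pow_right hp.pos (by omega)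
  have hp1 : 2 ≤ p := hp.two_le
  have h2 : e ≤ p - 1 := Nat.le_of_dvd (by omega) hdvd
  have h3 : 4 ≤ p := by omega
  have h4 : e + 1 ≤ p := by omega
  have h5 : 4 * (e + 1) ^ 2 ≤ p ^ 3 := by
    calc 4 * (e + 1) ^ 2 ≤ p * p ^ 2 := Nat.mul_le_mul h3 (Nat.pow_le_pow_left h4 2)
      _ = p ^ 3 := by ring
  nlinarith

theorem prime_pow_of_chief {Q : Type u} [Group Q] [Finite Q] (V : Subgroup Q) [hV : V.Normal]
    (hne : V ≠ ⊥) (hcomm : ∀ a ∈ V, ∀ b ∈ V, a * b = b * a)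
    (hchief : ∀ W : Subgroup Q, W.Normal → W ≤ V → W = ⊥ ∨ W = V) :
    ∃ p d : ℕ, p.Prime ∧ Nat.card V = p ^ d ∧ 0 < d ∧ ∀ v ∈ V, v ^ p = 1 := by
  have h1 : Nat.card V ≠ 1 := fun h => hne (Subgroup.eq_bot_of_card_eq V h)
  obtain ⟨p, hp, hpd⟩ := Nat.exists_prime_and_dvd h1
  have : Fact p.Prime := ⟨hp⟩
  let W : Subgroup Q :=
    { carrier := {v | v ∈ V ∧ v ^ p = 1}
      mul_mem' := fun {a b} ha hb =>
        ⟨mul_mem ha.1 hb.1, by rw [Commute.mul_pow (hcomm a ha.1 b hb.1), ha.2, hb.2, one_mul]⟩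
      one_mem' := ⟨one_mem _, one_pow _⟩
      inv_mem' := fun {a} ha => ⟨inv_mem ha.1, by rw [inv_pow, ha.2, inv_one]⟩ }
  have hWn : W.Normal := ⟨fun v hv g => ⟨hV.conj_mem v hv.1 g, by rw [conj_pow, hv.2]; group⟩⟩
  obtain ⟨x, hx⟩ := exists_prime_orderOf_dvd_card' (G := V) p hpd
  have hWV : W = V := by
    refine (hchief W hWn fun v hv => hv.1).resolve_left fun h => ?_
    have hmem : (x : Q) ∈ W := ⟨x.2, by
      rw [← SubmonoidClass.coe_pow, ← hx, pow_orderOf_eq_one, OneMemClass.coe_one]⟩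
    rw [h, Subgroup.mem_bot, OneMemClass.coe_eq_one] at hmem
    rw [hmem, orderOf_one] at hx
    exact hp.ne_one hx.symm
  have hexp : ∀ v ∈ V, v ^ p = 1 := fun v hv => (hWV.symm ▸ hv : v ∈ W).2
  have hP : IsPGroup p V := fun v => ⟨1, Subtype.ext (by simpa using hexp v v.2)⟩
  obtain ⟨d, hd⟩ := IsPGroup.iff_card.1 hP
  exact ⟨p, d, hp, hd, Nat.pos_of_ne_zero fun h0 => h1 (by rw [hd, h0, pow_zero]), hexp⟩

variable {F : Finset (L → ℂ)} {T : (L → ℂ) →ₗ[ℂ] (G → ℂ)} {R : (L → ℂ) → Finset (G → ℂ)}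

/-- Peterfalvi (6.5). -/
theorem chief_coherence (hsolv : Group.IsSolvable K) (hS : Sys F T R)
    (hF : (↑F : Set (L → ℂ)) = inducedIrrAbove K ⊥) (hodd : Odd (Nat.card L)) (M : Subgroup L)
    [M.Normal] (hMK : M ≤ K) [(M.subgroupOf K).Normal]
    (hnil : Group.IsNilpotent (↥K ⧸ M.subgroupOf K)) (hH₁ : H₁ = ⁅K, K⁆ ⊔ M) (hH₁K : H₁ < K)
    (hKL : K < ⊤) (hfrob : ∀ k ∈ K, k ∉ H₁ → ∀ x : L, x * k * x⁻¹ * k⁻¹ ∈ H₁ → x ∈ K)
    (hgood : (∃ N : Subgroup L, N.Normal ∧ H₁ < N ∧ N < K) ∨ 4 * K.index ^ 2 + 1 < H₁.relIndex K ∨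
      (¬ ∃ p m : ℕ, p.Prime ∧ M.relIndex K = p ^ m) ∨ ⁅K, K⁆ ≤ M ∨
      (∃ p m : ℕ, p.Prime ∧ M.relIndex K = p ^ m ∧ K.index ∣ p - 1)) :
    ∃ g, IsExt (above K F M) T g := by
  classical
  have hKH : ⁅K, K⁆ ≤ H₁ := hH₁ ▸ le_sup_left
  have hMH : M ≤ H₁ := hH₁ ▸ le_sup_right
  obtain ⟨χ, hχ, -⟩ := exists_linear_mem K hsolv H₁ hH₁K
  obtain ⟨f, hf⟩ := (hS.subset (above_subset H₁) (above_conj hF)).uniform_degree
    ⟨χ, (mem_above hF).2 hχ⟩ fun a ha b hb => by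
      rw [above_degree hKH ((mem_above hF).1 ha), above_degree hKH ((mem_above hF).1 hb)]
  by_contra hno
  have hM : ¬ ⁅K, K⁆ ≤ M := fun h => hno (by
    rw [hH₁, sup_eq_right.2 h] at hf
    exact ⟨f, hf⟩)
  have hsmall : H₁.relIndex K ≤ 4 * K.index ^ 2 + 1 := by
    by_contra hbig
    push Not at hbig
    exact hno (bounded_coherence hsolv hS hF M H₁ K hMH hH₁K.le le_rfl hnil hf hbig)
  have he3 := three_le_index hodd hKL
  have heodd : Odd K.index := hodd.of_dvd_nat K.index_dvd_card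
  have hreldvd : ∀ A B : Subgroup L, Odd (A.relIndex B) := fun A B =>
    hodd.of_dvd_nat ((Subgroup.index_dvd_card (A.subgroupOf B)).trans B.card_subgroup_dvd_card)
  have hchief : ∀ N : Subgroup L, N.Normal → H₁ < N → ¬ N < K := by
    intro N hN h1 h2
    have hmul : H₁.relIndex N * N.relIndex K = H₁.relIndex K :=
      Subgroup.relIndex_mul_relIndex H₁ N K h1.le h2.le
    have hne1 : ∀ A B : Subgroup L, A < B → 1 < A.relIndex B := fun A B h => by
      have h3 : A.relIndex B ≠ 1 := fun e => h.not_ge (Subgroup.relIndex_eq_one.1 e)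
      have h4 : A.relIndex B ≠ 0 := Subgroup.index_ne_zero_of_finite
      omega
    have ha := frob_congr hKH hH₁K.le hfrob N h2.le
    have hab := frob_congr hKH hH₁K.le hfrob K le_rfl
    have hb : K.index ∣ N.relIndex K - 1 := by
      set a := H₁.relIndex N with hadef
      set b := N.relIndex K with hbdef
      obtain ⟨i, hi⟩ := ha
      obtain ⟨j, hj⟩ := hab
      have hb1 : 1 < b := hne1 N K h2
      have ha1 : 1 < a := hne1 H₁ N h1
      have e1 : a = K.index * i + 1 := by omega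
      have e3 : a * b = K.index * (i * b) + b := by rw [e1]; ring
      have e4 : a * b - 1 = K.index * j := by rw [hmul]; exact hj
      have e2 : K.index * (i * b) + (b - 1) = K.index * j := by omega
      exact (Nat.dvd_add_right (dvd_mul_right _ _)).1 ⟨j, e2⟩
    have h3 := big_of_odd_one_mod heodd (hreldvd H₁ N) ha (hne1 _ _ h1)
    have h4 := big_of_odd_one_mod heodd (hreldvd N K) hb (hne1 _ _ h2)
    have h5 := Nat.mul_le_mul h3 h4
    rw [hmul] at h5
    nlinarith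
  -- the chief factor in `Q = L/H₁`
  set Q := L ⧸ H₁
  set π := QuotientGroup.mk' H₁ with hπ
  set V := K.map π with hV
  have hVn : V.Normal := Subgroup.Normal.map ‹K.Normal› _ (QuotientGroup.mk'_surjective H₁)
  have hcentV := map_centralizer_eq hKH hH₁K.le hfrob
  have hVcomm : ∀ a ∈ V, ∀ b ∈ V, a * b = b * a := by
    intro a ha b hb
    by_cases hb1 : b = 1
    · simp [hb1]
    · exact Subgroup.mem_centralizer_singleton_iff.1 ((hcentV b hb hb1).symm ▸ ha)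
  have hVne : V ≠ ⊥ := by
    rw [hV, Ne, Subgroup.map_eq_bot_iff, QuotientGroup.ker_mk']
    exact hH₁K.not_ge
  have hVchief : ∀ W : Subgroup Q, W.Normal → W ≤ V → W = ⊥ ∨ W = V := by
    intro W hW hWV
    have hsurj : Function.Surjective π := QuotientGroup.mk'_surjective H₁
    have hn : (W.comap π).Normal := hW.comap π
    have hle : W.comap π ≤ K := fun x hx => by
      obtain ⟨k, hk, he⟩ := hWV hx
      have h2 := hH₁K.le (QuotientGroup.eq.1 he)
      have := mul_mem hk h2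
      rwa [mul_inv_cancel_left] at this
    have hge : H₁ ≤ W.comap π := fun x hx => by
      show π x ∈ W
      rw [show π x = 1 from (QuotientGroup.eq_one_iff x).2 hx]
      exact one_mem _
    rcases hge.eq_or_lt with h | h
    · left
      rw [← Subgroup.map_comap_eq_self_of_surjective hsurj W, ← h, Subgroup.map_eq_bot_iff,
        QuotientGroup.ker_mk']
    · right
      rw [← Subgroup.map_comap_eq_self_of_surjective hsurj W,
        eq_of_le_of_not_lt hle (hchief _ hn h)]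
  obtain ⟨p, d, hp, hd, hd0, hexp⟩ := prime_pow_of_chief V hVne hVcomm hVchief
  have hVcard : Nat.card V = H₁.relIndex K := card_map_mk H₁ K
  have : Fact p.Prime := ⟨hp⟩
  -- `K/M` is a `p`-group
  set P := K ⧸ M.subgroupOf K
  set ρ := QuotientGroup.mk' (M.subgroupOf K) with hρ
  have hH₁sub : H₁.subgroupOf K = commutator K ⊔ M.subgroupOf K := by
    apply Subgroup.map_injective K.subtype_injective
    rw [Subgroup.map_sup, Subgroup.map_subtype_commutator, Subgroup.subgroupOf_map_subtype,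
      Subgroup.subgroupOf_map_subtype, inf_eq_left.2 hMK, inf_eq_left.2 hH₁K.le, hH₁]
  have hmapH : commutator P = (H₁.subgroupOf K).map ρ := by
    rw [hH₁sub, Subgroup.map_sup, (Subgroup.map_eq_bot_iff (f := ρ) (M.subgroupOf K)).2 (by rw [hρ, QuotientGroup.ker_mk']),
      sup_bot_eq, commutator_def, commutator_def, Subgroup.map_commutator,
      Subgroup.map_top_of_surjective _ (QuotientGroup.mk'_surjective _)]
  have hcommP : (commutator P).index = H₁.relIndex K := by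
    rw [hmapH]
    exact Subgroup.index_map_eq _ (QuotientGroup.mk'_surjective _)
      (by rw [QuotientGroup.ker_mk']; exact fun x hx => hMH hx)
  obtain ⟨m, hm⟩ := card_eq_pow_of_commutator_index (P := P) (p := p) (d := d)
    (by rw [hcommP, ← hVcard, hd])
  have hMp : M.relIndex K = p ^ m := hm
  rcases hgood with ⟨N, hN, h1, h2⟩ | hbig | hnp | hab | ⟨p', m', hp', hMp', hdvd⟩
  · exact hchief N hN h1 h2
  · omega
  · exact hnp ⟨p, m, hp, hMp⟩
  · exact hM hab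
  have hm0 : m ≠ 0 := by
    rintro rfl
    rw [pow_zero, Subgroup.relIndex_eq_one] at hMp
    exact hM (le_trans (Subgroup.commutator_le_left K K) hMp)
  have hpp : p' = p := by
    have : p ∣ p' ^ m' := hMp' ▸ hMp ▸ dvd_pow_self p hm0
    exact ((Nat.prime_dvd_prime_iff_eq hp hp').1 (hp.dvd_of_dvd_pow this)).symm
  subst hpp
  have hd2 : d ≤ 2 := le_two_of_bound hp he3 hdvd (by rw [← hd, hVcard]; exact hsmall)
  obtain rfl : d = 1 := by
    by_contra hne
    have hd' : d = 2 := by omega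
    subst hd'
    have hcentall : ∀ k ∈ V, ∀ v ∈ V, k * v = v * k := hVcomm
    obtain ⟨W, hWn, hWV, hWc⟩ := exists_invariant_prime_order V hVcomm hd hexp V hcentall
      (by rw [hV, index_map_mk hH₁K.le]; exact heodd) (by rw [hV, index_map_mk hH₁K.le]; exact hdvd)
    rcases hVchief W hWn hWV with h | h
    · rw [h, Subgroup.card_bot] at hWc; exact hp.ne_one hWc.symm
    · rw [h, hd] at hWc
      have h2 := hp.two_le
      nlinarith
  -- cyclic abelianisation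
  obtain ⟨v, hv, hv1⟩ : ∃ v ∈ V, v ≠ 1 := by
    by_contra h
    push Not at h
    exact hVne ((Subgroup.eq_bot_iff_forall V).2 h)
  have hVv : Subgroup.zpowers v = V := zpowers_eq_of_mem (by rw [hd, pow_one]) hv hv1
  obtain ⟨x, hx, rfl⟩ := hv
  have hgen : Subgroup.zpowers (ρ ⟨x, hx⟩) ⊔ commutator P = ⊤ := by
    rw [eq_top_iff]
    intro y _
    obtain ⟨⟨k, hk⟩, rfl⟩ := QuotientGroup.mk'_surjective (M.subgroupOf K) y
    obtain ⟨i, hi⟩ := Subgroup.mem_zpowers_iff.1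
      (hVv.symm ▸ Subgroup.mem_map_of_mem π hk : π k ∈ Subgroup.zpowers (π x))
    rw [← map_zpow] at hi
    have hmem : (x ^ i)⁻¹ * k ∈ H₁ := QuotientGroup.eq.1 hi
    have e : (⟨k, hk⟩ : K) = (⟨x, hx⟩ : K) ^ i * ((⟨x, hx⟩ ^ i : K)⁻¹ * ⟨k, hk⟩) :=
      (mul_inv_cancel_left _ _).symm
    rw [e, map_mul, map_zpow]
    refine mul_mem (Subgroup.mem_sup_left (Subgroup.zpow_mem _ (Subgroup.mem_zpowers _) i))
      (Subgroup.mem_sup_right ?_)
    rw [hmapH]
    exact Subgroup.mem_map_of_mem _ (Subgroup.mem_subgroupOf.2 (by simpa using hmem))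
  have hc := isMulCommutative_of_sup_zpowers hgen
  refine hM (Subgroup.commutator_le.2 fun a ha b hb => ?_)
  have h := hc (ρ ⟨a, ha⟩) (ρ ⟨b, hb⟩)
  have h2 : ρ (⟨a, ha⟩ * ⟨b, hb⟩ * (⟨a, ha⟩ : K)⁻¹ * (⟨b, hb⟩ : K)⁻¹) = 1 := by
    rw [map_mul, map_mul, map_mul, h, map_inv, map_inv, mul_inv_cancel_right, mul_inv_cancel]
  exact Subgroup.mem_subgroupOf.1 ((QuotientGroup.eq_one_iff _).1 h2)

end CfsgLib.Coherence
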