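import Cfsg.Agent.Coherence.Ext

/-!
# Coherence of sets of irreducible characters

Signs of coherent images, Feit's criterion, union of two coherent sets, and uniform degree.
No closure under conjugation is assumed.
-/

set_option autoImplicit false
set_option linter.unusedSectionVars false

namespace CfsgLib.Coherence

open Cfsg ComplexConjugate CfsgLib.Characters

universe u v

variable {L : Type u} [Group L] [Fintype L] {G : Type v} [Group G] [Fintype G]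

theorem degSet_irr {S : Finset (L → ℂ)} (h : ∀ χ ∈ S, IsIrrCharacter L χ) : DegSet S :=
  ⟨⟨fun χ hχ => irr_ne_zero (h χ hχ),
    fun χ hχ φ hφ hne => classInner_isIrr_ne (h χ hχ) (h φ hφ) hne⟩,
    fun χ hχ => exists_degree_pos (h χ hχ)⟩

theorem finite_irr_set {S : Set (L → ℂ)} (h : ∀ χ ∈ S, IsIrrCharacter L χ) : S.Finite :=
  (Set.finite_range (fun χ : IrrCharacter L => (χ : L → ℂ))).subset fun χ hχ => ⟨⟨χ, h χ hχ⟩, rfl⟩

theorem ci_irr {a b : G → ℂ} (ha : IsIrrCharacter G a) (hb : IsIrrCharacter G b)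
    [Decidable (a = b)] : classInner a b = if a = b then 1 else 0 := by
  split_ifs with h
  · rw [h, classInner_isIrr_self hb]
  · exact classInner_isIrr_ne ha hb h

variable {S : Finset (L → ℂ)} {T : (L → ℂ) →ₗ[ℂ] (G → ℂ)} {f : (L → ℂ) → (G → ℂ)}

theorem IsExt.signed (hf : IsExt S T f) (hirr : ∀ χ ∈ S, IsIrrCharacter L χ) {χ : L → ℂ}
    (hχ : χ ∈ S) : IsIrrCharacter G (f χ) ∨ IsIrrCharacter G (-f χ) :=
  gen_norm_one (hf.gen χ hχ) (by rw [hf.inner χ hχ χ hχ, classInner_isIrr_self (hirr χ hχ)])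

theorem IsExt.inj (hf : IsExt S T f) (hS : DegSet S) {χ φ : L → ℂ} (hχ : χ ∈ S) (hφ : φ ∈ S)
    (h : f χ = f φ) : χ = φ := by
  by_contra hne
  have h1 := hf.inner χ hχ φ hφ
  rw [← h, hf.inner χ hχ χ hχ, hS.1.2 χ hχ φ hφ hne] at h1
  exact ci_self_ne_zero (hS.1.1 χ hχ) h1

/-- The values at `1` of a coherent extension are proportional to the degrees. -/
theorem IsExt.one_mul (hf : IsExt S T f) (hS : DegSet S) (hT : Isom (↑S : Set (L → ℂ)) T)
    {χ φ : L → ℂ} (hχ : χ ∈ S) (hφ : φ ∈ S) : φ 1 * f χ 1 = χ 1 * f φ 1 := by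
  have h1 := congrFun (hf.agree χ hχ φ hφ) 1
  rw [hT.one _ (hS.edge_mem hχ hφ)] at h1
  simpa [sub_eq_zero] using h1

/-- All images have one common sign. -/
theorem IsExt.exists_sign (hf : IsExt S T f) (hirr : ∀ χ ∈ S, IsIrrCharacter L χ)
    (hT : Isom (↑S : Set (L → ℂ)) T) :
    ∃ ε : ℂ, (ε = 1 ∨ ε = -1) ∧ ∀ χ ∈ S, IsIrrCharacter G (ε • f χ) := by
  by_cases hne : S.Nonempty
  · obtain ⟨φ, hφ⟩ := hne
    have hS := degSet_irr hirr
    have key : ∀ a ∈ S, ∀ b ∈ S, IsIrrCharacter G (f a) → IsIrrCharacter G (-f b) → False := by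
      intro a ha b hb h1 h2
      obtain ⟨m, hm0, hm⟩ := exists_degree_pos h1
      obtain ⟨n, hn0, hn⟩ := exists_degree_pos h2
      obtain ⟨i, hi0, hi⟩ := hS.2 a ha
      obtain ⟨j, hj0, hj⟩ := hS.2 b hb
      have h3 := hf.one_mul hS hT ha hb
      rw [Pi.neg_apply, neg_eq_iff_eq_neg] at hn
      rw [hm, hn, hi, hj] at h3
      have h4 : ((j * m + i * n : ℕ) : ℂ) = 0 := by push_cast; linear_combination h3
      have h5 : j * m + i * n = 0 := Nat.cast_eq_zero.1 h4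
      have : 0 < j * m := Nat.mul_pos hj0 hm0
      omega
    rcases hf.signed hirr hφ with h | h
    · refine ⟨1, Or.inl rfl, fun χ hχ => ?_⟩
      rw [one_smul]
      exact (hf.signed hirr hχ).resolve_right fun h' => key φ hφ χ hχ h h'
    · refine ⟨-1, Or.inr rfl, fun χ hχ => ?_⟩
      rw [neg_one_smul]
      exact (hf.signed hirr hχ).resolve_left fun h' => key χ hχ φ hφ h' h
  · exact ⟨1, Or.inl rfl, fun χ hχ => absurd ⟨χ, hχ⟩ hne⟩

/-- Feit's criterion for adding one irreducible character. -/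
theorem feit_extend [DecidableEq (L → ℂ)] {S₀ : Finset (L → ℂ)} {χ : L → ℂ}
    (hirr : ∀ φ ∈ insert χ S₀, IsIrrCharacter L φ) (hχS : χ ∉ S₀)
    (hT : Isom (↑(insert χ S₀) : Set (L → ℂ)) T) (hf : IsExt S₀ T f) {ψ : L → ℂ} (hψ : ψ ∈ S₀)
    (hdvd : ∃ d : ℕ, χ 1 = (d : ℂ) * ψ 1)
    (hlt : 2 * (χ 1).re * (ψ 1).re < ∑ φ ∈ S₀, (φ 1).re ^ 2) :
    ∃ g, IsExt (insert χ S₀) T g := by
  classical
  obtain ⟨d, hd⟩ := hdvd
  have hS := degSet_irr hirr
  have hsub : S₀ ⊆ insert χ S₀ := Finset.subset_insert _ _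
  have hχ : χ ∈ insert χ S₀ := Finset.mem_insert_self _ _
  obtain ⟨e, he0, he⟩ := hS.2 ψ (hsub hψ)
  have hne : χ ≠ ψ := fun h => hχS (h ▸ hψ)
  have hmem : χ - (d : ℂ) • ψ ∈ zspanOn (↑(insert χ S₀) : Set (L → ℂ)) {1}ᶜ :=
    mem_zspanOn_one.2 ⟨Submodule.sub_mem _ (mem_zspan_of_mem hχ) (natCast_smul_mem_zspan (hsub hψ) d),
      by simp [hd]⟩
  have hd0 : 0 < d := by
    refine Nat.pos_of_ne_zero fun h => hS.one_ne_zero hχ ?_
    rw [hd, h, Nat.cast_zero, zero_mul]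
  set β := T (χ - (d : ℂ) • ψ) with hβdef
  have hβ : IsGeneralizedCharacter G β := hT.gen _ hmem
  obtain ⟨b, hb⟩ := ci_int hβ (hf.gen ψ hψ)
  set a : ℤ := b + d with ha
  have hcoef : ∀ φ ∈ S₀, classInner β (f φ) =
      ((a : ℂ) * φ 1 - (if φ = ψ then (d : ℂ) * ψ 1 else 0)) / ψ 1 := by
    intro φ hφ
    rw [eq_div_iff (hS.one_ne_zero (hsub hψ))]
    have h1 := hT.inner _ hmem _
      (zspanOn_mono (Finset.coe_subset.2 hsub) _ ((hS.subset hsub).edge_mem hφ hψ))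
    rw [← hβdef, ← hf.agree φ hφ ψ hψ] at h1
    simp only [edge, ci_sub_left, ci_sub_right, ci_smul_left, ci_smul_right,
      hS.conj_one (hsub hψ), hS.conj_one (hsub hφ), hb, classInner_isIrr_self (hirr ψ (hsub hψ)),
      hS.1.2 χ hχ ψ (hsub hψ) hne, hS.1.2 χ hχ φ (hsub hφ) (fun h => hχS (h ▸ hφ))] at h1
    rw [ci_irr (hirr ψ (hsub hψ)) (hirr φ (hsub hφ))] at h1
    rw [ha]; push_cast
    split_ifs at h1 ⊢ <;> first | linear_combination h1 | (subst_vars; simp at *)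
  have hUnit : ∀ φ ∈ S₀, classInner (f φ) (f φ) = 1 := fun φ hφ => by
    rw [hf.inner φ hφ φ hφ, classInner_isIrr_self (hirr φ (hsub hφ))]
  have hinj : ∀ φ ∈ S₀, ∀ φ' ∈ S₀, f φ = f φ' → φ = φ' := fun φ hφ φ' hφ' =>
    hf.inj (hS.subset hsub) hφ hφ'
  have hV : IsOrthSet (S₀.image f) := by
    refine ⟨fun x hx h0 => ?_, fun x hx y hy hxy => ?_⟩
    · obtain ⟨φ, hφ, rfl⟩ := Finset.mem_image.1 hx
      simpa [h0] using hUnit φ hφ
    · obtain ⟨φ, hφ, rfl⟩ := Finset.mem_image.1 hx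
      obtain ⟨φ', hφ', rfl⟩ := Finset.mem_image.1 hy
      rw [hf.inner φ hφ φ' hφ']
      exact hS.1.2 φ (hsub hφ) φ' (hsub hφ') fun h => hxy (h ▸ rfl)
  have hproj : orthProj (S₀.image f) β = ∑ φ ∈ S₀, classInner β (f φ) • f φ := by
    rw [orthProj, Finset.sum_image hinj]
    exact Finset.sum_congr rfl fun φ hφ => by rw [coef, hUnit φ hφ, div_one]
  set Z := β - orthProj (S₀.image f) β with hZ
  have hZgen : IsGeneralizedCharacter G Z := by
    rw [hZ, hproj]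
    refine isGen_sub hβ (isGen_sum _ _ fun φ hφ => ?_)
    obtain ⟨m, hm⟩ := ci_int hβ (hf.gen φ hφ)
    rw [hm]; exact isGen_intCast_smul (hf.gen φ hφ) m
  obtain ⟨c, -, -, hc⟩ := exists_coeff_norm hZgen
  set N : ℤ := ∑ χ' : IrrCharacter G, c χ' ^ 2 with hN
  have hN0 : 0 ≤ N := Finset.sum_nonneg fun χ' _ => sq_nonneg _
  have hNorm : (1 : ℂ) + (d : ℂ) ^ 2 - ∑ φ ∈ S₀, classInner β (f φ) * classInner β (f φ) = (N : ℂ) := by
    rw [← hc, hZ, inner_sub_orthProj_self hV]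
    congr 1
    · rw [hT.inner _ hmem _ hmem]
      simp only [ci_sub_left, ci_sub_right, ci_smul_left, ci_smul_right, Complex.conj_natCast,
        classInner_isIrr_self (hirr χ hχ), classInner_isIrr_self (hirr ψ (hsub hψ)),
        hS.1.2 χ hχ ψ (hsub hψ) hne, hS.1.2 ψ (hsub hψ) χ hχ hne.symm]
      ring
    · rw [Finset.sum_image hinj]
      refine Finset.sum_congr rfl fun φ hφ => ?_
      rw [hUnit φ hφ, div_one]
      obtain ⟨m, hm⟩ := ci_int hβ (hf.gen φ hφ)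
      rw [hm, map_intCast]
  choose k hk0 hk using fun φ : S₀ => hS.2 φ.1 (hsub φ.2)
  set Q : ℤ := ∑ φ : S₀, (k φ : ℤ) ^ 2 with hQdef
  have hQC : ∑ φ ∈ S₀, φ 1 ^ 2 = (Q : ℂ) := by
    rw [hQdef, ← Finset.sum_attach]
    push_cast
    exact Finset.sum_congr rfl fun φ _ => by rw [hk φ]
  have hQlt : 2 * ((d : ℤ) * e * e) < Q := by
    have h1 : (∑ φ ∈ S₀, (φ 1).re ^ 2) = (Q : ℝ) := by
      rw [hQdef, ← Finset.sum_attach]
      push_cast
      exact Finset.sum_congr rfl fun φ _ => by rw [hk φ, Complex.natCast_re]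
    rw [hd, he, h1, ← Nat.cast_mul, Complex.natCast_re, Complex.natCast_re] at hlt
    push_cast at hlt
    have h2 : ((2 * ((d : ℤ) * e * e) : ℤ) : ℝ) < (Q : ℝ) := by push_cast; linarith
    exact_mod_cast h2
  have he' : (e : ℂ) ≠ 0 := Nat.cast_ne_zero.2 he0.ne'
  have hsumsq : (e : ℤ) ^ 2 * (1 - N) = a ^ 2 * Q - 2 * a * (d * e * e) := by
    have h1 : (e : ℂ) ^ 2 * ∑ φ ∈ S₀, classInner β (f φ) * classInner β (f φ) =
        (a : ℂ) ^ 2 * (Q : ℂ) + (e : ℂ) ^ 2 * ((d : ℂ) ^ 2 - 2 * a * d) := by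
      rw [Finset.mul_sum, ← hQC, Finset.mul_sum]
      have h2 : ∀ φ ∈ S₀, (e : ℂ) ^ 2 * (classInner β (f φ) * classInner β (f φ)) =
          (a : ℂ) ^ 2 * φ 1 ^ 2 + if φ = ψ then (e : ℂ) ^ 2 * ((d : ℂ) ^ 2 - 2 * a * d) else 0 := by
        intro φ hφ
        rw [hcoef φ hφ, he]
        split_ifs with h
        · rw [h, he]; field_simp; ring
        · field_simp; ring
      rw [Finset.sum_congr rfl h2, Finset.sum_add_distrib, Finset.sum_ite_eq' S₀ ψ, if_pos hψ]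
    have h3 : ((e : ℤ) ^ 2 * (1 - N) : ℤ) = ((a ^ 2 * Q - 2 * a * (d * e * e) : ℤ) : ℂ) := by
      push_cast
      linear_combination h1 + (e : ℂ) ^ 2 * hNorm
    exact_mod_cast h3
  have ha0 : a = 0 := by
    by_cases hN1 : N = 0
    · -- `β` is a combination of the images: impossible
      exfalso
      have hZ0 : Z = 0 := ci_self_eq_zero_iff.1 (by rw [hc, hN1, Int.cast_zero])
      have h1 := congrFun hZ0 1
      rw [hZ, Pi.sub_apply, show β 1 = 0 from hT.one _ hmem, hproj, Pi.zero_apply, zero_sub, neg_eq_zero,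
        Finset.sum_apply] at h1
      simp only [Pi.smul_apply, smul_eq_mul] at h1
      have h2 : ∀ φ ∈ S₀, classInner β (f φ) * f φ 1 * (e : ℂ) ^ 2 = f ψ 1 *
          ((a : ℂ) * φ 1 ^ 2 - if φ = ψ then (d : ℂ) * e * e else 0) := by
        intro φ hφ
        have h3 := hf.one_mul (hS.subset hsub) (hT.mono (Finset.coe_subset.2 hsub)) hφ hψ
        rw [he] at h3
        rw [hcoef φ hφ, he]
        split_ifs with h
        · rw [h, he]; field_simp
        · field_simp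
          linear_combination (a : ℂ) * φ 1 * h3
      have h4 : f ψ 1 * ((a : ℂ) * Q - (d : ℂ) * e * e) = 0 := by
        have h5 := congrArg (· * (e : ℂ) ^ 2) h1
        simp only [Finset.sum_mul, zero_mul, Finset.sum_congr rfl h2, ← Finset.mul_sum,
          Finset.sum_sub_distrib, Finset.sum_ite_eq' S₀ ψ, if_pos hψ, hQC] at h5
        exact h5
      have hfψ : f ψ 1 ≠ 0 :=
        signed_one_ne_zero (hf.signed (fun φ hφ => hirr φ (hsub hφ)) hψ)
      have h6 : a * Q = (d : ℤ) * e * e := by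
        have h7 := sub_eq_zero.1 ((mul_eq_zero.1 h4).resolve_left hfψ)
        exact_mod_cast h7
      have hpos : 0 < (d : ℤ) * e * e := by positivity
      have h8 : 0 < Q := by linarith
      have h9 : 0 < a := by nlinarith
      nlinarith
    · by_contra hane
      have h1 : a ^ 2 * Q ≤ 2 * a * (d * e * e) := by
        have : (e : ℤ) ^ 2 * (1 - N) ≤ 0 :=
          mul_nonpos_of_nonneg_of_nonpos (sq_nonneg _) (by omega)
        linarith
      have hsq : a ≤ a ^ 2 := Int.le_self_sq a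
      have h3 : 0 < a ^ 2 := by positivity
      have h4 : 0 ≤ (d : ℤ) * e * e := by positivity
      nlinarith [mul_le_mul_of_nonneg_right hsq h4, mul_lt_mul_of_pos_left hQlt h3]
  obtain ⟨g, hg, -⟩ := hf.extend hS hsub hT hψ (fun _ => d)
    (fun x hx hxn => by
      rcases Finset.mem_insert.1 hx with rfl | h
      · exact hd
      · exact absurd h hxn)
    (fun x hx hxn => by
      rcases Finset.mem_insert.1 hx with rfl | h
      · rw [← ci_conj, ← hβdef, hb, map_intCast, ci_sub_right, ci_smul_right,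
          classInner_isIrr_self (hirr ψ (hsub hψ)), hS.1.2 ψ (hsub hψ) x hχ hne.symm,
          Complex.conj_natCast]
        have h10 : b = -(d : ℤ) := by linarith
        rw [h10]; push_cast; ring
      · exact absurd h hxn)
  exact ⟨g, hg⟩

/-- Images of two disjoint coherent sets, each with two or more members, are orthogonal. -/
theorem cross_orth {X Y : Finset (L → ℂ)} (hirr : ∀ φ ∈ S, IsIrrCharacter L φ) (hX : X ⊆ S) (hY : Y ⊆ S)
    (hXY : Disjoint X Y) (hX2 : ∀ a ∈ X, ∃ b ∈ X, b ≠ a) (hY2 : ∀ a ∈ Y, ∃ b ∈ Y, b ≠ a)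
    (hT : Isom (↑S : Set (L → ℂ)) T) {σ τ : (L → ℂ) → (G → ℂ)} (hσ : IsExt X T σ)
    (hτ : IsExt Y T τ) {χ η : L → ℂ} (hχ : χ ∈ X) (hη : η ∈ Y) :
    classInner (σ χ) (τ η) = 0 := by
  classical
  by_contra hne0
  have hS := degSet_irr hirr
  obtain ⟨χ', hχ', hχne⟩ := hX2 χ hχ
  obtain ⟨η', hη', hηne⟩ := hY2 η hη
  have hirX : ∀ φ ∈ X, IsIrrCharacter L φ := fun φ hφ => hirr φ (hX hφ)
  have hirY : ∀ φ ∈ Y, IsIrrCharacter L φ := fun φ hφ => hirr φ (hY hφ)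
  obtain ⟨ε, hε, hηeq⟩ := classInner_signed (hσ.signed hirX hχ) (hτ.signed hirY hη) hne0
  have hε0 : (ε : ℂ) ≠ 0 := by rcases hε with rfl | rfl <;> norm_num
  have hbb : classInner (σ χ) (σ χ) = 1 := by
    rw [hσ.inner χ hχ χ hχ, classInner_isIrr_self (hirX χ hχ)]
  have hab : classInner (σ χ') (σ χ) = 0 := by
    rw [hσ.inner χ' hχ' χ hχ]; exact hS.1.2 χ' (hX hχ') χ (hX hχ) hχne
  have hcb : classInner (σ χ) (τ η') = 0 := by
    have h1 : classInner (τ η) (τ η') = 0 := by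
      rw [hτ.inner η hη η' hη']; exact hS.1.2 η (hY hη) η' (hY hη') hηne.symm
    rw [hηeq, ci_smul_left, mul_eq_zero] at h1
    exact h1.resolve_left hε0
  -- the two differences are orthogonal
  have h0 : classInner (T (edge χ' χ)) (T (edge η' η)) = 0 := by
    rw [hT.inner _ (hS.edge_mem (hX hχ') (hX hχ)) _ (hS.edge_mem (hY hη') (hY hη))]
    have hd : ∀ a ∈ X, ∀ b ∈ Y, classInner a b = 0 := fun a ha b hb =>
      hS.1.2 a (hX ha) b (hY hb) fun h => Finset.disjoint_left.1 hXY ha (h ▸ hb)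
    simp only [edge, ci_sub_left, ci_sub_right, ci_smul_left, ci_smul_right, hd χ' hχ' η' hη',
      hd χ' hχ' η hη, hd χ hχ η' hη', hd χ hχ η hη]
    ring
  rw [← hσ.agree χ' hχ' χ hχ, ← hτ.agree η' hη' η hη, hηeq] at h0
  simp only [ci_sub_left, ci_sub_right, ci_smul_left, ci_smul_right, hab, hcb, hbb, map_intCast,
    hS.conj_one (hY hη), hS.conj_one (hY hη')] at h0
  have hac : classInner (σ χ') (τ η') ≠ 0 := by
    intro h
    rw [h] at h0
    have : χ' 1 * (η' 1 * (ε : ℂ)) = 0 := by linear_combination h0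
    simp [hS.one_ne_zero (hX hχ'), hS.one_ne_zero (hY hη'), hε0] at this
  obtain ⟨δ, hδ, hη'eq⟩ := classInner_signed (hσ.signed hirX hχ') (hτ.signed hirY hη') hac
  have haa : classInner (σ χ') (σ χ') = 1 := by
    rw [hσ.inner χ' hχ' χ' hχ', classInner_isIrr_self (hirX χ' hχ')]
  rw [hη'eq, ci_smul_right, haa, map_intCast] at h0
  -- values at one
  have e1 := hσ.one_mul (degSet_irr hirX) (hT.mono (Finset.coe_subset.2 hX)) hχ' hχ
  have e2 := hτ.one_mul (degSet_irr hirY) (hT.mono (Finset.coe_subset.2 hY)) hη' hη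
  rw [hηeq, hη'eq, Pi.smul_apply, Pi.smul_apply, smul_eq_mul, smul_eq_mul] at e2
  have hb1 : σ χ 1 ≠ 0 := signed_one_ne_zero (hσ.signed hirX hχ)
  have e3 : (δ : ℂ) * η 1 * χ' 1 = (ε : ℂ) * η' 1 * χ 1 :=
    mul_right_cancel₀ hb1 (by linear_combination χ 1 * e2 - (δ : ℂ) * η 1 * e1)
  have e4 : (ε : ℂ) * η' 1 * (χ 1 ^ 2 + χ' 1 ^ 2) = 0 := by
    linear_combination χ' 1 * h0 - χ 1 * e3
  obtain ⟨m, hm0, hm⟩ := hS.2 χ (hX hχ)
  obtain ⟨n, -, hn⟩ := hS.2 χ' (hX hχ')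
  rw [hm, hn] at e4
  have : ((m ^ 2 + n ^ 2 : ℕ) : ℂ) = 0 := by
    push_cast
    exact (mul_eq_zero.1 e4).resolve_left (mul_ne_zero hε0 (hS.one_ne_zero (hY hη')))
  have h7 : m ^ 2 + n ^ 2 = 0 := Nat.cast_eq_zero.1 this
  have : 0 < m ^ 2 := by positivity
  omega

/-- Two coherent sets linked by one equation form a coherent set. -/
theorem isExt_union [DecidableEq (L → ℂ)] {X Y : Finset (L → ℂ)} (hS : DegSet (X ∪ Y))
    {σ τ : (L → ℂ) → (G → ℂ)} (hσ : IsExt X T σ) (hτ : IsExt Y T τ)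
    (horth : ∀ χ ∈ X, ∀ η ∈ Y, classInner (σ χ) (τ η) = 0) {χ₀ η₀ : L → ℂ} (hχ₀ : χ₀ ∈ X)
    (hη₀ : η₀ ∈ Y) (hlink : T (edge η₀ χ₀) = χ₀ 1 • τ η₀ - η₀ 1 • σ χ₀) :
    ∃ g, IsExt (X ∪ Y) T g := by
  classical
  refine ⟨fun φ => if φ ∈ X then σ φ else τ φ, ?_, ?_, ?_⟩
  · intro φ hφ
    split_ifs with h
    · exact hσ.gen φ h
    · exact hτ.gen φ ((Finset.mem_union.1 hφ).resolve_left h)
  · intro a ha b hb
    split_ifs with h1 h2 h2
    · exact hσ.inner a h1 b h2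
    · have hb' := (Finset.mem_union.1 hb).resolve_left h2
      rw [horth a h1 b hb', hS.1.2 a ha b hb fun h => h2 (h ▸ h1)]
    · have ha' := (Finset.mem_union.1 ha).resolve_left h1
      rw [← ci_conj, horth b h2 a ha', map_zero, hS.1.2 a ha b hb fun h => h1 (h ▸ h2)]
    · exact hτ.inner a ((Finset.mem_union.1 ha).resolve_left h1) b ((Finset.mem_union.1 hb).resolve_left h2)
  · have hx1 : χ₀ 1 ≠ 0 := hS.one_ne_zero (Finset.mem_union_left _ hχ₀)
    refine agree_of_pivot hx1 fun φ hφ => ?_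
    simp only [if_pos hχ₀]
    split_ifs with h
    · exact hσ.agree φ h χ₀ hχ₀
    · have hφY := (Finset.mem_union.1 hφ).resolve_left h
      apply smul_right_injective (G → ℂ) (hS.one_ne_zero (Finset.mem_union_right _ hη₀))
      simp only
      have e : η₀ 1 • edge φ χ₀ = χ₀ 1 • edge φ η₀ + φ 1 • edge η₀ χ₀ := by
        simp only [edge, smul_sub, smul_smul]; module
      rw [← map_smul, e, map_add, map_smul, map_smul, hlink, ← hτ.agree φ hφY η₀ hη₀]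
      simp only [smul_sub, smul_smul]; module

omit [Fintype L] in
/-- Two differences of irreducibles with inner product one share exactly one end. -/
theorem share_end {μ ν μ' ν' : G → ℂ} (h1 : IsIrrCharacter G μ) (h2 : IsIrrCharacter G ν)
    (h3 : IsIrrCharacter G μ') (h4 : IsIrrCharacter G ν') (hne : μ ≠ ν) (hne' : μ' ≠ ν')
    (h : classInner (μ - ν) (μ' - ν') = 1) : (μ = μ' ∧ ν ≠ ν') ∨ (ν = ν' ∧ μ ≠ μ') := by
  classical
  rw [ci_sub_left, ci_sub_right, ci_sub_right, ci_irr h1 h3, ci_irr h1 h4, ci_irr h2 h3,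
    ci_irr h2 h4] at h
  split_ifs at h <;> first | (exfalso; norm_num at h; done) | grind

/-- A set of irreducibles of one degree is coherent. -/
theorem uniform_irr [DecidableEq (L → ℂ)] (hirr : ∀ χ ∈ S, IsIrrCharacter L χ)
    (hT : Isom (↑S : Set (L → ℂ)) T) (hdeg : ∀ φ ∈ S, ∀ ψ ∈ S, φ 1 = ψ 1) :
    ∃ g, IsExt S T g := by
  classical
  by_cases hne : S.Nonempty
  swap
  · refine ⟨fun _ => 0, ?_, ?_, ?_⟩ <;> intro a ha <;> exact absurd ⟨a, ha⟩ hne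
  obtain ⟨χ₁, hχ₁⟩ := hne
  have hS := degSet_irr hirr
  set S' := S.erase χ₁ with hS'
  have hmem : ∀ φ ∈ S', χ₁ - φ ∈ zspanOn (↑S : Set (L → ℂ)) {1}ᶜ := fun φ hφ =>
    mem_zspanOn_one.2 ⟨Submodule.sub_mem _ (mem_zspan_of_mem hχ₁)
      (mem_zspan_of_mem (Finset.mem_of_mem_erase hφ)),
      by simp [hdeg χ₁ hχ₁ φ (Finset.mem_of_mem_erase hφ)]⟩
  have hprod : ∀ φ ∈ S', ∀ ψ ∈ S', classInner (T (χ₁ - φ)) (T (χ₁ - ψ)) =
      1 + if φ = ψ then 1 else 0 := by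
    intro φ hφ ψ hψ
    obtain ⟨hφ1, hφS⟩ := Finset.mem_erase.1 hφ
    obtain ⟨hψ1, hψS⟩ := Finset.mem_erase.1 hψ
    rw [hT.inner _ (hmem φ hφ) _ (hmem ψ hψ), ci_sub_left, ci_sub_right, ci_sub_right,
      classInner_isIrr_self (hirr χ₁ hχ₁), hS.1.2 χ₁ hχ₁ ψ hψS hψ1.symm, hS.1.2 φ hφS χ₁ hχ₁ hφ1,
      ci_irr (hirr φ hφS) (hirr ψ hψS)]
    ring
  have hex : ∀ φ : S', ∃ μ ν : G → ℂ, IsIrrCharacter G μ ∧ IsIrrCharacter G ν ∧ μ ≠ ν ∧
      T (χ₁ - φ.1) = μ - ν := fun φ =>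
    gen_norm_two (hT.gen _ (hmem φ.1 φ.2))
      (by rw [hprod φ.1 φ.2 φ.1 φ.2, if_pos rfl]; norm_num) (hT.one _ (hmem φ.1 φ.2))
  choose μ ν hμ hν hμν heq using hex
  suffices H : ∃ X : G → ℂ, IsGeneralizedCharacter G X ∧ classInner X X = 1 ∧
      ∀ φ : S', classInner X (T (χ₁ - φ.1)) = 1 by
    obtain ⟨X, hX, hn, hin⟩ := H
    obtain ⟨g, hg, -⟩ := isExt_of_pivot hS hT hχ₁ hX (by rw [hn, classInner_isIrr_self (hirr χ₁ hχ₁)])
      (fun _ => 1) (fun φ hφ _ => by simp [hdeg φ hφ χ₁ hχ₁]) (fun φ hφ hne => by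
        rw [Nat.cast_one, one_smul, ← neg_sub χ₁ φ, map_neg, ci_neg_right,
          hin ⟨φ, Finset.mem_erase.2 ⟨hne, hφ⟩⟩, ci_neg_right, ci_sub_right,
          classInner_isIrr_self (hirr χ₁ hχ₁), hS.1.2 χ₁ hχ₁ φ hφ hne.symm, sub_zero])
    exact ⟨g, hg⟩
  have hshare : ∀ φ ψ : S', φ ≠ ψ →
      (μ φ = μ ψ ∧ ν φ ≠ ν ψ) ∨ (ν φ = ν ψ ∧ μ φ ≠ μ ψ) := fun φ ψ hne =>
    share_end (hμ φ) (hν φ) (hμ ψ) (hν ψ) (hμν φ) (hμν ψ) (by
      rw [← heq, ← heq, hprod φ.1 φ.2 ψ.1 ψ.2, if_neg (fun h => hne (Subtype.ext h)), add_zero])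
  by_cases hex : Nonempty S'
  swap
  · have : Nonempty (IrrCharacter G) := by
      by_contra h
      rw [not_nonempty_iff] at h
      have h1 := sum_degree_sq (G := G)
      rw [Finset.univ_eq_empty, Finset.sum_empty] at h1
      exact natCard_ne_zero h1.symm
    obtain ⟨χ⟩ := this
    exact ⟨χ.1, isGen_of_isIrr χ.2, classInner_isIrr_self χ.2, fun φ => (hex ⟨φ⟩).elim⟩
  obtain ⟨φ₀⟩ := hex
  have hval : ∀ φ, (μ φ = μ φ₀ → classInner (μ φ₀) (T (χ₁ - φ.1)) = 1) ∧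
      (ν φ = ν φ₀ → classInner (-ν φ₀) (T (χ₁ - φ.1)) = 1) := by
    intro φ
    refine ⟨fun h => ?_, fun h => ?_⟩
    · rw [heq, ← h, ci_sub_right, classInner_isIrr_self (hμ φ),
        classInner_isIrr_ne (hμ φ) (hν φ) (hμν φ), sub_zero]
    · rw [heq, ← h, ci_neg_left, ci_sub_right, classInner_isIrr_self (hν φ),
        classInner_isIrr_ne (hν φ) (hμ φ) (hμν φ).symm]
      ring
  by_cases hall : ∀ φ, μ φ = μ φ₀
  · exact ⟨μ φ₀, isGen_of_isIrr (hμ φ₀), classInner_isIrr_self (hμ φ₀), fun φ => (hval φ).1 (hall φ)⟩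
  · refine ⟨-ν φ₀, isGen_neg (isGen_of_isIrr (hν φ₀)),
      by rw [ci_neg_left, ci_neg_right, neg_neg, classInner_isIrr_self (hν φ₀)],
      fun φ => (hval φ).2 ?_⟩
    push Not at hall
    obtain ⟨ψ, hψ⟩ := hall
    have hψ0 : ψ ≠ φ₀ := fun h => hψ (h ▸ rfl)
    have h1 : ν ψ = ν φ₀ := ((hshare ψ φ₀ hψ0).resolve_left fun h => hψ h.1).1
    by_cases h2 : φ = φ₀
    · rw [h2]
    by_contra h3
    have h4 : μ φ = μ φ₀ := ((hshare φ φ₀ h2).resolve_right fun h => h3 h.1).1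
    have h5 : φ ≠ ψ := fun h => hψ (h ▸ h4)
    rcases hshare φ ψ h5 with h | h
    · exact hψ (h.1.symm.trans h4)
    · exact h3 (h.1.trans h1)

end CfsgLib.Coherence
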