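import Cfsg.Agent.Coherence.Ext

/-!
# Coherence systems (Peterfalvi 5.4-5.7)

`Sys` is `Cfsg.IsCoherenceSystem` with a finite set and a linear map.  The extension criterion
(PF 5.6) and coherence of sets of uniform degree (PF 5.7) are proved through `IsExt.extend`.
-/

set_option autoImplicit false
set_option linter.unusedSectionVars false

namespace CfsgLib.Coherence

open Cfsg ComplexConjugate CfsgLib.Characters

universe u v

variable {L : Type u} [Group L] [Fintype L] {G : Type v} [Group G] [Fintype G]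

theorem character_deg_pos {χ : L → ℂ} (h : IsCharacter L χ) (h0 : χ ≠ 0) :
    ∃ n : ℕ, 0 < n ∧ χ 1 = n := by
  obtain ⟨n, hn⟩ := exists_degree h
  refine ⟨n, Nat.pos_of_ne_zero fun hz => h0 ?_, hn⟩
  obtain ⟨m, ρ, rfl⟩ := h
  rw [ρ.char_one, hz, Nat.cast_inj] at hn
  funext g
  have : Subsingleton (Fin m → ℂ) := Module.finrank_zero_iff.1 hn
  have h1 : ρ g = 0 := LinearMap.ext fun x => Subsingleton.elim _ _
  simp [Representation.character, h1]

theorem conjFun_one {χ : L → ℂ} {n : ℕ} (h : χ 1 = n) : conjFun χ 1 = n := by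
  simp [conjFun, h]

/-- A coherence system with finite carrier and linear map. -/
structure Sys (S : Finset (L → ℂ)) (T : (L → ℂ) →ₗ[ℂ] (G → ℂ))
    (R : (L → ℂ) → Finset (G → ℂ)) : Prop where
  deg : DegSet S
  isChar : ∀ χ ∈ S, IsCharacter L χ
  conj_mem : ∀ χ ∈ S, conjFun χ ∈ S
  conj_ne : ∀ χ ∈ S, conjFun χ ≠ χ
  isom : Isom (↑S : Set (L → ℂ)) T
  orthonormal : ∀ χ ∈ S, ∀ α ∈ R χ, ∀ β ∈ R χ, α ≠ β → classInner α β = 0
  unit : ∀ χ ∈ S, ∀ α ∈ R χ, classInner α α = 1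
  virtual : ∀ χ ∈ S, ∀ α ∈ R χ, IsGeneralizedCharacter G α
  sum_eq : ∀ χ ∈ S, T (χ - conjFun χ) = ∑ α ∈ R χ, α
  disjoint : ∀ χ ∈ S, ∀ φ ∈ S, φ ≠ χ → φ ≠ conjFun χ →
    ∀ α ∈ R φ, ∀ β ∈ R χ, classInner α β = 0

theorem sub_conj_mem {S : Finset (L → ℂ)} (hS : DegSet S) {χ : L → ℂ} (hχ : χ ∈ S)
    (hc : conjFun χ ∈ S) : χ - conjFun χ ∈ zspanOn (↑S : Set (L → ℂ)) {1}ᶜ := by
  obtain ⟨n, -, hn⟩ := hS.2 χ hχ
  exact mem_zspanOn_one.2 ⟨Submodule.sub_mem _ (mem_zspan_of_mem hχ) (mem_zspan_of_mem hc),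
    by simp [hn, conjFun_one hn]⟩

/-- Passing from `Cfsg.IsCoherenceSystem` to `Sys`. -/
theorem exists_sys {S : Set (L → ℂ)} {τ : (L → ℂ) → (G → ℂ)} {R : (L → ℂ) → Finset (G → ℂ)}
    (h : IsCoherenceSystem S τ R) :
    ∃ (F : Finset (L → ℂ)) (T : (L → ℂ) →ₗ[ℂ] (G → ℂ)), (↑F : Set (L → ℂ)) = S ∧ Sys F T R ∧
      ∀ α ∈ zspanOn (↑F : Set (L → ℂ)) {1}ᶜ, T α = τ α := by
  classical
  have h0 : ∀ χ ∈ S, χ ≠ 0 := by
    rintro χ hχ rfl
    exact h.conj_ne 0 hχ (by funext x; simp [conjFun])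
  have hli : LinearIndependent ℂ (fun χ : S => (χ : L → ℂ)) := by
    rw [linearIndependent_iff']
    intro s c hc i hi
    have h1 : classInner (∑ x ∈ s, c x • (x : L → ℂ)) (i : L → ℂ) = 0 := by rw [hc, ci_zero_left]
    rw [ci_sum_left, Finset.sum_eq_single_of_mem i hi (fun j _ hji => by
      rw [ci_smul_left, h.orthogonal j.1 j.2 i.1 i.2 (fun e => hji (Subtype.ext e)), mul_zero]),
      ci_smul_left, mul_eq_zero] at h1
    exact h1.resolve_right (ci_self_ne_zero (h0 i.1 i.2))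
  have : Finite S := hli.finite
  obtain ⟨F, rfl⟩ : ∃ F : Finset (L → ℂ), (↑F : Set (L → ℂ)) = S :=
    ⟨(Set.toFinite S).toFinset, (Set.toFinite S).coe_toFinset⟩
  have hdeg : DegSet F := ⟨⟨h0, fun χ hχ φ hφ hne => h.orthogonal χ hχ φ hφ hne⟩,
    fun χ hχ => character_deg_pos (h.isCharacter χ hχ) (h0 χ hχ)⟩
  obtain ⟨T, hT, hTτ⟩ := exists_isom hdeg h.isometry h.map_one
  refine ⟨F, T, rfl, ⟨hdeg, h.isCharacter, h.conj_mem, h.conj_ne, hT,
    fun χ hχ α ha β hb hne => ?_, fun χ hχ α ha => ?_, h.virtual, fun χ hχ => ?_,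
    fun χ hχ φ hφ h1 h2 => h.disjoint χ hχ φ hφ (h.orthogonal φ hφ χ hχ h1)
      (h.orthogonal φ hφ _ (h.conj_mem χ hχ) h2)⟩, hTτ⟩
  · rw [h.orthonormal χ hχ α ha β hb, if_neg hne]
  · rw [h.orthonormal χ hχ α ha α ha, if_pos rfl]
  · rw [hTτ _ (sub_conj_mem hdeg hχ (h.conj_mem χ hχ)), h.sum_eq χ hχ]

theorem Sys.subset {S S' : Finset (L → ℂ)} {T : (L → ℂ) →ₗ[ℂ] (G → ℂ)}
    {R : (L → ℂ) → Finset (G → ℂ)} (h : Sys S T R) (hsub : S' ⊆ S)
    (hc : ∀ χ ∈ S', conjFun χ ∈ S') : Sys S' T R :=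
  ⟨h.deg.subset hsub, fun χ hχ => h.isChar χ (hsub hχ), hc, fun χ hχ => h.conj_ne χ (hsub hχ),
    h.isom.mono (Finset.coe_subset.2 hsub), fun χ hχ => h.orthonormal χ (hsub hχ),
    fun χ hχ => h.unit χ (hsub hχ), fun χ hχ => h.virtual χ (hsub hχ),
    fun χ hχ => h.sum_eq χ (hsub hχ), fun χ hχ φ hφ => h.disjoint χ (hsub hχ) φ (hsub hφ)⟩

namespace Sys

variable {S : Finset (L → ℂ)} {T : (L → ℂ) →ₗ[ℂ] (G → ℂ)} {R : (L → ℂ) → Finset (G → ℂ)}

theorem isOrthSet_R (h : Sys S T R) {χ : L → ℂ} (hχ : χ ∈ S) : IsOrthSet (R χ) :=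
  ⟨fun α ha h0 => by simpa [h0] using h.unit χ hχ α ha, h.orthonormal χ hχ⟩

theorem norm_conj (_h : Sys S T R) (χ : L → ℂ) :
    classInner (conjFun χ) (conjFun χ) = classInner χ χ := ci_conjFun χ χ

theorem inner_conj_self (h : Sys S T R) {χ : L → ℂ} (hχ : χ ∈ S) :
    classInner χ (conjFun χ) = 0 :=
  h.deg.1.2 χ hχ _ (h.conj_mem χ hχ) (h.conj_ne χ hχ).symm

theorem card_R (h : Sys S T R) {χ : L → ℂ} (hχ : χ ∈ S) :
    ((R χ).card : ℂ) = 2 * classInner χ χ := by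
  have hm := sub_conj_mem h.deg hχ (h.conj_mem χ hχ)
  have h1 := h.isom.inner _ hm _ hm
  rw [h.sum_eq χ hχ, ci_sum_left] at h1
  have h2 : ∀ α ∈ R χ, classInner α (∑ β ∈ R χ, β) = 1 := by
    intro α ha
    rw [ci_sum_right, Finset.sum_eq_single_of_mem α ha
      (fun β hb hne => h.orthonormal χ hχ α ha β hb hne.symm), h.unit χ hχ α ha]
  rw [Finset.sum_congr rfl h2, Finset.sum_const, nsmul_eq_mul, mul_one] at h1
  rw [h1, ci_sub_left, ci_sub_right, ci_sub_right, h.norm_conj, h.inner_conj_self hχ,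
    h.deg.1.2 _ (h.conj_mem χ hχ) χ hχ (h.conj_ne χ hχ)]
  ring

/-- The part of a virtual character along `R χ` is at least as long as `χ` once it has the same
product with `T (χ - χ̄)` (PF 5.5). -/
theorem proj_bound (h : Sys S T R) {χ : L → ℂ} (hχ : χ ∈ S) {β : G → ℂ}
    (hβ : IsGeneralizedCharacter G β)
    (hin : classInner β (T (χ - conjFun χ)) = classInner χ χ) :
    sqNorm χ ≤ ∑ α ∈ R χ, Complex.normSq (classInner β α) ∧
      (∑ α ∈ R χ, Complex.normSq (classInner β α) ≤ sqNorm χ →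
        ∀ α ∈ R χ, classInner β α = 0 ∨ classInner β α = 1) := by
  classical
  rw [h.sum_eq χ hχ, ci_sum_right] at hin
  have hint : ∀ α ∈ R χ, ∃ m : ℤ, classInner β α = m := fun α ha => ci_int hβ (h.virtual χ hχ α ha)
  choose m hm using hint
  have hge : ∀ α (ha : α ∈ R χ), (classInner β α).re ≤ Complex.normSq (classInner β α) ∧
      (Complex.normSq (classInner β α) ≤ (classInner β α).re →
        classInner β α = 0 ∨ classInner β α = 1) := by
    intro α ha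
    rw [hm α ha]
    have hle : m α ha ≤ m α ha * m α ha := Int.le_self_sq (m α ha) |>.trans_eq (sq _)
    have e : Complex.normSq (m α ha : ℂ) = ((m α ha * m α ha : ℤ) : ℝ) := by
      simp [Complex.normSq_apply]
    rw [e, Complex.intCast_re]
    refine ⟨by exact_mod_cast hle, fun hle' => ?_⟩
    have hle'' : m α ha * m α ha ≤ m α ha := by exact_mod_cast hle'
    have : m α ha * (m α ha - 1) = 0 := by nlinarith
    rcases mul_eq_zero.1 this with h0 | h1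
    · left; simp [h0]
    · right; simp [sub_eq_zero.1 h1]
  have hre : ∑ α ∈ R χ, (classInner β α).re = sqNorm χ := by
    rw [← Complex.re_sum, hin, sqNorm]
  refine ⟨hre ▸ Finset.sum_le_sum fun α ha => (hge α ha).1, fun hle α ha => (hge α ha).2 ?_⟩
  rw [← hre] at hle
  exact ((Finset.sum_eq_sum_iff_of_le fun x hx => (hge x hx).1).1
    (le_antisymm (Finset.sum_le_sum fun x hx => (hge x hx).1) hle) α ha).ge

theorem sum_div_unit (h : Sys S T R) {χ : L → ℂ} (hχ : χ ∈ S) (β : G → ℂ) :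
    ∑ α ∈ R χ, Complex.normSq (classInner β α) / sqNorm α =
      ∑ α ∈ R χ, Complex.normSq (classInner β α) :=
  Finset.sum_congr rfl fun α ha => by rw [sqNorm, h.unit χ hχ α ha, Complex.one_re, div_one]

end Sys

/-- If Bessel's inequality is an equality, the function lies in the span. -/
theorem eq_orthProj_of_bessel {U : Finset (G → ℂ)} (hU : IsOrthSet U) {β : G → ℂ}
    (h : sqNorm β ≤ ∑ χ ∈ U, Complex.normSq (classInner β χ) / sqNorm χ) : β = orthProj U β := by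
  refine sub_eq_zero.1 (sqNorm_eq_zero_iff.1 (le_antisymm ?_ (sqNorm_nonneg _)))
  rw [sqNorm, inner_sub_orthProj_self hU β, Complex.sub_re, Complex.re_sum]
  have heq : ∀ χ ∈ U, (classInner β χ * conj (classInner β χ) / classInner χ χ).re
      = Complex.normSq (classInner β χ) / sqNorm χ := by
    intro χ _
    rw [Complex.mul_conj, ci_self_eq_sqNorm χ, ← Complex.ofReal_div, Complex.ofReal_re]
  rw [Finset.sum_congr rfl heq]
  change sqNorm β - _ ≤ 0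
  linarith

theorem inner_orthProj_eq_zero {U : Finset (G → ℂ)} {β γ : G → ℂ}
    (h : ∀ α ∈ U, classInner α γ = 0) : classInner (orthProj U β) γ = 0 := by
  rw [orthProj, ci_sum_left]
  exact Finset.sum_eq_zero fun α ha => by rw [ci_smul_left, h α ha, mul_zero]

theorem isOrthSet_union [DecidableEq (G → ℂ)] {U V : Finset (G → ℂ)} (hU : IsOrthSet U)
    (hV : IsOrthSet V) (h : ∀ a ∈ U, ∀ b ∈ V, classInner a b = 0) : IsOrthSet (U ∪ V) := by
  refine ⟨fun a ha => (Finset.mem_union.1 ha).elim (hU.1 a) (hV.1 a), fun a ha b hb hne => ?_⟩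
  rcases Finset.mem_union.1 ha with ha | ha <;> rcases Finset.mem_union.1 hb with hb | hb
  · exact hU.2 a ha b hb hne
  · exact h a ha b hb
  · rw [← ci_conj, h b hb a ha, map_zero]
  · exact hV.2 a ha b hb hne

theorem disjoint_of_orth {U V : Finset (G → ℂ)} (hU : IsOrthSet U)
    (h : ∀ a ∈ U, ∀ b ∈ V, classInner a b = 0) : Disjoint U V :=
  Finset.disjoint_left.2 fun {a} ha hb => ci_self_ne_zero (hU.1 a ha) (h a ha a hb)

namespace Sys

variable {S : Finset (L → ℂ)} {T : (L → ℂ) →ₗ[ℂ] (G → ℂ)} {R : (L → ℂ) → Finset (G → ℂ)}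

/-- Values of a coherent extension lie in the spans of the corresponding `R`'s, hence are orthogonal
to `R χ` for `χ` outside. -/
theorem ext_orth_R (h : Sys S T R) {S₁ : Finset (L → ℂ)} (hS₁ : S₁ ⊆ S)
    (hc : ∀ φ ∈ S₁, conjFun φ ∈ S₁) {f : (L → ℂ) → (G → ℂ)} (hf : IsExt S₁ T f)
    {χ : L → ℂ} (hχ : χ ∈ S) (hχ₁ : χ ∉ S₁) (hχ₂ : conjFun χ ∉ S₁) {φ : L → ℂ} (hφ : φ ∈ S₁)
    {α : G → ℂ} (hα : α ∈ R χ) : classInner (f φ) α = 0 := by
  classical
  have hφS := hS₁ hφ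
  have hsum : f φ - f (conjFun φ) = T (φ - conjFun φ) := by
    obtain ⟨n, hn0, hn⟩ := h.deg.2 φ hφS
    apply smul_right_injective (G → ℂ) (Nat.cast_ne_zero.2 hn0.ne' : (n : ℂ) ≠ 0)
    have := hf.agree φ hφ _ (hc φ hφ)
    rw [edge, conjFun_one hn, hn, ← smul_sub, ← smul_sub, map_smul] at this
    exact this
  have hin : classInner (f φ) (T (φ - conjFun φ)) = classInner φ φ := by
    rw [← hsum, ci_sub_right, hf.inner φ hφ φ hφ, hf.inner φ hφ _ (hc φ hφ),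
      h.inner_conj_self hφS, sub_zero]
  have hb := (h.proj_bound hφS (hf.gen φ hφ) hin).1
  have heq : f φ = orthProj (R φ) (f φ) := eq_orthProj_of_bessel (h.isOrthSet_R hφS) (by
    rw [h.sum_div_unit hφS, sqNorm, hf.inner φ hφ φ hφ]; exact hb)
  rw [heq]
  refine inner_orthProj_eq_zero fun a ha => h.disjoint χ hχ φ hφS ?_ ?_ a ha α hα
  · exact fun e => hχ₁ (e ▸ hφ)
  · exact fun e => hχ₂ (e ▸ hφ)

/-- The extension criterion (PF 5.6). -/
theorem extend_pair [DecidableEq (L → ℂ)] (h : Sys S T R) {S₁ : Finset (L → ℂ)} (hS₁ : S₁ ⊆ S)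
    (hc : ∀ φ ∈ S₁, conjFun φ ∈ S₁) {f : (L → ℂ) → (G → ℂ)} (hf : IsExt S₁ T f)
    {χ : L → ℂ} (hχ : χ ∈ S) (hχ₁ : χ ∉ S₁) (hχ₂ : conjFun χ ∉ S₁) {χ₁ : L → ℂ} (hm : χ₁ ∈ S₁)
    (hdvd : ∃ d : ℕ, χ 1 = (d : ℂ) * χ₁ 1)
    (hineq : 2 * (χ 1).re * (χ₁ 1).re < ∑ φ ∈ S₁, (φ 1).re ^ 2 / sqNorm φ) :
    ∃ g, IsExt (S₁ ∪ {χ, conjFun χ}) T g := by
  classical
  obtain ⟨d, hd⟩ := hdvd
  obtain ⟨e, he0, he⟩ := h.deg.2 χ₁ (hS₁ hm)
  have hm1 := hS₁ hm
  have hne1 : χ ≠ χ₁ := fun e => hχ₁ (e ▸ hm)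
  have hmem : χ - (d : ℂ) • χ₁ ∈ zspanOn (↑S : Set (L → ℂ)) {1}ᶜ :=
    mem_zspanOn_one.2 ⟨Submodule.sub_mem _ (mem_zspan_of_mem hχ) (natCast_smul_mem_zspan hm1 d),
      by simp [hd]⟩
  set β := T (χ - (d : ℂ) • χ₁) with hβdef
  have hβ : IsGeneralizedCharacter G β := h.isom.gen _ hmem
  have hin : classInner β (T (χ - conjFun χ)) = classInner χ χ := by
    rw [h.isom.inner _ hmem _ (sub_conj_mem h.deg hχ (h.conj_mem χ hχ)), ci_sub_left,
      ci_sub_right, ci_sub_right, ci_smul_left, ci_smul_left, h.inner_conj_self hχ,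
      h.deg.1.2 χ₁ hm1 χ hχ hne1.symm, h.deg.1.2 χ₁ hm1 _ (h.conj_mem χ hχ)
      (fun e => hχ₂ (e ▸ hm))]
    ring
  -- the scalar to be killed
  obtain ⟨b, hb⟩ := ci_int hβ (hf.gen χ₁ hm)
  obtain ⟨n₁, hn₁⟩ := classInner_characters (h.isChar χ₁ hm1) (h.isChar χ₁ hm1)
  have hn₁r : sqNorm χ₁ = n₁ := by rw [sqNorm, hn₁, Complex.natCast_re]
  set a : ℤ := b + d * n₁ with ha
  have hcoef : ∀ φ ∈ S₁, (classInner β (f φ)) =
      ((a : ℂ) * φ 1 - (if φ = χ₁ then (d : ℂ) * n₁ * χ₁ 1 else 0)) / χ₁ 1 := by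
    intro φ hφ
    rw [eq_div_iff (h.deg.one_ne_zero hm1)]
    have h1 := h.isom.inner _ hmem _ (zspanOn_mono (Finset.coe_subset.2 hS₁) _
      ((h.deg.subset hS₁).edge_mem hφ hm))
    rw [← hβdef, ← hf.agree φ hφ χ₁ hm] at h1
    simp only [edge, ci_sub_left, ci_sub_right, ci_smul_left, ci_smul_right,
      h.deg.conj_one hm1, h.deg.conj_one (hS₁ hφ), hb, hn₁,
      h.deg.1.2 χ hχ χ₁ hm1 hne1, h.deg.1.2 χ hχ φ (hS₁ hφ) (fun e => hχ₁ (e ▸ hφ))] at h1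
    have h2 : classInner χ₁ φ = if φ = χ₁ then (n₁ : ℂ) else 0 := by
      split_ifs with he'
      · rw [he', hn₁]
      · exact h.deg.1.2 χ₁ hm1 φ (hS₁ hφ) (Ne.symm he')
    rw [h2] at h1
    rw [ha]; push_cast
    split_ifs at h1 ⊢ <;> linear_combination h1
  -- Bessel on `R χ` together with the image of `S₁`
  have hinj : ∀ φ ∈ S₁, ∀ ψ ∈ S₁, f φ = f ψ → φ = ψ := by
    intro φ hφ ψ hψ e
    by_contra hne
    have := hf.inner φ hφ φ hφ
    rw [show classInner (f φ) (f φ) = classInner (f φ) (f ψ) by rw [← e], hf.inner φ hφ ψ hψ,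
      h.deg.1.2 φ (hS₁ hφ) ψ (hS₁ hψ) hne] at this
    exact ci_self_ne_zero (h.deg.1.1 φ (hS₁ hφ)) this.symm
  have hV : IsOrthSet (S₁.image f) := by
    refine ⟨?_, ?_⟩
    · intro x hx
      obtain ⟨φ, hφ, rfl⟩ := Finset.mem_image.1 hx
      intro h0
      have := hf.inner φ hφ φ hφ
      rw [h0, ci_zero_left] at this
      exact ci_self_ne_zero (h.deg.1.1 φ (hS₁ hφ)) this.symm
    · intro x hx y hy hne
      obtain ⟨φ, hφ, rfl⟩ := Finset.mem_image.1 hx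
      obtain ⟨ψ, hψ, rfl⟩ := Finset.mem_image.1 hy
      rw [hf.inner φ hφ ψ hψ]
      exact h.deg.1.2 φ (hS₁ hφ) ψ (hS₁ hψ) fun e => hne (e ▸ rfl)
  have horth : ∀ α ∈ R χ, ∀ y ∈ S₁.image f, classInner α y = 0 := by
    intro α hα y hy
    obtain ⟨φ, hφ, rfl⟩ := Finset.mem_image.1 hy
    rw [← ci_conj, h.ext_orth_R hS₁ hc hf hχ hχ₁ hχ₂ hφ hα, map_zero]
  have hB := bessel (isOrthSet_union (h.isOrthSet_R hχ) hV horth) β
  rw [Finset.sum_union (disjoint_of_orth (h.isOrthSet_R hχ) horth), h.sum_div_unit hχ,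
    Finset.sum_image hinj] at hB
  have hproj := (h.proj_bound hχ hβ hin).1
  have hnormβ : sqNorm β = sqNorm χ + (d : ℝ) ^ 2 * n₁ := by
    rw [sqNorm, h.isom.inner _ hmem _ hmem]
    simp only [ci_sub_left, ci_sub_right, ci_smul_left, ci_smul_right,
      Complex.conj_natCast, h.deg.1.2 χ hχ χ₁ hm1 hne1, h.deg.1.2 χ₁ hm1 χ hχ hne1.symm, hn₁,
      mul_zero, sub_zero, zero_sub, ci_self_eq_sqNorm χ]
    rw [mul_neg, sub_neg_eq_add, Complex.add_re, Complex.ofReal_re,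
      show (d : ℂ) * ((d : ℂ) * (n₁ : ℂ)) = ((d * (d * n₁) : ℕ) : ℂ) by push_cast; ring,
      Complex.natCast_re]
    push_cast; ring
  have hχ1re : (χ 1).re = d * e := by
    rw [hd, he, ← Nat.cast_mul, Complex.natCast_re]; push_cast; ring
  have hne : (e : ℝ) ≠ 0 := Nat.cast_ne_zero.2 he0.ne'
  have hterm : ∀ φ ∈ S₁, Complex.normSq (classInner β (f φ)) / sqNorm (f φ) =
      (a : ℝ) ^ 2 / (e : ℝ) ^ 2 * ((φ 1).re ^ 2 / sqNorm φ) +
        (if φ = χ₁ then (d : ℝ) ^ 2 * n₁ - 2 * a * d else 0) := by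
    intro φ hφ
    obtain ⟨k, -, hk⟩ := h.deg.2 φ (hS₁ hφ)
    rw [show sqNorm (f φ) = sqNorm φ by rw [sqNorm, hf.inner φ hφ φ hφ, sqNorm], hcoef φ hφ, he, hk,
      Complex.natCast_re]
    have hpos := sqNorm_pos (h.deg.1.1 φ (hS₁ hφ))
    split_ifs with he'
    · subst he'
      have : k = e := by exact_mod_cast hk.symm.trans he
      subst this
      rw [show ((a : ℂ) * (k : ℂ) - (d : ℂ) * n₁ * k) / (k : ℂ)
          = (((a : ℝ) * k - d * n₁ * k) / k : ℝ) by push_cast; ring, Complex.normSq_ofReal]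
      rw [hn₁r] at hpos ⊢
      field_simp
      ring
    · rw [show ((a : ℂ) * (k : ℂ) - 0) / (e : ℂ) = (((a : ℝ) * k / e : ℝ) : ℂ) by push_cast; ring,
        Complex.normSq_ofReal]
      field_simp
      ring
  rw [Finset.sum_congr rfl hterm, Finset.sum_add_distrib, Finset.sum_ite_eq' S₁ χ₁, if_pos hm,
    ← Finset.mul_sum, hnormβ] at hB
  set Q := ∑ φ ∈ S₁, (φ 1).re ^ 2 / sqNorm φ with hQ
  rw [hχ1re, he, Complex.natCast_re] at hineq
  have hkey : (a : ℝ) ^ 2 * Q ≤ 2 * a * ((d : ℝ) * e * e) := by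
    have h1 : (a : ℝ) ^ 2 / (e : ℝ) ^ 2 * Q ≤ 2 * a * d := by linarith
    have h2 := mul_le_mul_of_nonneg_right h1 (sq_nonneg (e : ℝ))
    rw [show (a : ℝ) ^ 2 / (e : ℝ) ^ 2 * Q * (e : ℝ) ^ 2 = (a : ℝ) ^ 2 * Q by field_simp] at h2
    linarith
  have ha0 : a = 0 := by
    by_contra hane
    have hsq : (a : ℝ) ≤ (a : ℝ) ^ 2 := by exact_mod_cast Int.le_self_sq a
    have h3 : (0 : ℝ) < (a : ℝ) ^ 2 := by positivity
    have h4 : (0 : ℝ) ≤ (d : ℝ) * e * e := by positivity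
    nlinarith [mul_le_mul_of_nonneg_right hsq h4,
      mul_lt_mul_of_pos_left hineq h3]
  have hfin : classInner (f χ₁) β = classInner χ₁ (χ - (d : ℂ) • χ₁) := by
    rw [← ci_conj, hb, ci_sub_right, ci_smul_right, hn₁, h.deg.1.2 χ₁ hm1 χ hχ hne1.symm,
      map_intCast, Complex.conj_natCast]
    have : b = -(d * n₁ : ℤ) := by linarith
    rw [this]; push_cast; ring
  have hsubS : S₁ ∪ {χ, conjFun χ} ⊆ S := by
    intro x hx
    simp only [Finset.mem_union, Finset.mem_insert, Finset.mem_singleton] at hx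
    rcases hx with hx | rfl | rfl
    · exact hS₁ hx
    · exact hχ
    · exact h.conj_mem χ hχ
  have hnew : ∀ x ∈ S₁ ∪ {χ, conjFun χ}, x ∉ S₁ → x = χ ∨ x = conjFun χ := fun x hx hxn => by
    simpa [hxn] using hx
  obtain ⟨g, hg, -⟩ := hf.extend (h.deg.subset hsubS) Finset.subset_union_left
    (h.isom.mono (Finset.coe_subset.2 hsubS)) hm (fun _ => d)
    (fun x hx hxn => by
      rcases hnew x hx hxn with rfl | rfl
      · exact hd
      · simp [conjFun, hd, he])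
    (fun x hx hxn => by
      rcases hnew x hx hxn with rfl | rfl
      · exact hfin
      · have e1 : conjFun χ - (d : ℂ) • χ₁ = (χ - (d : ℂ) • χ₁) - (χ - conjFun χ) := by abel
        rw [e1, map_sub, ci_sub_right, ← hβdef, hfin, ci_sub_right _ (χ - (d : ℂ) • χ₁)]
        congr 1
        rw [h.sum_eq χ hχ, ci_sum_right, ci_sub_right, h.deg.1.2 χ₁ hm1 χ hχ hne1.symm,
          h.deg.1.2 χ₁ hm1 _ (h.conj_mem χ hχ) (fun e => hχ₂ (e ▸ hm)), sub_zero]
        exact Finset.sum_eq_zero fun α hα => h.ext_orth_R hS₁ hc hf hχ hχ₁ hχ₂ hm hα)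
  exact ⟨g, hg⟩

/-- Uniform degree gives coherence (PF 5.7). -/
theorem uniform_degree [DecidableEq (L → ℂ)] (h : Sys S T R) (hne : S.Nonempty)
    (hdeg : ∀ φ ∈ S, ∀ ψ ∈ S, φ 1 = ψ 1) : ∃ g, IsExt S T g := by
  classical
  obtain ⟨χ₁, hχ₁⟩ := hne
  have hc₁ := h.conj_mem χ₁ hχ₁
  have hmem : ∀ φ ∈ S, χ₁ - φ ∈ zspanOn (↑S : Set (L → ℂ)) {1}ᶜ := fun φ hφ =>
    mem_zspanOn_one.2 ⟨Submodule.sub_mem _ (mem_zspan_of_mem hχ₁) (mem_zspan_of_mem hφ),
      by simp [hdeg χ₁ hχ₁ φ hφ]⟩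
  obtain ⟨n₁, hn₁⟩ := classInner_characters (h.isChar χ₁ hχ₁) (h.isChar χ₁ hχ₁)
  -- it is enough to find the pivot value
  suffices H : ∃ X : G → ℂ, IsGeneralizedCharacter G X ∧ classInner X X = classInner χ₁ χ₁ ∧
      ∀ φ ∈ S, φ ≠ χ₁ → classInner X (T (χ₁ - φ)) = classInner χ₁ χ₁ by
    obtain ⟨X, hX, hn, hin⟩ := H
    obtain ⟨g, hg, -⟩ := isExt_of_pivot h.deg h.isom hχ₁ hX hn (fun _ => 1)
      (fun φ hφ _ => by simp [hdeg φ hφ χ₁ hχ₁]) (fun φ hφ hne => by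
        rw [Nat.cast_one, one_smul, ← neg_sub χ₁ φ, map_neg, ci_neg_right, hin φ hφ hne,
          ci_neg_right, ci_sub_right, h.deg.1.2 χ₁ hχ₁ φ hφ hne.symm, sub_zero])
    exact ⟨g, hg⟩
  have hpair : ∀ φ ∈ S, φ ≠ χ₁ → φ ≠ conjFun χ₁ →
      T (χ₁ - φ) = orthProj (R χ₁ ∪ R φ) (T (χ₁ - φ)) ∧
        (∀ α ∈ R χ₁, classInner (T (χ₁ - φ)) α = 0 ∨ classInner (T (χ₁ - φ)) α = 1) := by
    intro φ hφ h1 h2
    have hβ := h.isom.gen _ (hmem φ hφ)
    have e1 : classInner (T (χ₁ - φ)) (T (χ₁ - conjFun χ₁)) = classInner χ₁ χ₁ := by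
      rw [h.isom.inner _ (hmem φ hφ) _ (sub_conj_mem h.deg hχ₁ hc₁), ci_sub_left,
        ci_sub_right, ci_sub_right, h.inner_conj_self hχ₁, h.deg.1.2 φ hφ χ₁ hχ₁ h1,
        h.deg.1.2 φ hφ _ hc₁ h2]
      ring
    have e2 : classInner (-T (χ₁ - φ)) (T (φ - conjFun φ)) = classInner φ φ := by
      rw [ci_neg_left, h.isom.inner _ (hmem φ hφ) _ (sub_conj_mem h.deg hφ (h.conj_mem φ hφ)),
        ci_sub_left, ci_sub_right, ci_sub_right, h.inner_conj_self hφ,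
        h.deg.1.2 χ₁ hχ₁ φ hφ h1.symm,
        h.deg.1.2 χ₁ hχ₁ _ (h.conj_mem φ hφ) (fun e => h2 (by rw [e, conjFun_conjFun]))]
      ring
    have b1 := h.proj_bound hχ₁ hβ e1
    have b2 := h.proj_bound hφ (isGen_neg hβ) e2
    simp only [ci_neg_left, Complex.normSq_neg] at b2
    have horth : ∀ a ∈ R χ₁, ∀ b ∈ R φ, classInner a b = 0 := fun a ha b hb => by
      rw [← ci_conj, h.disjoint χ₁ hχ₁ φ hφ h1 h2 b hb a ha, map_zero]
    have hU := isOrthSet_union (h.isOrthSet_R hχ₁) (h.isOrthSet_R hφ) horth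
    have hnorm : sqNorm (T (χ₁ - φ)) = sqNorm χ₁ + sqNorm φ := by
      rw [sqNorm, h.isom.inner _ (hmem φ hφ) _ (hmem φ hφ), ci_sub_left, ci_sub_right,
        ci_sub_right, h.deg.1.2 χ₁ hχ₁ φ hφ h1.symm, h.deg.1.2 φ hφ χ₁ hχ₁ h1, sub_zero, zero_sub,
        sub_neg_eq_add, Complex.add_re]
      rfl
    have hB := bessel hU (T (χ₁ - φ))
    rw [Finset.sum_union (disjoint_of_orth (h.isOrthSet_R hχ₁) horth), h.sum_div_unit hχ₁,
      h.sum_div_unit hφ, hnorm] at hB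
    refine ⟨eq_orthProj_of_bessel hU ?_, b1.2 (by linarith [b2.1])⟩
    rw [Finset.sum_union (disjoint_of_orth (h.isOrthSet_R hχ₁) horth), h.sum_div_unit hχ₁,
      h.sum_div_unit hφ, hnorm]
    linarith [b1.1, b2.1]
  by_cases hex : ∃ φ ∈ S, φ ≠ χ₁ ∧ φ ≠ conjFun χ₁
  · obtain ⟨φ₀, hφ₀, h01, h02⟩ := hex
    obtain ⟨hdec, h01v⟩ := hpair φ₀ hφ₀ h01 h02
    set β₀ := T (χ₁ - φ₀) with hβ₀
    set X := orthProj (R χ₁) β₀ with hX
    have hcoefX : ∀ α ∈ R χ₁, coef α β₀ = classInner β₀ α := fun α ha => by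
      rw [coef, h.unit χ₁ hχ₁ α ha, div_one]
    have hXgen : IsGeneralizedCharacter G X := isGen_sum _ _ fun α ha => by
      rw [hcoefX α ha]
      rcases h01v α ha with h0 | h1
      · rw [h0, zero_smul]; exact isGen_zero
      · rw [h1, one_smul]; exact h.virtual χ₁ hχ₁ α ha
    have hXA : ∀ α ∈ R χ₁, classInner X α = classInner β₀ α := fun α ha => by
      have h0 := inner_sub_orthProj (h.isOrthSet_R hχ₁) β₀ ha
      rw [ci_sub_left, sub_eq_zero] at h0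
      exact h0.symm
    have hsum1 : ∑ α ∈ R χ₁, classInner β₀ α = classInner χ₁ χ₁ := by
      rw [← ci_sum_right, ← h.sum_eq χ₁ hχ₁,
        h.isom.inner _ (hmem φ₀ hφ₀) _ (sub_conj_mem h.deg hχ₁ hc₁), ci_sub_left,
        ci_sub_right, ci_sub_right, h.inner_conj_self hχ₁, h.deg.1.2 φ₀ hφ₀ χ₁ hχ₁ h01,
        h.deg.1.2 φ₀ hφ₀ _ hc₁ h02]
      ring
    have hXX : classInner X X = classInner χ₁ χ₁ := by
      conv_lhs => arg 2; rw [hX, orthProj]
      rw [ci_sum_right, ← hsum1]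
      refine Finset.sum_congr rfl fun α ha => ?_
      rw [ci_smul_right, hXA α ha, hcoefX α ha]
      rcases h01v α ha with h0 | h1
      · simp [h0]
      · simp [h1]
    have hXconj : classInner X (T (χ₁ - conjFun χ₁)) = classInner χ₁ χ₁ := by
      rw [h.sum_eq χ₁ hχ₁, ci_sum_right, Finset.sum_congr rfl hXA, hsum1]
    have hXout : ∀ φ ∈ S, φ ≠ χ₁ → φ ≠ conjFun χ₁ → ∀ α ∈ R φ, classInner X α = 0 :=
      fun φ hφ h1 h2 α ha => inner_orthProj_eq_zero fun a ha' => by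
        rw [← ci_conj, h.disjoint χ₁ hχ₁ φ hφ h1 h2 α ha a ha', map_zero]
    have hX0 : classInner X β₀ = classInner χ₁ χ₁ := by
      rw [← ci_conj, hX, orthProj, ci_sum_right, map_sum, ← hsum1]
      refine Finset.sum_congr rfl fun α ha => ?_
      rw [ci_smul_right, hcoefX α ha]
      rcases h01v α ha with h0 | h1
      · simp [h0]
      · simp [h1]
    refine ⟨X, hXgen, hXX, fun φ hφ hne => ?_⟩
    by_cases h2 : φ = conjFun χ₁
    · rw [h2]; exact hXconj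
    by_cases h3 : φ = φ₀
    · rw [h3]; exact hX0
    by_cases h4 : φ = conjFun φ₀
    · rw [h4, show χ₁ - conjFun φ₀ = (χ₁ - φ₀) + (φ₀ - conjFun φ₀) by abel, map_add,
        ci_add_right, hX0, h.sum_eq φ₀ hφ₀, ci_sum_right,
        Finset.sum_eq_zero (hXout φ₀ hφ₀ h01 h02), add_zero]
    -- a third pair
    have hdec' := (hpair φ hφ hne h2).1
    have h5 : classInner β₀ (T (χ₁ - φ)) = classInner χ₁ χ₁ := by
      rw [h.isom.inner _ (hmem φ₀ hφ₀) _ (hmem φ hφ), ci_sub_left, ci_sub_right,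
        ci_sub_right, h.deg.1.2 χ₁ hχ₁ φ hφ (Ne.symm hne), h.deg.1.2 φ₀ hφ₀ χ₁ hχ₁ h01,
        h.deg.1.2 φ₀ hφ₀ φ hφ (Ne.symm h3)]
      ring
    have h6 : classInner (β₀ - X) (T (χ₁ - φ)) = 0 := by
      rw [← ci_conj, hdec']
      refine (congrArg conj (inner_orthProj_eq_zero fun a ha => ?_)).trans (map_zero _)
      rcases Finset.mem_union.1 ha with ha | ha
      · rw [← ci_conj, ci_sub_left, hXA a ha, sub_self, map_zero]
      · rw [ci_sub_right, hdec, ← ci_conj (orthProj _ β₀), inner_orthProj_eq_zero (fun b hb => ?_),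
          ← ci_conj X, hXout φ hφ hne h2 a ha, map_zero, sub_zero]
        rcases Finset.mem_union.1 hb with hb | hb
        · rw [← ci_conj, h.disjoint χ₁ hχ₁ φ hφ hne h2 a ha b hb, map_zero]
        · rw [← ci_conj, h.disjoint φ₀ hφ₀ φ hφ h3 h4 a ha b hb, map_zero]
    rw [ci_sub_left, h5, sub_eq_zero] at h6
    exact h6.symm
  · -- a single pair
    push Not at hex
    have hcard : n₁ ≤ (R χ₁).card := by
      have hc := h.card_R hχ₁
      rw [hn₁] at hc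
      have : (R χ₁).card = 2 * n₁ := by exact_mod_cast hc
      omega
    obtain ⟨U, hU, hUc⟩ := Finset.exists_subset_card_eq hcard
    have hXU : ∀ α ∈ R χ₁, classInner (∑ x ∈ U, x) α = if α ∈ U then 1 else 0 := by
      intro α ha
      rw [ci_sum_left]
      split_ifs with hmemU
      · rw [Finset.sum_eq_single_of_mem α hmemU (fun b hb hne =>
          h.orthonormal χ₁ hχ₁ b (hU hb) α ha hne), h.unit χ₁ hχ₁ α ha]
      · exact Finset.sum_eq_zero fun b hb =>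
          h.orthonormal χ₁ hχ₁ b (hU hb) α ha fun e => hmemU (e ▸ hb)
    refine ⟨∑ x ∈ U, x, isGen_sum _ _ fun α ha => h.virtual χ₁ hχ₁ α (hU ha), ?_, fun φ hφ hne => ?_⟩
    · rw [ci_sum_right, Finset.sum_congr rfl (fun α ha => by rw [hXU α (hU ha), if_pos ha]),
        Finset.sum_const, hUc, nsmul_eq_mul, mul_one, hn₁]
    · rw [hex φ hφ hne, h.sum_eq χ₁ hχ₁, ci_sum_right, Finset.sum_congr rfl hXU,
        Finset.sum_ite_mem, Finset.inter_eq_right.2 hU, Finset.sum_const, hUc, nsmul_eq_mul,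
        mul_one, hn₁]

end Sys

end CfsgLib.Coherence
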