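import Cfsg.Agent.Coherence.Frobenius
import Cfsg.Agent.Coherence.Irr
import Cfsg.Agent.S1514
import Cfsg.Agent.Characters.Induction

/-!
# Coherence data of a Frobenius group, and the case of a commutative kernel
-/

set_option autoImplicit false
set_option linter.unusedSectionVars false

namespace CfsgLib.Coherence

open Cfsg CfsgLib.Characters CfsgLib.OddOrderChar

universe u v

variable {L : Type u} [Group L] [Fintype L] {G : Type v} [Group G] [Fintype G] {K : Subgroup L}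
  [hKn : K.Normal]

noncomputable local instance fintypeSubgroupFrobSys (H : Subgroup L) : Fintype H := Fintype.ofFinite H

variable (hfix : ∀ k ∈ K, k ≠ 1 → Subgroup.centralizer ({k} : Set L) ≤ K)
  (hsolv : Group.IsSolvable K) (hK1 : K ≠ ⊥) {τ : (L → ℂ) → (G → ℂ)}
  (hτ : IsLinearIsometryOn (zspanOn (inducedIrrAbove K ⊥) {1}ᶜ) τ)
  (hτ1 : ∀ α ∈ zspanOn (inducedIrrAbove K ⊥) {1}ᶜ, τ α 1 = 0)
include hfix hsolv hK1

theorem frob_nonempty : (inducedIrrAbove K ⊥).Nonempty := by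
  obtain ⟨φ, hφ, -⟩ := exists_linear_mem K hsolv ⊥ (bot_lt_iff_ne_bot.2 hK1)
  exact ⟨φ, hφ⟩

include hτ hτ1

theorem frob_exists_sys (hodd : Odd (Nat.card L)) (hKL : K < ⊤) :
    ∃ (F : Finset (L → ℂ)) (T : (L → ℂ) →ₗ[ℂ] (G → ℂ)) (R : (L → ℂ) → Finset (G → ℂ)),
      (↑F : Set (L → ℂ)) = inducedIrrAbove K ⊥ ∧ Sys F T R ∧
      ∀ α ∈ zspanOn (↑F : Set (L → ℂ)) {1}ᶜ, T α = τ α := by
  obtain ⟨R, hR⟩ := Cfsg.Agent.S1514.result (inducedIrrAbove K ⊥) (frob_nonempty hfix hsolv hK1)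
    (frob_irr hfix) (fun χ hχ => ⟨conj_mem_inducedIrrAbove K hχ, frob_conj_ne hfix hodd hKL χ hχ⟩)
    τ hτ hτ1
  obtain ⟨F, T, hF, hS, hT⟩ := exists_sys hR
  exact ⟨F, T, R, hF, hS, hT⟩

/-- A commutative kernel: coherence, unless `S` has a single member. -/
theorem frob_comm_coherence (hcomm : ∀ a ∈ K, ∀ b ∈ K, a * b = b * a) :
    IsCoherent (inducedIrrAbove K ⊥) {1}ᶜ τ ∨ ∃ φ, inducedIrrAbove K ⊥ = {φ} := by
  classical
  obtain ⟨φ, hφ⟩ := frob_nonempty hfix hsolv hK1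
  by_cases h2 : ∃ χ ∈ inducedIrrAbove K ⊥, χ ≠ φ
  swap
  · push Not at h2
    exact Or.inr ⟨φ, Set.eq_singleton_iff_unique_mem.2 ⟨hφ, h2⟩⟩
  refine Or.inl ?_
  obtain ⟨χ, hχ, hne⟩ := h2
  have hirr := frob_irr hfix (A := (⊥ : Subgroup L))
  obtain ⟨F, hF⟩ : ∃ F : Finset (L → ℂ), (↑F : Set (L → ℂ)) = inducedIrrAbove K ⊥ :=
    ⟨(finite_irr_set hirr).toFinset, (finite_irr_set hirr).coe_toFinset⟩
  rw [← hF] at hirr hφ hχ hτ hτ1 ⊢
  have hd := degSet_irr hirr
  obtain ⟨T, hT, hTτ⟩ := exists_isom hd hτ hτ1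
  have hKK : ⁅K, K⁆ ≤ (⊥ : Subgroup L) := Subgroup.commutator_le.2 fun a ha b hb => by
    rw [Subgroup.mem_bot, commutatorElement_eq_one_iff_commute]; exact hcomm a ha b hb
  obtain ⟨g, hg⟩ := uniform_irr hirr hT fun a ha b hb => by
    rw [← Finset.mem_coe, hF] at ha hb
    rw [above_degree hKK ha, above_degree hKK hb]
  exact hg.isCoherent hd hTτ (hd.exists_ne_zero hχ hφ hne)

omit hτ hτ1 in
/-- The exceptional case: `S` has one member. -/
theorem frob_singleton (hcomm : ∀ a ∈ K, ∀ b ∈ K, a * b = b * a) {φ : L → ℂ}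
    (hφ : inducedIrrAbove K ⊥ = {φ}) :
    Nat.card K = K.index + 1 ∧
      ∀ a ∈ K, a ≠ 1 → ∀ b ∈ K, b ≠ 1 → IsConj a b := by
  classical
  have hcard : Nat.card K = K.index + 1 := by
    have hmem : φ ∈ inducedIrrAbove K ⊥ := by rw [hφ]; exact Set.mem_singleton φ
    have h := sum_deg_sq_div K ⊥ {φ} (by rw [Finset.coe_singleton, hφ])
    have hKK : ⁅K, K⁆ ≤ (⊥ : Subgroup L) := Subgroup.commutator_le.2 fun a ha b hb => by
      rw [Subgroup.mem_bot, commutatorElement_eq_one_iff_commute]; exact hcomm a ha b hb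
    rw [Finset.sum_singleton, classInner_isIrr_self (frob_irr hfix φ hmem), div_one,
      above_degree hKK hmem, Subgroup.relIndex_bot_left, sq] at h
    have h2 := mul_left_cancel₀ (Nat.cast_ne_zero.2 K.index_ne_zero_of_finite) h
    exact_mod_cast (eq_sub_iff_add_eq.1 h2).symm
  refine ⟨hcard, fun a ha ha1 b hb hb1 => ?_⟩
  set A := Finset.univ.filter (fun x : L => IsConj x a) with hA
  set B := (Finset.univ.filter (fun x : L => x ∈ K)).erase 1 with hB
  have hsub : A ⊆ B := by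
    intro x hx
    obtain ⟨c, rfl⟩ := isConj_iff.1 (Finset.mem_filter.1 hx).2.symm
    exact Finset.mem_erase.2 ⟨fun h => ha1 (by simpa using h),
      Finset.mem_filter.2 ⟨Finset.mem_univ _, hKn.conj_mem a ha c⟩⟩
  have h1 : A.card = K.index := by
    rw [hA, ← Fintype.card_subtype, ← Nat.card_eq_fintype_card, card_conjugates_eq_index,
      frob_centralizer_eq hfix ha ha1 fun k hk => hcomm a ha k hk]
  have h2 : B.card = K.index := by
    rw [hB, Finset.card_erase_of_mem (by simp), ← Fintype.card_subtype, ← Nat.card_eq_fintype_card,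
      hcard, Nat.add_sub_cancel]
  have hb' : b ∈ A := by
    rw [Finset.eq_of_subset_of_card_le hsub (by rw [h1, h2])]
    simp [hB, hb, hb1]
  exact ((Finset.mem_filter.1 hb').2).symm

omit hτ hτ1 in
/-- In the exceptional case the kernel is elementary abelian. -/
theorem frob_singleton_elementary (hcomm : ∀ a ∈ K, ∀ b ∈ K, a * b = b * a) {φ : L → ℂ}
    (hφ : inducedIrrAbove K ⊥ = {φ}) {p : ℕ} (hp : p.Prime) (hdvd : p ∣ Nat.card K) :
    ∀ a ∈ K, a ^ p = 1 := by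
  have := Fact.mk hp
  intro a ha
  by_cases ha1 : a = 1
  · rw [ha1, one_pow]
  obtain ⟨x, hx⟩ := exists_prime_orderOf_dvd_card' (G := K) p hdvd
  have hx1 : (x : L) ≠ 1 := fun h => hp.ne_one (by
    rw [← hx, orderOf_eq_one_iff.2 (Subtype.ext h)])
  obtain ⟨c, rfl⟩ := isConj_iff.1
    ((frob_singleton hfix hsolv hK1 hcomm hφ).2 _ x.2 hx1 a ha ha1)
  rw [conj_pow, ← SubmonoidClass.coe_pow, ← hx, pow_orderOf_eq_one, OneMemClass.coe_one]
  group

end CfsgLib.Coherence
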