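import Cfsg.Prelude.Def_OddOrderChar
import Mathlib.Data.Complex.BigOperators
import Mathlib.Algebra.BigOperators.Field

/-!
# Algebra of the Hermitian product `Cfsg.classInner`

Sesquilinearity, positivity, orthogonal coefficient formula and Bessel's inequality.  Nothing here
needs character theory: everything holds for arbitrary complex-valued functions on a finite group.
-/

set_option autoImplicit false

namespace CfsgLib.Coherence

open Cfsg ComplexConjugate Finset

universe u

variable {G : Type u} [Group G] [Fintype G]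

theorem ci_add_left (a b c : G → ℂ) : classInner (a + b) c = classInner a c + classInner b c := by
  simp only [classInner, Pi.add_apply, add_mul, Finset.sum_add_distrib, mul_add]

theorem ci_add_right (a b c : G → ℂ) : classInner a (b + c) = classInner a b + classInner a c := by
  simp only [classInner, Pi.add_apply, map_add, mul_add, Finset.sum_add_distrib]

theorem ci_sub_left (a b c : G → ℂ) : classInner (a - b) c = classInner a c - classInner b c := by
  simp only [classInner, Pi.sub_apply, sub_mul, Finset.sum_sub_distrib, mul_sub]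

theorem ci_sub_right (a b c : G → ℂ) : classInner a (b - c) = classInner a b - classInner a c := by
  simp only [classInner, Pi.sub_apply, map_sub, mul_sub, Finset.sum_sub_distrib]

theorem ci_smul_left (r : ℂ) (a b : G → ℂ) : classInner (r • a) b = r * classInner a b := by
  simp only [classInner, Pi.smul_apply, smul_eq_mul, mul_assoc, ← Finset.mul_sum]
  ring

theorem ci_smul_right (r : ℂ) (a b : G → ℂ) : classInner a (r • b) = conj r * classInner a b := by
  simp only [classInner, Pi.smul_apply, smul_eq_mul, map_mul, mul_left_comm _ (conj r), ← Finset.mul_sum]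

@[simp] theorem ci_zero_left (a : G → ℂ) : classInner (0 : G → ℂ) a = 0 := by
  simp [classInner]

@[simp] theorem ci_zero_right (a : G → ℂ) : classInner a (0 : G → ℂ) = 0 := by
  simp [classInner]

theorem ci_neg_left (a b : G → ℂ) : classInner (-a) b = -classInner a b := by
  simp [classInner]

theorem ci_neg_right (a b : G → ℂ) : classInner a (-b) = -classInner a b := by
  simp [classInner]

theorem ci_sum_left {ι : Type*} (s : Finset ι) (f : ι → G → ℂ) (b : G → ℂ) :
    classInner (∑ i ∈ s, f i) b = ∑ i ∈ s, classInner (f i) b := by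
  induction s using Finset.cons_induction with
  | empty => simp
  | cons i s hi ih => rw [Finset.sum_cons, Finset.sum_cons, ci_add_left, ih]

theorem ci_sum_right {ι : Type*} (s : Finset ι) (f : ι → G → ℂ) (b : G → ℂ) :
    classInner b (∑ i ∈ s, f i) = ∑ i ∈ s, classInner b (f i) := by
  induction s using Finset.cons_induction with
  | empty => simp
  | cons i s hi ih => rw [Finset.sum_cons, Finset.sum_cons, ci_add_right, ih]

theorem ci_conj (a b : G → ℂ) : conj (classInner a b) = classInner b a := by
  simp only [classInner, map_mul, map_inv₀, Complex.conj_natCast, map_sum, Complex.conj_conj]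
  congr 1
  exact Finset.sum_congr rfl fun _ _ => mul_comm _ _

theorem ci_conjFun (a b : G → ℂ) :
    classInner (conjFun a) (conjFun b) = classInner b a := by
  simp only [classInner, conjFun, Complex.conj_conj]
  congr 1
  exact Finset.sum_congr rfl fun _ _ => mul_comm _ _

@[simp] theorem conjFun_conjFun {X : Type u} (a : X → ℂ) : conjFun (conjFun a) = a := by
  funext x; simp [conjFun]

/-- The squared norm of a function, as a real number. -/
noncomputable def sqNorm (a : G → ℂ) : ℝ := (classInner a a).re

theorem ci_self_eq (a : G → ℂ) :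
    classInner a a = (((Nat.card G : ℝ)⁻¹ * ∑ g, Complex.normSq (a g) : ℝ) : ℂ) := by
  simp only [classInner, Complex.mul_conj]
  push_cast
  rfl

theorem ci_self_eq_sqNorm (a : G → ℂ) : classInner a a = (sqNorm a : ℂ) := by
  rw [sqNorm, ci_self_eq, Complex.ofReal_re]

theorem sqNorm_nonneg (a : G → ℂ) : 0 ≤ sqNorm a := by
  rw [sqNorm, ci_self_eq, Complex.ofReal_re]
  exact mul_nonneg (by positivity) (Finset.sum_nonneg fun g _ => Complex.normSq_nonneg _)

theorem sqNorm_eq_zero_iff {a : G → ℂ} : sqNorm a = 0 ↔ a = 0 := by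
  refine ⟨fun h => ?_, fun h => by simp [h, sqNorm]⟩
  rw [sqNorm, ci_self_eq, Complex.ofReal_re] at h
  have hG : (Nat.card G : ℝ)⁻¹ ≠ 0 := by simp
  have h' := (mul_eq_zero.1 h).resolve_left hG
  funext g
  exact Complex.normSq_eq_zero.1
    ((Finset.sum_eq_zero_iff_of_nonneg fun g _ => Complex.normSq_nonneg _).1 h' g (Finset.mem_univ g))

theorem ci_self_eq_zero_iff {a : G → ℂ} : classInner a a = 0 ↔ a = 0 := by
  rw [ci_self_eq_sqNorm]
  exact_mod_cast sqNorm_eq_zero_iff

theorem sqNorm_pos {a : G → ℂ} (h : a ≠ 0) : 0 < sqNorm a :=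
  (sqNorm_nonneg a).lt_of_ne' fun h' => h (sqNorm_eq_zero_iff.1 h')

theorem ci_self_ne_zero {a : G → ℂ} (h : a ≠ 0) : classInner a a ≠ 0 :=
  fun h' => h (ci_self_eq_zero_iff.1 h')

/-- Functions in `S` are nonzero and pairwise orthogonal. -/
def IsOrthSet (S : Finset (G → ℂ)) : Prop :=
  (∀ χ ∈ S, χ ≠ 0) ∧ ∀ χ ∈ S, ∀ φ ∈ S, χ ≠ φ → classInner χ φ = 0

theorem IsOrthSet.subset {S T : Finset (G → ℂ)} (h : IsOrthSet T) (hST : S ⊆ T) : IsOrthSet S :=
  ⟨fun χ hχ => h.1 χ (hST hχ), fun χ hχ φ hφ => h.2 χ (hST hχ) φ (hST hφ)⟩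

/-- The coefficient of `α` along `χ`. -/
noncomputable def coef (χ α : G → ℂ) : ℂ := classInner α χ / classInner χ χ

theorem coef_sum {S : Finset (G → ℂ)} (hS : IsOrthSet S) (c : (G → ℂ) → ℂ) {χ : G → ℂ}
    (hχ : χ ∈ S) : coef χ (∑ φ ∈ S, c φ • φ) = c χ := by
  rw [coef, ci_sum_left, Finset.sum_eq_single_of_mem χ hχ
    (fun φ hφ hne => by rw [ci_smul_left, hS.2 φ hφ χ hχ hne, mul_zero]), ci_smul_left,
    mul_div_assoc, div_self (ci_self_ne_zero (hS.1 χ hχ)), mul_one]

/-- The orthogonal projection on the span of an orthogonal set. -/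
noncomputable def orthProj (S : Finset (G → ℂ)) (β : G → ℂ) : G → ℂ := ∑ χ ∈ S, coef χ β • χ

theorem inner_sub_orthProj {S : Finset (G → ℂ)} (hS : IsOrthSet S) (β : G → ℂ) {χ : G → ℂ}
    (hχ : χ ∈ S) : classInner (β - orthProj S β) χ = 0 := by
  rw [ci_sub_left, orthProj, ci_sum_left, Finset.sum_eq_single_of_mem χ hχ
    (fun φ hφ hne => by rw [ci_smul_left, hS.2 φ hφ χ hχ hne, mul_zero]), ci_smul_left,
    coef, div_mul_cancel₀ _ (ci_self_ne_zero (hS.1 χ hχ)), sub_self]

theorem inner_sub_orthProj_self {S : Finset (G → ℂ)} (hS : IsOrthSet S) (β : G → ℂ) :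
    classInner (β - orthProj S β) (β - orthProj S β) =
      classInner β β - ∑ χ ∈ S, classInner β χ * conj (classInner β χ) / classInner χ χ := by
  have h0 : classInner (β - orthProj S β) (orthProj S β) = 0 := by
    rw [orthProj, ci_sum_right]
    refine Finset.sum_eq_zero fun χ hχ => ?_
    rw [ci_smul_right]
    show conj (coef χ β) * classInner (β - orthProj S β) χ = 0
    rw [inner_sub_orthProj hS β hχ, mul_zero]
  rw [ci_sub_right, h0, sub_zero, ci_sub_left, orthProj, ci_sum_left]
  congr 1
  refine Finset.sum_congr rfl fun χ _ => ?_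
  rw [ci_smul_left, coef, ← ci_conj β χ, div_mul_eq_mul_div]

/-- Bessel's inequality for an orthogonal set. -/
theorem bessel {S : Finset (G → ℂ)} (hS : IsOrthSet S) (β : G → ℂ) :
    ∑ χ ∈ S, Complex.normSq (classInner β χ) / sqNorm χ ≤ sqNorm β := by
  have h := sqNorm_nonneg (β - orthProj S β)
  rw [sqNorm, inner_sub_orthProj_self hS β, Complex.sub_re, Complex.re_sum] at h
  have heq : ∀ χ ∈ S, (classInner β χ * conj (classInner β χ) / classInner χ χ).re
      = Complex.normSq (classInner β χ) / sqNorm χ := by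
    intro χ _
    rw [Complex.mul_conj, ci_self_eq_sqNorm χ, ← Complex.ofReal_div, Complex.ofReal_re]
  rw [Finset.sum_congr rfl heq] at h
  change 0 ≤ sqNorm β - _ at h
  linarith

end CfsgLib.Coherence
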