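import Cfsg.Agent.Characters.Orthogonality
import Cfsg.Agent.Coherence.Inner

/-!
# Virtual characters

Closure of `Cfsg.IsGeneralizedCharacter`, integrality of the inner product, and the shape of
virtual characters of norm one and two.
-/

set_option autoImplicit false

namespace CfsgLib.Coherence

open Cfsg ComplexConjugate CfsgLib.Characters

universe u

variable {G : Type u} [Group G]

theorem isGen_of_isCharacter {χ : G → ℂ} (h : IsCharacter G χ) : IsGeneralizedCharacter G χ :=
  ⟨χ, 0, h, isCharacter_zero, by simp⟩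

theorem isGen_of_isIrr {χ : G → ℂ} (h : IsIrrCharacter G χ) : IsGeneralizedCharacter G χ :=
  isGen_of_isCharacter (isCharacter_of_isIrr h)

theorem isGen_zero : IsGeneralizedCharacter G (0 : G → ℂ) :=
  isGen_of_isCharacter isCharacter_zero

theorem isGen_add {a b : G → ℂ} (ha : IsGeneralizedCharacter G a) (hb : IsGeneralizedCharacter G b) :
    IsGeneralizedCharacter G (a + b) := by
  obtain ⟨p, q, hp, hq, rfl⟩ := ha
  obtain ⟨r, s, hr, hs, rfl⟩ := hb
  exact ⟨p + r, q + s, isCharacter_add hp hr, isCharacter_add hq hs, by abel⟩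

theorem isGen_neg {a : G → ℂ} (ha : IsGeneralizedCharacter G a) :
    IsGeneralizedCharacter G (-a) := by
  obtain ⟨p, q, hp, hq, rfl⟩ := ha
  exact ⟨q, p, hq, hp, by abel⟩

theorem isGen_sub {a b : G → ℂ} (ha : IsGeneralizedCharacter G a) (hb : IsGeneralizedCharacter G b) :
    IsGeneralizedCharacter G (a - b) := by
  rw [sub_eq_add_neg]; exact isGen_add ha (isGen_neg hb)

theorem isGen_natCast_smul {a : G → ℂ} (ha : IsGeneralizedCharacter G a) (n : ℕ) :
    IsGeneralizedCharacter G ((n : ℂ) • a) := by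
  obtain ⟨p, q, hp, hq, rfl⟩ := ha
  exact ⟨_, _, isCharacter_natCast_smul hp n, isCharacter_natCast_smul hq n, smul_sub _ _ _⟩

theorem isGen_intCast_smul {a : G → ℂ} (ha : IsGeneralizedCharacter G a) (n : ℤ) :
    IsGeneralizedCharacter G ((n : ℂ) • a) := by
  obtain ⟨m, rfl | rfl⟩ := n.eq_nat_or_neg
  · simpa using isGen_natCast_smul ha m
  · push_cast
    rw [neg_smul]
    exact isGen_neg (isGen_natCast_smul ha m)

theorem isGen_zsmul {a : G → ℂ} (ha : IsGeneralizedCharacter G a) (n : ℤ) :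
    IsGeneralizedCharacter G (n • a) := by
  rw [← Int.cast_smul_eq_zsmul ℂ]; exact isGen_intCast_smul ha n

theorem isGen_sum {ι : Type*} (s : Finset ι) (f : ι → G → ℂ)
    (h : ∀ i ∈ s, IsGeneralizedCharacter G (f i)) :
    IsGeneralizedCharacter G (∑ i ∈ s, f i) := by
  induction s using Finset.cons_induction with
  | empty => simpa using isGen_zero
  | cons i s hi ih =>
    rw [Finset.sum_cons]
    exact isGen_add (h i (Finset.mem_cons_self i s))
      (ih fun j hj => h j (Finset.mem_cons_of_mem hj))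

theorem isClassFunction_of_isGen {a : G → ℂ} (ha : IsGeneralizedCharacter G a) :
    IsClassFunction G a := by
  obtain ⟨p, q, hp, hq, rfl⟩ := ha
  intro g h
  simp [isClassFunction_of_isCharacter hp g h, isClassFunction_of_isCharacter hq g h]

theorem isIrr_ne_neg {a b : G → ℂ} (ha : IsIrrCharacter G a) (hb : IsIrrCharacter G b) :
    a ≠ -b := by
  intro h
  obtain ⟨m, hm0, hm⟩ := exists_degree_pos ha
  obtain ⟨n, hn0, hn⟩ := exists_degree_pos hb
  have h1 := congrFun h 1
  rw [Pi.neg_apply, hm, hn] at h1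
  have h2 : ((m + n : ℕ) : ℂ) = 0 := by push_cast; linear_combination h1
  have h3 : m + n = 0 := Nat.cast_eq_zero.1 h2
  omega

section Finite
variable [Fintype G]

theorem ci_int {a b : G → ℂ} (ha : IsGeneralizedCharacter G a)
    (hb : IsGeneralizedCharacter G b) : ∃ m : ℤ, classInner a b = m := by
  obtain ⟨p, q, hp, hq, rfl⟩ := ha
  obtain ⟨r, s, hr, hs, rfl⟩ := hb
  obtain ⟨i, hi⟩ := classInner_characters hp hr
  obtain ⟨j, hj⟩ := classInner_characters hp hs
  obtain ⟨k, hk⟩ := classInner_characters hq hr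
  obtain ⟨l, hl⟩ := classInner_characters hq hs
  refine ⟨(i - j) - (k - l), ?_⟩
  rw [ci_sub_left, ci_sub_right, ci_sub_right, hi, hj, hk, hl]
  push_cast; ring

theorem ci_symm {a b : G → ℂ} (ha : IsGeneralizedCharacter G a)
    (hb : IsGeneralizedCharacter G b) : classInner b a = classInner a b := by
  obtain ⟨m, hm⟩ := ci_int ha hb
  rw [← ci_conj a b, hm, map_intCast]

theorem gen_expansion {a : G → ℂ} (ha : IsGeneralizedCharacter G a) :
    a = ∑ χ : IrrCharacter G, classInner a (χ : G → ℂ) • (χ : G → ℂ) :=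
  classFunction_expansion (isClassFunction_of_isGen ha)

/-- The squared norm of a virtual character as a sum of squares of its integral coefficients. -/
theorem exists_coeff_norm {a : G → ℂ} (ha : IsGeneralizedCharacter G a) :
    ∃ c : IrrCharacter G → ℤ, (∀ χ : IrrCharacter G, classInner a (χ : G → ℂ) = c χ) ∧
      a = ∑ χ : IrrCharacter G, ((c χ : ℤ) : ℂ) • (χ : G → ℂ) ∧
      classInner a a = ((∑ χ : IrrCharacter G, c χ ^ 2 : ℤ) : ℂ) := by
  choose c hc using fun χ : IrrCharacter G => ci_int ha (isGen_of_isIrr χ.2)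
  refine ⟨c, hc, ?_, ?_⟩
  · conv_lhs => rw [gen_expansion ha]
    exact Finset.sum_congr rfl fun χ _ => by rw [hc χ]
  · rw [classInner_eq_sum (isClassFunction_of_isGen ha)]
    push_cast
    exact Finset.sum_congr rfl fun χ _ => by rw [hc χ, map_intCast, sq]

/-- A virtual character of norm one is an irreducible character up to sign. -/
theorem gen_norm_one {a : G → ℂ} (ha : IsGeneralizedCharacter G a) (h : classInner a a = 1) :
    IsIrrCharacter G a ∨ IsIrrCharacter G (-a) := by
  classical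
  obtain ⟨c, -, hsum, hnorm⟩ := exists_coeff_norm ha
  have h1 : ∑ χ, c χ ^ 2 = 1 := by exact_mod_cast hnorm.symm.trans h
  have : ∃ χ₀, c χ₀ ≠ 0 := by
    by_contra hne
    push Not at hne
    simp [hne] at h1
  obtain ⟨χ₀, h0⟩ := this
  have h2 : (1 : ℤ) ≤ c χ₀ ^ 2 := by
    have : 0 < c χ₀ ^ 2 := by positivity
    omega
  rw [← Finset.add_sum_erase Finset.univ (fun χ => c χ ^ 2) (Finset.mem_univ χ₀)] at h1
  have h3 : ∑ χ ∈ Finset.univ.erase χ₀, c χ ^ 2 = 0 := by
    have := Finset.sum_nonneg (s := Finset.univ.erase χ₀) fun χ _ => sq_nonneg (c χ)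
    linarith
  have h4 : c χ₀ ^ 2 = 1 := by linarith
  have hzero : ∀ χ, χ ≠ χ₀ → c χ = 0 := fun χ hχ => pow_eq_zero_iff (two_ne_zero) |>.1
    ((Finset.sum_eq_zero_iff_of_nonneg fun χ _ => sq_nonneg (c χ)).1 h3 χ
      (Finset.mem_erase.2 ⟨hχ, Finset.mem_univ χ⟩))
  rw [Finset.sum_eq_single_of_mem χ₀ (Finset.mem_univ χ₀)
    (fun χ _ hχ => by rw [hzero χ hχ, Int.cast_zero, zero_smul])] at hsum
  rcases sq_eq_one_iff.1 h4 with h5 | h5 <;> rw [h5] at hsum
  · left; rw [hsum]; simpa using χ₀.2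
  · right; rw [hsum]; simpa using χ₀.2

/-- A virtual character of norm two vanishing at `1` is a difference of two irreducibles. -/
theorem gen_norm_two {a : G → ℂ} (ha : IsGeneralizedCharacter G a) (h : classInner a a = 2)
    (h1 : a 1 = 0) :
    ∃ μ ν : G → ℂ, IsIrrCharacter G μ ∧ IsIrrCharacter G ν ∧ μ ≠ ν ∧ a = μ - ν := by
  classical
  obtain ⟨c, -, hsum, hnorm⟩ := exists_coeff_norm ha
  have h2 : ∑ χ, c χ ^ 2 = 2 := by exact_mod_cast hnorm.symm.trans h
  choose d hd0 hd using fun χ : IrrCharacter G => exists_degree_pos χ.2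
  have h3 : ∑ χ, c χ * (d χ : ℤ) = 0 := by
    have h4 := congrFun hsum 1
    rw [h1] at h4
    simp only [Finset.sum_apply, Pi.smul_apply, smul_eq_mul, hd] at h4
    exact_mod_cast h4.symm
  have hbd : ∀ χ, c χ ^ 2 ≤ 1 := by
    intro χ
    have h5 : c χ ^ 2 ≤ 2 := h2 ▸ Finset.single_le_sum
      (f := fun χ => c χ ^ 2) (fun χ _ => sq_nonneg _) (Finset.mem_univ χ)
    have : c χ ≤ 1 := by nlinarith
    have : -1 ≤ c χ := by nlinarith
    nlinarith
  have hex : ∀ s : ℤ, s = 1 ∨ s = -1 → ∃ χ, c χ * s > 0 := by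
    intro s hs
    by_contra hne
    push Not at hne
    have h5 : ∀ χ ∈ Finset.univ, s * (c χ * (d χ : ℤ)) = 0 := by
      refine (Finset.sum_eq_zero_iff_of_nonpos fun χ _ => ?_).1
        (by rw [← Finset.mul_sum, h3, mul_zero])
      have hdn : (0 : ℤ) ≤ d χ := by positivity
      nlinarith [hne χ]
    have h6 : ∀ χ, c χ = 0 := by
      intro χ
      have h7 := h5 χ (Finset.mem_univ χ)
      have hs0 : s ≠ 0 := by rcases hs with rfl | rfl <;> norm_num
      have hd' : (d χ : ℤ) ≠ 0 := by exact_mod_cast (hd0 χ).ne'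
      simpa [hs0, (hd0 χ).ne'] using h7
    simp [h6] at h2
  obtain ⟨χp, hp⟩ := hex 1 (Or.inl rfl)
  obtain ⟨χm, hm⟩ := hex (-1) (Or.inr rfl)
  have hp1 : c χp = 1 := by nlinarith [hbd χp]
  have hm1 : c χm = -1 := by nlinarith [hbd χm]
  have hne : χp ≠ χm := fun he => by rw [he] at hp1; omega
  have hmem : χm ∈ Finset.univ.erase χp := Finset.mem_erase.2 ⟨hne.symm, Finset.mem_univ _⟩
  rw [← Finset.add_sum_erase Finset.univ (fun χ => c χ ^ 2) (Finset.mem_univ χp),
    ← Finset.add_sum_erase _ (fun χ => c χ ^ 2) hmem] at h2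
  have h8 : ∑ χ ∈ (Finset.univ.erase χp).erase χm, c χ ^ 2 = 0 := by
    simp only [hp1, hm1] at h2; linarith
  refine ⟨_, _, χp.2, χm.2, fun he => hne (Subtype.ext he), ?_⟩
  rw [hsum, ← Finset.add_sum_erase Finset.univ _ (Finset.mem_univ χp), ← Finset.add_sum_erase _ _ hmem,
    Finset.sum_eq_zero (s := (Finset.univ.erase χp).erase χm) (fun χ hχ => ?_), hp1, hm1]
  · simp [sub_eq_add_neg]
  · rw [pow_eq_zero_iff (two_ne_zero) |>.1
      ((Finset.sum_eq_zero_iff_of_nonneg fun χ _ => sq_nonneg (c χ)).1 h8 χ hχ), Int.cast_zero, zero_smul]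

theorem classInner_signed {a b : G → ℂ} (ha : IsIrrCharacter G a ∨ IsIrrCharacter G (-a))
    (hb : IsIrrCharacter G b ∨ IsIrrCharacter G (-b)) (h : classInner a b ≠ 0) :
    ∃ ε : ℤ, (ε = 1 ∨ ε = -1) ∧ b = (ε : ℂ) • a := by
  classical
  rcases ha with ha | ha <;> rcases hb with hb | hb
  · by_cases he : a = b
    · exact ⟨1, Or.inl rfl, by simp [he]⟩
    · exact absurd (classInner_isIrr_ne ha hb he) h
  · by_cases he : a = -b
    · exact ⟨-1, Or.inr rfl, by simp [he]⟩
    · exact absurd (by simpa [ci_neg_right] using classInner_isIrr_ne ha hb he) h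
  · by_cases he : -a = b
    · exact ⟨-1, Or.inr rfl, by simp [← he]⟩
    · exact absurd (by simpa [ci_neg_left] using classInner_isIrr_ne ha hb he) h
  · by_cases he : -a = -b
    · exact ⟨1, Or.inl rfl, by simp [neg_inj.1 he]⟩
    · exact absurd (by simpa [ci_neg_left, ci_neg_right] using classInner_isIrr_ne ha hb he) h

theorem isIrr_conjFun {χ : G → ℂ} (h : IsIrrCharacter G χ) : IsIrrCharacter G (conjFun χ) := by
  have h1 : classInner (conjFun χ) (conjFun χ) = 1 := by
    rw [ci_conjFun, classInner_isIrr_self h]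
  refine (gen_norm_one (isGen_of_isCharacter (isCharacter_conj (isCharacter_of_isIrr h))) h1).resolve_right
    fun hn => ?_
  obtain ⟨m, hm0, hm⟩ := exists_degree_pos hn
  obtain ⟨n, hn0, hn'⟩ := exists_degree_pos h
  simp only [Pi.neg_apply, conjFun, hn', Complex.conj_natCast] at hm
  have h2 : ((m + n : ℕ) : ℂ) = 0 := by push_cast; linear_combination -hm
  have h3 : m + n = 0 := Nat.cast_eq_zero.1 h2
  omega

omit [Fintype G] in
theorem signed_one_ne_zero {a : G → ℂ} (ha : IsIrrCharacter G a ∨ IsIrrCharacter G (-a)) :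
    a 1 ≠ 0 := by
  rcases ha with ha | ha
  · exact irr_one_ne_zero ha
  · exact fun h => irr_one_ne_zero ha (by simp [h])

end Finite

end CfsgLib.Coherence
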