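import Cfsg.Agent.CharactersDeep.ClassPairs
import Cfsg.Agent.Characters.Generalized
import Cfsg.Agent.Coherence.Virtual
import Cfsg.Prelude.Def_OddOrderLocal
import Mathlib.RingTheory.IntegralClosure.IntegrallyClosed

/-!
# Peterfalvi (6.7)

An irreducible character that is constant on `Z#`, `Z` central in a TI Sylow subgroup `P` and normal
in `N(P)`, takes there an integer value congruent to its degree modulo `|P|`.
-/

set_option autoImplicit false
set_option linter.unusedSectionVars false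

namespace CfsgLib.Coherence

open Cfsg CfsgLib.Characters CfsgLib.CharactersDeep.ClassPairs

universe u v

/-- A rational algebraic integer is an integer. -/
theorem exists_int_of_integral_mul {z : ℂ} (hz : IsIntegral ℤ z) {a : ℤ} {b : ℕ} (hb : b ≠ 0)
    (h : (b : ℂ) * z = a) : ∃ v : ℤ, z = v := by
  have hq : z = algebraMap ℚ ℂ ((a : ℚ) / b) := by
    rw [map_div₀, map_intCast, map_natCast, eq_div_iff (Nat.cast_ne_zero.2 hb), mul_comm, h]
  rw [hq, isIntegral_algebraMap_iff (algebraMap ℚ ℂ).injective] at hz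
  obtain ⟨v, hv⟩ := IsIntegrallyClosed.isIntegral_iff.1 hz
  exact ⟨v, by rw [hq, ← hv]; simp⟩

/-- The sum of an invariant function over a set with free action is a multiple of the group order. -/
theorem exists_free_sum {P : Type u} [Group P] [Fintype P] {α : Type v} [DecidableEq α]
    (φ : P →* Equiv.Perm α) (s : Finset α) (f : α → ℂ) (hs : ∀ u : P, ∀ x ∈ s, φ u x ∈ s)
    (hfree : ∀ u : P, ∀ x ∈ s, φ u x = x → u = 1) (hinv : ∀ (u : P) (x : α), f (φ u x) = f x)
    (hint : ∀ x ∈ s, IsIntegral ℤ (f x)) :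
    ∃ A : ℂ, IsIntegral ℤ A ∧ ∑ x ∈ s, f x = (Nat.card P : ℂ) * A := by
  classical
  induction s using Finset.strongInduction with
  | _ s ih =>
    by_cases hne : s.Nonempty
    swap
    · exact ⟨0, isIntegral_zero, by rw [Finset.not_nonempty_iff_eq_empty.1 hne]; simp⟩
    obtain ⟨x, hx⟩ := hne
    set o := (Finset.univ : Finset P).image (fun u => φ u x) with ho
    have hsub : o ⊆ s := fun y hy => by
      obtain ⟨u, -, rfl⟩ := Finset.mem_image.1 hy
      exact hs u x hx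
    have hcard : o.card = Nat.card P := by
      rw [ho, Finset.card_image_of_injective _ ?_, Finset.card_univ, Nat.card_eq_fintype_card]
      intro u v huv
      have h1 : φ (v⁻¹ * u) x = x := by
        rw [map_mul, Equiv.Perm.mul_apply]; simp only at huv; rw [huv, map_inv]; simp
      exact (inv_mul_eq_one.1 (hfree _ x hx h1)).symm
    have hss : s \ o ⊂ s := Finset.sdiff_ssubset hsub ⟨φ 1 x, Finset.mem_image_of_mem _ (Finset.mem_univ (1 : P))⟩
    obtain ⟨A, hA, he⟩ := ih _ hss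
      (fun u y hy => by
        obtain ⟨h1, h2⟩ := Finset.mem_sdiff.1 hy
        refine Finset.mem_sdiff.2 ⟨hs u y h1, fun h => h2 ?_⟩
        obtain ⟨v, -, hv⟩ := Finset.mem_image.1 h
        exact Finset.mem_image.2 ⟨u⁻¹ * v, Finset.mem_univ _, by rw [map_mul, Equiv.Perm.mul_apply, hv, map_inv]; simp⟩)
      (fun u y hy => hfree u y (Finset.mem_sdiff.1 hy).1)
      (fun y hy => hint y (Finset.mem_sdiff.1 hy).1)
    refine ⟨A + f x, hA.add (hint x hx), ?_⟩
    rw [← Finset.sum_sdiff hsub, he, mul_add]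
    congr 1
    rw [Finset.sum_congr rfl (g := fun _ => f x) (fun y hy => by
      obtain ⟨u, -, rfl⟩ := Finset.mem_image.1 hy
      exact hinv u x), Finset.sum_const, hcard, nsmul_eq_mul]

variable {G : Type u} [Group G] [Fintype G]

/-- Diagonal conjugation of a subgroup on pairs. -/
def diagConj (H : Subgroup G) : H →* Equiv.Perm (G × G) where
  toFun u := Equiv.prodCongr (MulAut.conj (u : G)).toEquiv (MulAut.conj (u : G)).toEquiv
  map_one' := Equiv.ext fun q => by ext <;> simp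
  map_mul' a b := Equiv.ext fun q => by ext <;> simp [mul_assoc]

noncomputable local instance fintypeSubgroupTI (H : Subgroup G) : Fintype H := Fintype.ofFinite H

open Classical in
/-- Peterfalvi (6.7). -/
theorem constant_irr_mod_sylow (p : ℕ) [hp : Fact p.Prime] (P : Sylow p G)
    (hTI : IsTISubset ((P : Subgroup G) : Set G))
    (hodd : Odd (Nat.card (Subgroup.normalizer ((P : Subgroup G) : Set G)))) (Z : Subgroup G)
    (hZP : Z ≤ P)
    (hZn : ∀ x ∈ Subgroup.normalizer ((P : Subgroup G) : Set G), ∀ z ∈ Z, x * z * x⁻¹ ∈ Z)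
    (hZc : ∀ z ∈ Z, ∀ y ∈ (P : Subgroup G), z * y = y * z)
    (hCL : ∀ z ∈ Z, ∀ z' ∈ Z, z ≠ 1 → z' ≠ 1 →
      Nat.card ↥(Subgroup.normalizer ((P : Subgroup G) : Set G) ⊓ Subgroup.centralizer ({z} : Set G)) =
      Nat.card ↥(Subgroup.normalizer ((P : Subgroup G) : Set G) ⊓ Subgroup.centralizer ({z'} : Set G)))
    {ψ : G → ℂ} (hψ : IsIrrCharacter G ψ)
    (hconst : ∀ z ∈ Z, ∀ z' ∈ Z, z ≠ 1 → z' ≠ 1 → ψ z = ψ z') {z : G} (hz : z ∈ Z) (hz1 : z ≠ 1) :
    ∃ n d : ℤ, ψ z = n ∧ ψ 1 = d ∧ (Nat.card (P : Subgroup G) : ℤ) ∣ d - n := by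
  set N := Subgroup.normalizer ((P : Subgroup G) : Set G) with hN
  have hcl := isClassFunction_of_isIrr hψ
  have hint : ∀ g, IsIntegral ℤ (ψ g) := fun g => character_isIntegral (isCharacter_of_isIrr hψ) g
  obtain ⟨d, hd0, hd⟩ := exists_degree_pos hψ
  -- centralisers of elements of `P` lie in the normaliser
  have hcent : ∀ u ∈ (P : Subgroup G), u ≠ 1 → Subgroup.centralizer ({u} : Set G) ≤ N := by
    intro u hu hu1 c hc
    by_contra hcN
    refine hu1 (hTI c hcN u hu ?_)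
    rw [Subgroup.mem_centralizer_singleton_iff] at hc
    rwa [show c * u * c⁻¹ = u by rw [hc, mul_inv_cancel_right]]
  have hPN : (P : Subgroup G) ≤ N := Subgroup.le_normalizer
  -- conjugates of `Z#` inside `Z`
  have hclass : ∀ a ∈ Z, a ≠ 1 → ∀ x, IsConj a x → x ∈ Z →
      ∃ l ∈ N, l * a * l⁻¹ = x := by
    intro a ha ha1 x hx hxZ
    obtain ⟨g, rfl⟩ := isConj_iff.1 hx
    by_cases hg : g ∈ N
    · exact ⟨g, hg, rfl⟩
    · exact absurd (hTI g hg a (hZP ha) (hZP hxZ)) ha1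
  -- elements of a class fixed by a nontrivial element of `P` lie in `Z`
  have hfixed : ∀ a ∈ Z, a ≠ 1 → ∀ x, IsConj a x → ∀ u ∈ (P : Subgroup G), u ≠ 1 →
      u * x * u⁻¹ = x → x ∈ Z := by
    intro a ha ha1 x hx u hu hu1 hfix
    have hxN : x ∈ N := hcent u hu hu1 (Subgroup.mem_centralizer_singleton_iff.2 (mul_inv_eq_iff_eq_mul.1 hfix).symm)
    obtain ⟨g, rfl⟩ := isConj_iff.1 hx
    have hPg : g * a * g⁻¹ ∈ (P : Subgroup G) := by
      have hpg : IsPGroup p (Subgroup.zpowers (g * a * g⁻¹)) := by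
        obtain ⟨k, hk⟩ := P.isPGroup'.exists_card_eq
        obtain ⟨i, -, hi⟩ := (Nat.dvd_prime_pow hp.out).1
          (hk ▸ (Subgroup.orderOf_coe ⟨a, hZP ha⟩ ▸ orderOf_dvd_natCard (⟨a, hZP ha⟩ : (P : Subgroup G))) :
            orderOf a ∣ p ^ k)
        refine IsPGroup.of_card (n := i) ?_
        rw [Nat.card_zpowers, ← hi]
        exact MulEquiv.orderOf_eq (MulAut.conj g) a
      obtain ⟨k, hk⟩ := hpg.exists_card_eq
      have hle : Subgroup.zpowers (g * a * g⁻¹) ≤ N := Subgroup.zpowers_le.2 hxN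
      have hsup := hpg.to_sup_of_normal_right' P.isPGroup' hle
      have h := P.is_maximal' hsup le_sup_right
      exact h ▸ Subgroup.mem_sup_left (Subgroup.mem_zpowers _)
    by_cases hg : g ∈ N
    · exact hZn g hg a ha
    · exact absurd (hTI g hg a (hZP ha) hPg) ha1
  set O : G → Finset G := fun a => (classSet a).filter (fun x => x ∈ Z) with hO
  have hmemO : ∀ a x, x ∈ O a ↔ IsConj a x ∧ x ∈ Z := fun a x => by
    simp [hO, mem_classSet]
  -- class sizes
  have hclassCard : ∀ a ∈ Z, a ≠ 1 →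
      (classSet a).card = (Subgroup.centralizer ({a} : Set G)).index ∧
      Nat.card ↥(Subgroup.centralizer ({a} : Set G)) = Nat.card ↥(N ⊓ Subgroup.centralizer ({a} : Set G)) ∧
      (O a).card * Nat.card ↥(N ⊓ Subgroup.centralizer ({a} : Set G)) = Nat.card N := by
    intro a ha ha1
    refine ⟨?_, ?_, ?_⟩
    · rw [← card_classSet, ← card_conjugates_eq_index]
      exact Nat.card_congr (Equiv.subtypeEquivRight fun x => ⟨fun h => h.symm, fun h => h.symm⟩)
    · rw [inf_eq_right.2 (hcent a (hZP ha) ha1)]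
    · have h := Finset.card_eq_sum_card_fiberwise (s := (Finset.univ.filter fun l : G => l ∈ N))
        (t := O a) (f := fun l => l * a * l⁻¹) (fun l hl => (hmemO _ _).2
          ⟨isConj_iff.2 ⟨l, rfl⟩, hZn l (Finset.mem_filter.1 hl).2 a ha⟩)
      rw [Finset.sum_congr rfl (g := fun _ => Nat.card ↥(N ⊓ Subgroup.centralizer ({a} : Set G)))
        (fun x hx => ?_), Finset.sum_const, smul_eq_mul] at h
      · rw [← h, Nat.card_eq_fintype_card, ← Fintype.card_subtype]
      obtain ⟨hxc, hxZ⟩ := (hmemO _ _).1 hx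
      obtain ⟨l₀, hl₀, rfl⟩ := hclass a ha ha1 x hxc hxZ
      rw [Finset.filter_filter, ← Fintype.card_subtype, ← Nat.card_eq_fintype_card]
      refine Nat.card_congr
        { toFun := fun l => ⟨l₀⁻¹ * l.1, N.mul_mem (N.inv_mem hl₀) l.2.1, ?_⟩
          invFun := fun c => ⟨l₀ * c.1, N.mul_mem hl₀ c.2.1, ?_⟩
          left_inv := fun l => Subtype.ext (by simp)
          right_inv := fun c => Subtype.ext (by simp) }
      · show l₀⁻¹ * l.1 ∈ Subgroup.centralizer ({a} : Set G)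
        rw [Subgroup.mem_centralizer_singleton_iff]
        have h1 := congrArg (fun y => l₀⁻¹ * y * l.1) l.2.2
        simpa [mul_assoc] using h1
      · have h1 := Subgroup.mem_centralizer_singleton_iff.1 c.2.2
        show l₀ * c.1 * a * (l₀ * c.1)⁻¹ = _
        rw [mul_assoc l₀ c.1 a, h1]
        simp [mul_assoc]
  have hr : ∀ a ∈ Z, a ≠ 1 → (O a).card = (O z).card ∧ (classSet a).card = (classSet z).card := by
    intro a ha ha1
    obtain ⟨h1, h2, h3⟩ := hclassCard a ha ha1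
    obtain ⟨k1, k2, k3⟩ := hclassCard z hz hz1
    rw [hCL a ha z hz ha1 hz1] at h2 h3
    refine ⟨Nat.eq_of_mul_eq_mul_right Nat.card_pos (h3.trans k3.symm), ?_⟩
    rw [h1, k1]
    have e1 := (Subgroup.centralizer ({a} : Set G)).index_mul_card
    have e2 := (Subgroup.centralizer ({z} : Set G)).index_mul_card
    rw [h2] at e1
    rw [k2] at e2
    exact Nat.eq_of_mul_eq_mul_right Nat.card_pos (e1.trans e2.symm)
  -- an element is not conjugate to its inverse
  have hninv : ∀ a ∈ Z, a ≠ 1 → ¬ IsConj a a⁻¹ := by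
    intro a ha ha1 h
    obtain ⟨l, hl, hla⟩ := hclass a ha ha1 _ h (inv_mem ha)
    obtain ⟨i, hi⟩ := hodd
    have hpow : l ^ (2 * i + 1) = 1 := by
      have := pow_card_eq_one' (G := N) (x := ⟨l, hl⟩)
      rw [hi] at this
      exact congrArg Subtype.val this
    have h2 : ∀ j : ℕ, l ^ (2 * j) * a * (l ^ (2 * j))⁻¹ = a := by
      intro j
      induction j with
      | zero => simp
      | succ j ih =>
        rw [show 2 * (j + 1) = 2 + 2 * j by ring, pow_add]
        calc l ^ 2 * l ^ (2 * j) * a * (l ^ 2 * l ^ (2 * j))⁻¹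
            = l * (l * (l ^ (2 * j) * a * (l ^ (2 * j))⁻¹) * l⁻¹) * l⁻¹ := by
              simp [pow_two, mul_assoc]
          _ = l * a⁻¹ * l⁻¹ := by rw [ih, hla]
          _ = (l * a * l⁻¹)⁻¹ := by simp [mul_assoc]
          _ = a := by rw [hla, inv_inv]
    have hinva : a = a⁻¹ := by
      conv_lhs => rw [show a = l ^ (2 * i + 1) * a * (l ^ (2 * i + 1))⁻¹ by rw [hpow]; simp]
      rw [pow_succ']
      calc l * l ^ (2 * i) * a * (l * l ^ (2 * i))⁻¹
          = l * (l ^ (2 * i) * a * (l ^ (2 * i))⁻¹) * l⁻¹ := by simp [mul_assoc]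
        _ = a⁻¹ := by rw [h2 i, hla]
    have h3 : orderOf a ∣ 2 :=
      orderOf_dvd_of_pow_eq_one (by rw [pow_two]; nth_rewrite 2 [hinva]; exact mul_inv_cancel a)
    have h4 : Odd (orderOf a) := by
      refine (show Odd (Nat.card N) from ⟨i, hi⟩).of_dvd_nat ?_
      exact Subgroup.orderOf_coe ⟨a, hPN (hZP ha)⟩ ▸ orderOf_dvd_natCard (⟨a, hPN (hZP ha)⟩ : N)
    rcases (Nat.dvd_prime Nat.prime_two).1 h3 with h5 | h5
    · exact ha1 (orderOf_eq_one_iff.1 h5)
    · rw [h5] at h4; exact absurd h4 (by decide)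
  -- the congruence for pairs of classes
  set W := ψ z with hW
  set φ := diagConj (P : Subgroup G) with hφ
  have hsmul : ∀ (u : (P : Subgroup G)) (q : G × G),
      φ u q = ((u : G) * q.1 * (u : G)⁻¹, (u : G) * q.2 * (u : G)⁻¹) := fun _ _ => rfl
  have hpairs : ∀ a ∈ Z, a ≠ 1 → ∀ b ∈ Z, b ≠ 1 → ∃ A : ℂ, IsIntegral ℤ A ∧
      ((classSet z).card : ℂ) * ((classSet z).card : ℂ) * W * W / ψ 1 =
        ∑ q ∈ O a ×ˢ O b, ψ (q.1 * q.2) + (Nat.card (P : Subgroup G) : ℂ) * A := by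
    intro a ha ha1 b hb hb1
    have hZfix : ∀ (u : (P : Subgroup G)) (x : G), x ∈ Z → (u : G) * x * (u : G)⁻¹ = x := fun u x hx => by
      rw [← hZc x hx u u.2, mul_inv_cancel_right]
    obtain ⟨A, hA, hsum⟩ := exists_free_sum φ
      ((classSet a ×ˢ classSet b) \ (O a ×ˢ O b)) (fun q => ψ (q.1 * q.2))
      (fun u q hq => by
        obtain ⟨h1, h2⟩ := Finset.mem_sdiff.1 hq
        obtain ⟨h3, h4⟩ := Finset.mem_product.1 h1
        rw [hsmul]
        refine Finset.mem_sdiff.2 ⟨Finset.mem_product.2 ⟨(conj_mem_classSet (u : G)).2 h3,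
          (conj_mem_classSet (u : G)).2 h4⟩, fun h => h2 ?_⟩
        obtain ⟨h5, h6⟩ := Finset.mem_product.1 h
        have k1 : q.1 ∈ Z := by
          have h8 := ((hmemO _ _).1 h5).2
          have h7 := hZfix u⁻¹ _ h8
          simp [mul_assoc] at h7 h8
          rw [h7]; exact h8
        have k2 : q.2 ∈ Z := by
          have h8 := ((hmemO _ _).1 h6).2
          have h7 := hZfix u⁻¹ _ h8
          simp [mul_assoc] at h7 h8
          rw [h7]; exact h8
        exact Finset.mem_product.2 ⟨(hmemO _ _).2 ⟨mem_classSet.1 h3, k1⟩,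
          (hmemO _ _).2 ⟨mem_classSet.1 h4, k2⟩⟩)
      (fun u q hq hfix => by
        obtain ⟨h1, h2⟩ := Finset.mem_sdiff.1 hq
        obtain ⟨h3, h4⟩ := Finset.mem_product.1 h1
        rw [hsmul, Prod.ext_iff] at hfix
        by_contra hu
        have hu' : (u : G) ≠ 1 := fun h => hu (Subtype.ext h)
        exact h2 (Finset.mem_product.2
          ⟨(hmemO _ _).2 ⟨mem_classSet.1 h3, hfixed a ha ha1 _ (mem_classSet.1 h3) u u.2 hu' hfix.1⟩,
            (hmemO _ _).2 ⟨mem_classSet.1 h4, hfixed b hb hb1 _ (mem_classSet.1 h4) u u.2 hu' hfix.2⟩⟩))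
      (fun u q => by
        rw [hsmul]
        show ψ (_ * _) = _
        rw [show (u : G) * q.1 * (u : G)⁻¹ * ((u : G) * q.2 * (u : G)⁻¹)
          = (u : G) * (q.1 * q.2) * (u : G)⁻¹ by simp [mul_assoc]]
        exact hcl _ _)
      (fun q _ => hint _)
    refine ⟨A, hA, ?_⟩
    have hsub : O a ×ˢ O b ⊆ classSet a ×ˢ classSet b :=
      Finset.product_subset_product (Finset.filter_subset _ _) (Finset.filter_subset _ _)
    rw [← hsum, add_comm, Finset.sum_sdiff hsub, sum_pairs_char hψ, (hr a ha ha1).2, (hr b hb hb1).2,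
      hconst a ha z hz ha1 hz1, hconst b hb z hz hb1 hz1]
  obtain ⟨A₁, hA₁, e1⟩ := hpairs z hz hz1 z hz hz1
  obtain ⟨A₂, hA₂, e2⟩ := hpairs z hz hz1 z⁻¹ (inv_mem hz) (inv_ne_one.2 hz1)
  set r := (O z).card with hrdef
  have hne1 : ∀ x ∈ Z, IsConj z x → x ≠ 1 := fun x _ hx h => hz1 (isConj_one_left.1 (h ▸ hx))
  have hsum1 : ∑ q ∈ O z ×ˢ O z, ψ (q.1 * q.2) = (r : ℂ) * r * W := by
    rw [Finset.sum_congr rfl (g := fun _ => W) ?_, Finset.sum_const, Finset.card_product, nsmul_eq_mul]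
    · push_cast; ring
    intro q hq
    obtain ⟨h1, h2⟩ := Finset.mem_product.1 hq
    obtain ⟨c1, z1⟩ := (hmemO _ _).1 h1
    obtain ⟨c2, z2⟩ := (hmemO _ _).1 h2
    refine hconst _ (mul_mem z1 z2) z hz (fun h => ?_) hz1
    have h3 : q.2 = q.1⁻¹ := eq_inv_of_mul_eq_one_right h
    exact hninv q.1 z1 (hne1 _ z1 c1) (h3 ▸ c1.symm.trans c2)
  have hsum2 : ∑ q ∈ O z ×ˢ O z⁻¹, ψ (q.1 * q.2) = (r : ℂ) * (d : ℂ) + ((r : ℂ) * r - r) * W := by
    rw [Finset.sum_product]
    rw [Finset.sum_congr rfl (g := fun _ => (d : ℂ) + ((r : ℂ) - 1) * W) ?_, Finset.sum_const,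
      nsmul_eq_mul]
    · ring
    intro x hx
    obtain ⟨c1, z1⟩ := (hmemO _ _).1 hx
    have hxinv : x⁻¹ ∈ O z⁻¹ := by
      obtain ⟨g, rfl⟩ := isConj_iff.1 c1
      exact (hmemO _ _).2 ⟨isConj_iff.2 ⟨g, by simp [mul_assoc]⟩, inv_mem z1⟩
    rw [← Finset.add_sum_erase _ _ hxinv]
    show ψ (x * x⁻¹) + _ = _
    rw [mul_inv_cancel, hd, Finset.sum_congr rfl (g := fun _ => W) (fun y hy => ?_), Finset.sum_const,
      Finset.card_erase_of_mem hxinv, (hr z⁻¹ (inv_mem hz) (inv_ne_one.2 hz1)).1, nsmul_eq_mul,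
      Nat.cast_sub (Finset.card_pos.2 ⟨x, hx⟩), Nat.cast_one]
    obtain ⟨hy1, hy2⟩ := Finset.mem_erase.1 hy
    exact hconst _ (mul_mem z1 ((hmemO _ _).1 hy2).2) z hz
      (fun h => hy1 (eq_inv_of_mul_eq_one_right h)) hz1
  have hkey : (r : ℂ) * ((d : ℂ) - W) = (Nat.card (P : Subgroup G) : ℂ) * (A₁ - A₂) := by
    rw [hsum1] at e1
    rw [hsum2] at e2
    linear_combination e1 - e2
  -- the value is rational
  obtain ⟨mz, hmz⟩ := classInner_gen (G := Z)
    (isGen_restrict Z (CfsgLib.Characters.isGen_of_isIrr hψ)) CfsgLib.Characters.isGen_one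
  have hsumZ : ∑ x : Z, ψ x = (d : ℂ) + ((Nat.card Z : ℂ) - 1) * W := by
    rw [← Finset.add_sum_erase Finset.univ _ (Finset.mem_univ (1 : Z)), OneMemClass.coe_one, hd,
      Finset.sum_congr rfl (g := fun _ => W) (fun x hx => hconst _ x.2 z hz
        (fun h => Finset.ne_of_mem_erase hx (Subtype.ext h)) hz1), Finset.sum_const,
      Finset.card_erase_of_mem (Finset.mem_univ _), Finset.card_univ, nsmul_eq_mul,
      Nat.cast_sub Fintype.card_pos, Nat.cast_one, Fintype.card_eq_nat_card]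
  have hZ2 : 2 ≤ Nat.card Z := by
    have h1 : Nat.card Z ≠ 1 := fun h => hz1 (by
      have := Subgroup.eq_bot_of_card_eq Z h
      rw [this] at hz
      exact Subgroup.mem_bot.1 hz)
    have := Nat.card_pos (α := Z)
    omega
  obtain ⟨n, hn⟩ : ∃ n : ℤ, W = n := by
    refine exists_int_of_integral_mul (hint z) (b := Nat.card Z - 1)
      (a := (Nat.card Z : ℤ) * mz - d) (by omega) ?_
    have h1 : classInner (fun x : Z => ψ x) (fun _ => 1) = (Nat.card Z : ℂ)⁻¹ * ∑ x : Z, ψ x := by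
      simp [classInner]
    rw [h1, hsumZ, inv_mul_eq_iff_eq_mul₀ natCard_ne_zero] at hmz
    rw [Nat.cast_sub (by omega : 1 ≤ Nat.card Z)]
    push_cast
    linear_combination hmz
  refine ⟨n, d, hn, by simpa using hd, ?_⟩
  obtain ⟨c, hc⟩ := exists_int_of_integral_mul (z := A₁ - A₂) (hA₁.sub hA₂)
    (a := (r : ℤ) * ((d : ℤ) - n)) Nat.card_pos.ne' (by rw [← hkey, hn]; push_cast; ring)
  have hdvd : (Nat.card (P : Subgroup G) : ℤ) ∣ (r : ℤ) * ((d : ℤ) - n) :=
    ⟨c, by
      have h1 : (((r : ℤ) * ((d : ℤ) - n) : ℤ) : ℂ) = (((Nat.card (P : Subgroup G) : ℤ) * c : ℤ) : ℂ) := by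
        push_cast; rw [← hc, ← hkey, hn]
      exact_mod_cast h1⟩
  have hcop : Nat.Coprime (Nat.card (P : Subgroup G)) r := by
    obtain ⟨k, hk⟩ := P.isPGroup'.exists_card_eq
    rw [hk]
    refine (hp.out.coprime_iff_not_dvd.2 fun hpr => P.not_dvd_index (hpr.trans ?_)).pow_left k
    -- `r` divides `[N:P]`
    have hPC : (P : Subgroup G) ≤ N ⊓ Subgroup.centralizer ({z} : Set G) := le_inf hPN fun y hy =>
      Subgroup.mem_centralizer_singleton_iff.2 (hZc z hz y hy).symm
    have h3 := (hclassCard z hz hz1).2.2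
    have h4 : r = (N ⊓ Subgroup.centralizer ({z} : Set G)).relIndex N := by
      have h5 := Subgroup.card_mul_index ((N ⊓ Subgroup.centralizer ({z} : Set G)).subgroupOf N)
      rw [Nat.card_congr (Subgroup.subgroupOfEquivOfLe inf_le_left).toEquiv] at h5
      exact Nat.eq_of_mul_eq_mul_right Nat.card_pos
        (h3.trans (by rw [← h5, mul_comm]; rfl))
    rw [h4]
    exact (Dvd.intro_left _ (Subgroup.relIndex_mul_relIndex _ _ _ hPC inf_le_left)).trans
      (Dvd.intro _ (Subgroup.relIndex_mul_index hPN))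
  exact Int.dvd_of_dvd_mul_right_of_gcd_one hdvd (by rw [Int.gcd_natCast_natCast]; exact hcop)

end CfsgLib.Coherence
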