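import Cfsg.Agent.Coherence.TIInduction
import Cfsg.Agent.Coherence.TI

/-!
# Sibley's coherence theorem

`K = H.subgroupOf L` is the nilpotent kernel of the odd order Frobenius group `L = N(H)` and `H#` is
a T.I. set.  In the case left open by (6.5) the set is coherent by (6.6), (6.7) and repeated (5.6).
-/

set_option autoImplicit false
set_option linter.unusedSectionVars false

namespace CfsgLib.Coherence

open Cfsg ComplexConjugate CfsgLib.Characters CfsgLib.OddOrderChar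

universe u

noncomputable local instance fintypeSubgroupSibley {Γ : Type u} [Group Γ] [Fintype Γ] (M : Subgroup Γ) : Fintype M :=
  Fintype.ofFinite M

/-- If the irreducible characters nontrivial on `Z` occur in `Ψ` with multiplicity proportional to
their degree, then `Ψ 1 - Ψ z` is constant on `Z#`. -/
theorem value_diff {L : Type u} [Group L] [Fintype L] (Z : Subgroup L) {X : Finset (L → ℂ)}
    (hX : ∀ χ, χ ∈ X ↔ IsIrrCharacter L χ ∧ ∃ z ∈ Z, χ z ≠ χ 1) {Ψ : L → ℂ}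
    (hΨ : IsClassFunction L Ψ) {c : ℂ} (hc : ∀ χ ∈ X, classInner Ψ χ = c * χ 1) {z : L}
    (hz : z ∈ Z) (hz1 : z ≠ 1) : Ψ 1 - Ψ z = c * (Nat.card L : ℂ) := by
  classical
  have h : ∀ g, Ψ g = ∑ χ : IrrCharacter L, classInner Ψ χ.1 * χ.1 g := fun g => by
    have h' := congrFun (classFunction_expansion hΨ) g
    simpa [Finset.sum_apply] using h'
  have hcoef : ∀ χ : IrrCharacter L, classInner Ψ χ.1 * (χ.1 1 - χ.1 z) =
      c * (χ.1 1 * χ.1 1 - χ.1 1 * χ.1 z) := by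
    intro χ
    by_cases hm : χ.1 ∈ X
    · rw [hc _ hm]; ring
    · have he : χ.1 z = χ.1 1 := by
        by_contra hne
        exact hm ((hX _).2 ⟨χ.2, z, hz, hne⟩)
      rw [he, sub_self, mul_zero, sub_self, mul_zero]
  rw [h 1, h z, ← Finset.sum_sub_distrib,
    Finset.sum_congr rfl fun χ _ => (mul_sub _ _ _).symm.trans (hcoef χ), ← Finset.mul_sum,
    Finset.sum_sub_distrib, sum_degree_mul z, if_neg hz1, sub_zero]
  congr 1
  rw [← sum_degree_sq]
  exact Finset.sum_congr rfl fun χ _ => (sq _).symm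

/-- Exchanging the two images of a conjugate pair and changing their signs. -/
theorem isExt_swap {L : Type u} [Group L] [Fintype L] {G : Type u} [Group G] [Fintype G]
    {T : (L → ℂ) →ₗ[ℂ] (G → ℂ)} [DecidableEq (L → ℂ)] {η₁ η₂ : L → ℂ} (hirr₁ : IsIrrCharacter L η₁)
    (hirr₂ : IsIrrCharacter L η₂) (hne : η₁ ≠ η₂) (hdeg : η₁ 1 = η₂ 1) {f : (L → ℂ) → (G → ℂ)}
    (hf : IsExt {η₁, η₂} T f) :
    IsExt {η₁, η₂} T (fun η => if η = η₁ then -f η₂ else -f η₁) := by
  have m₁ : η₁ ∈ ({η₁, η₂} : Finset (L → ℂ)) := by simp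
  have m₂ : η₂ ∈ ({η₁, η₂} : Finset (L → ℂ)) := by simp
  refine ⟨fun χ hχ => ?_, fun χ hχ φ hφ => ?_, fun χ hχ φ hφ => ?_⟩
  · split_ifs
    · exact isGen_neg (hf.gen η₂ m₂)
    · exact isGen_neg (hf.gen η₁ m₁)
  · rw [Finset.mem_insert, Finset.mem_singleton] at hχ hφ
    rcases hχ with rfl | rfl <;> rcases hφ with rfl | rfl <;>
      simp [hne.symm, ci_neg_left, ci_neg_right, hf.inner, m₁, m₂, classInner_isIrr_self,
        classInner_isIrr_ne hirr₁ hirr₂ hne, classInner_isIrr_ne hirr₂ hirr₁ hne.symm, hirr₁, hirr₂]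
  · have h12 := hf.agree η₁ m₁ η₂ m₂
    have h21 := hf.agree η₂ m₂ η₁ m₁
    rw [Finset.mem_insert, Finset.mem_singleton] at hχ hφ
    rcases hχ with rfl | rfl <;> rcases hφ with rfl | rfl
    · simp [edge]
    · simp only [↓reduceIte, if_neg hne.symm]
      rw [← h12, hdeg]
      module
    · simp only [↓reduceIte, if_neg hne.symm]
      rw [← h21, hdeg]
      module
    · simp [edge]

variable {G : Type u} [Group G] [Fintype G] {H L : Subgroup G} [Fintype L]
  [hKn : (H.subgroupOf L).Normal]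

/-- Coherence of `S` for a T.I. Frobenius kernel in a normaliser of odd order. -/
theorem sibley (hTI : IsTISubset (H : Set G)) (hN : Subgroup.normalizer (H : Set G) = L)
    (hodd : Odd (Nat.card L)) (hnil : Group.IsNilpotent (H.subgroupOf L))
    (hK1 : H.subgroupOf L ≠ ⊥) (hKL : H.subgroupOf L < ⊤)
    (hfix : ∀ k ∈ H.subgroupOf L, k ≠ 1 →
      Subgroup.centralizer ({k} : Set L) ≤ H.subgroupOf L) :
    IsCoherent (inducedIrrAbove (H.subgroupOf L) ⊥) {1}ᶜ (fun α : L → ℂ => indFun L α) := by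
  classical
  set K := H.subgroupOf L with hKdef
  have hsolv : Group.IsSolvable K := inferInstance
  have hHL : H ≤ L := hN ▸ Subgroup.le_normalizer
  have hH₁K : ⁅K, K⁆ < K := by
    have : Nontrivial K := (Subgroup.nontrivial_iff_ne_bot K).2 hK1
    have h := (Subgroup.map_lt_map_iff_of_injective K.subtype_injective).2
      (Group.IsSolvable.commutator_lt_top_of_nontrivial K)
    rwa [Subgroup.map_subtype_commutator, ← MonoidHom.range_eq_map, Subgroup.range_subtype] at h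
  obtain ⟨hiso, hiso1⟩ := ti_isometry hTI hN
  obtain ⟨F, T, R, hF, hS, hTτ⟩ := frob_exists_sys hfix hsolv hK1 hiso hiso1 hodd hKL
  suffices hcoh : ∃ g, IsExt (above K F ⊥) T g by
    obtain ⟨g, hg⟩ := hcoh
    exact isCoherent_above hsolv hS hF hTτ ⊥ (bot_lt_iff_ne_bot.2 hK1) hg
  by_cases hgood : (∃ N : Subgroup L, N.Normal ∧ ⁅K, K⁆ < N ∧ N < K) ∨
      4 * K.index ^ 2 + 1 < ⁅K, K⁆.relIndex K ∨
      (¬ ∃ p m : ℕ, p.Prime ∧ (⊥ : Subgroup L).relIndex K = p ^ m) ∨ ⁅K, K⁆ ≤ ⊥ ∨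
      (∃ p m : ℕ, p.Prime ∧ (⊥ : Subgroup L).relIndex K = p ^ m ∧ K.index ∣ p - 1)
  · have : ((⊥ : Subgroup L).subgroupOf K).Normal := Subgroup.Normal.subgroupOf inferInstance K
    exact chief_coherence (H₁ := ⁅K, K⁆) hsolv hS hF hodd ⊥ bot_le inferInstance
      (sup_bot_eq _).symm hH₁K hKL (frob_quot hfix _) hgood
  push Not at hgood
  obtain ⟨-, -, ⟨p, m, hp, hpm⟩, hnab, -⟩ := hgood
  have : Fact p.Prime := ⟨hp⟩
  rw [Subgroup.relIndex_bot_left] at hpm
  set e := K.index with he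
  have he0 : e ≠ 0 := K.index_ne_zero_of_finite
  have heC : (e : ℂ) ≠ 0 := Nat.cast_ne_zero.2 he0
  have heodd : Odd e := hodd.of_dvd_nat K.index_dvd_card
  have hKodd : Odd (Nat.card K) := hodd.of_dvd_nat K.card_subgroup_dvd_card
  have hm0 : m ≠ 0 := by
    rintro rfl
    rw [pow_zero] at hpm
    exact hK1 (Subgroup.eq_bot_of_card_eq K hpm)
  -- `H` is a Sylow subgroup
  have hHcard : Nat.card H = p ^ m := by
    rw [← hpm, hKdef, Nat.card_congr (Subgroup.subgroupOfEquivOfLe hHL).toEquiv]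
  have hfact : (Nat.card G).factorization p = m := by
    refine le_antisymm (not_lt.1 fun h => ?_)
      ((hp.pow_dvd_iff_le_factorization Nat.card_pos.ne').1 (hHcard ▸ H.card_subgroup_dvd_card))
    have h1 : p ∣ (H.subgroupOf (Subgroup.normalizer (H : Set G))).index :=
      Sylow.prime_dvd_card_quotient_normalizer
        ((hp.pow_dvd_iff_le_factorization Nat.card_pos.ne').2 h) hHcard
    rw [hN] at h1
    have h2 : p ∣ Nat.card K := hpm ▸ dvd_pow_self p hm0
    exact hp.not_dvd_one ((frob_coprime hfix).gcd_eq_one ▸ Nat.dvd_gcd h2 h1)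
  set P : Sylow p G := Sylow.ofCard H (by rw [hHcard, hfact]) with hPdef
  have hPH : (P : Subgroup G) = H := rfl
  -- the central subgroup `Z`
  set Z : Subgroup L := K ⊓ Subgroup.centralizer (K : Set L) ⊓ ⁅K, K⁆ with hZdef
  have hZK : Z ≤ K := inf_le_left.trans inf_le_left
  have hZc : ∀ z ∈ Z, ∀ k ∈ K, z * k = k * z := fun z hz k hk =>
    (Subgroup.mem_centralizer_iff.1 hz.1.2 k hk).symm
  obtain ⟨z₀, hz₀, hz₀1⟩ : ∃ z ∈ Z, z ≠ 1 := by
    have hne : commutator K ≠ ⊥ := fun h => hnab (by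
      rw [← Subgroup.map_subtype_commutator, h, Subgroup.map_bot])
    obtain ⟨z, hz, hz1⟩ := (Subgroup.bot_or_exists_ne_one _).resolve_left
      (CfsgLib.Solvable.inf_center_ne_bot hne)
    refine ⟨z, ⟨⟨z.2, Subgroup.mem_centralizer_iff.2 fun k hk =>
      congrArg Subtype.val (Subgroup.mem_center_iff.1 hz.2 ⟨k, hk⟩)⟩, ?_⟩,
      fun h => hz1 (Subtype.ext h)⟩
    rw [← Subgroup.map_subtype_commutator]
    exact Subgroup.mem_map_of_mem _ hz.1
  have hcentZ : ∀ z ∈ Z, z ≠ 1 → Subgroup.centralizer ({z} : Set L) = K := fun z hz hz1 =>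
    frob_centralizer_eq hfix (hZK hz) hz1 (hZc z hz)
  set q := Z.relIndex K with hq
  set ζ := Nat.card Z with hζ
  have hζq : ζ * q = Nat.card K := by
    rw [hζ, ← Subgroup.relIndex_bot_left, hq, Subgroup.relIndex_mul_relIndex ⊥ Z K bot_le hZK,
      Subgroup.relIndex_bot_left]
  have hζ2 : 2 * e + 1 ≤ ζ := by
    refine big_of_odd_one_mod heodd ?_ (index_dvd_card_sub_one K Z hcentZ) ?_
    · exact hodd.of_dvd_nat Z.card_subgroup_dvd_card
    · exact (Subgroup.one_lt_card_iff_ne_bot Z).2 fun h => hz₀1 (by simpa [h] using hz₀)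
  have hq1 : 1 < q := by
    refine lt_of_le_of_ne (Nat.one_le_iff_ne_zero.2 Subgroup.index_ne_zero_of_finite) fun h => hnab ?_
    have hle : K ≤ Z := Subgroup.relIndex_eq_one.1 h.symm
    exact Subgroup.commutator_le.2 fun a ha b hb => by
      rw [Subgroup.mem_bot, commutatorElement_eq_one_iff_commute]
      exact hZc a (hle ha) b hb
  -- the sets `X` and `Y`
  set X := F \ above K F Z with hXdef
  set Y := above K F ⁅K, K⁆ with hYdef
  have hXF : X ⊆ F := Finset.sdiff_subset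
  have hYF : Y ⊆ F := above_subset _
  have hirrF : ∀ φ ∈ F, IsIrrCharacter L φ := fun φ hφ =>
    frob_irr (A := (⊥ : Subgroup L)) hfix φ (by rw [← hF, Finset.mem_coe]; exact hφ)
  have hirrX : ∀ φ ∈ X, IsIrrCharacter L φ := fun φ hφ => hirrF φ (hXF hφ)
  have hirrY : ∀ φ ∈ Y, IsIrrCharacter L φ := fun φ hφ => hirrF φ (hYF hφ)
  have hXY : Disjoint X Y := Finset.disjoint_left.2 fun φ h1 h2 =>
    (Finset.mem_sdiff.1 h1).2 ((mem_above hF).2
      (inducedIrrAbove_mono K (inf_le_right : Z ≤ ⁅K, K⁆) ((mem_above hF).1 h2)))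
  have hXc : ∀ φ ∈ X, conjFun φ ∈ X := by
    intro φ hφ
    obtain ⟨h1, h2⟩ := Finset.mem_sdiff.1 hφ
    exact Finset.mem_sdiff.2 ⟨hS.conj_mem φ h1, fun h => h2 (by simpa using above_conj hF _ h)⟩
  have hYc : ∀ φ ∈ Y, conjFun φ ∈ Y := above_conj hF
  have hXirr : ∀ χ, χ ∈ X ↔ IsIrrCharacter L χ ∧ ∃ z ∈ Z, χ z ≠ χ 1 := by
    intro χ
    have h := Set.ext_iff.1 (diff_eq_nontrivial Z hZK fun χ hχ => frob_irr hfix χ hχ.1) χ
    rw [hXdef, Finset.mem_sdiff, mem_above hF, ← Finset.mem_coe, hF]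
    exact h
  set dg := relDeg K with hdg
  have hdeg : ∀ φ ∈ F, φ 1 = (dg φ : ℂ) * (e : ℂ) := fun φ hφ => relDeg_spec hF hφ
  have hsumX : ∑ φ ∈ X, (φ 1).re ^ 2 / sqNorm φ = (e : ℝ) * ((Nat.card K : ℝ) - q) := by
    have h0 := sum_re_above hF (⊥ : Subgroup L)
    have hab : above K F ⊥ = F := Finset.ext fun φ => by
      rw [mem_above hF, ← hF, Finset.mem_coe]
    rw [hab, ← Finset.sum_sdiff (above_subset (K := K) Z), sum_re_above hF Z,
      Subgroup.relIndex_bot_left, ← hXdef, ← hq, ← he] at h0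
    linarith
  obtain ⟨χ₀, hχ₀⟩ : X.Nonempty := by
    by_contra h
    rw [Finset.not_nonempty_iff_eq_empty.1 h, Finset.sum_empty] at hsumX
    have h1 : (q : ℝ) < Nat.card K := by
      rw [← hζq]
      exact_mod_cast lt_mul_left (by omega) (by omega : 1 < ζ)
    have h2 : (0 : ℝ) < e := Nat.cast_pos.2 (Nat.pos_of_ne_zero he0)
    nlinarith
  obtain ⟨η₁, hη₁, hη₁deg⟩ := exists_linear_mem K hsolv ⁅K, K⁆ hH₁K
  rw [← mem_above hF] at hη₁
  have hdegY : ∀ φ ∈ Y, φ 1 = (e : ℂ) := fun φ hφ => above_degree le_rfl ((mem_above hF).1 hφ)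
  have hYeven : Even Y.card := by
    have h := sum_re_above hF ⁅K, K⁆
    rw [← hYdef, Finset.sum_congr rfl (g := fun _ => (e : ℝ) ^ 2) (fun φ hφ => by
      rw [sqNorm, classInner_isIrr_self (hirrY φ hφ), Complex.one_re, div_one, hdegY φ hφ,
        Complex.natCast_re]), Finset.sum_const, nsmul_eq_mul, ← he] at h
    have h2 : ((Y.card * e + 1 : ℕ) : ℝ) = (⁅K, K⁆.relIndex K : ℝ) := by
      have h3 : (e : ℝ) * (((Y.card * e + 1 : ℕ) : ℝ) - 1)
          = (e : ℝ) * ((⁅K, K⁆.relIndex K : ℝ) - 1) := by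
        rw [← h]; push_cast; ring
      have := mul_left_cancel₀ (Nat.cast_ne_zero.2 he0) h3
      linarith
    have h4 : Odd (⁅K, K⁆.relIndex K) := hKodd.of_dvd_nat (Subgroup.index_dvd_card _)
    rw [← Nat.cast_inj.1 h2] at h4
    have h5 : Even (Y.card * e) := by
      obtain ⟨j, hj⟩ := h4
      exact ⟨j, by omega⟩
    exact (Nat.even_mul.1 h5).resolve_right (Nat.not_even_iff_odd.2 heodd)
  -- coherence of `X` and of `Y`
  obtain ⟨σ, hσ⟩ := irr_nontrivial_coherence hsolv hS hF hodd hnil hH₁K hKL (frob_quot hfix _) Z hZK hZc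
    fun χ hχ => frob_irr hfix χ hχ.1
  rw [← hXdef] at hσ
  obtain ⟨f, hf⟩ := (hS.subset hYF hYc).uniform_degree ⟨η₁, hη₁⟩
    fun a ha b hb => by rw [hdegY a ha, hdegY b hb]
  set u := f η₁ with hu
  have hugen : IsGeneralizedCharacter G u := hf.gen η₁ hη₁
  set ψR : L → ℂ := fun l => u l with hψR
  have hψgen : IsGeneralizedCharacter L ψR := Characters.isGen_restrict L hugen
  have hrec : ∀ α ∈ zspanOn (↑F : Set (L → ℂ)) {1}ᶜ,
      classInner (T α) u = classInner α ψR := by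
    intro α hα
    rw [hTτ α hα]
    exact classInner_indFun_left L α (Coherence.isClassFunction_of_isGen hugen)
  have hint : ∀ φ ∈ F, ∃ n : ℤ, classInner φ ψR = n := fun φ hφ =>
    ci_int (Coherence.isGen_of_isIrr (hirrF φ hφ)) hψgen
  have hprop : ∀ φ ∈ X, χ₀ 1 * classInner φ ψR = φ 1 * classInner χ₀ ψR := by
    intro φ hφ
    have h2 : ∀ a ∈ X, classInner (σ a) u = 0 := fun a ha =>
      cross_orth hirrF hXF hYF hXY (fun a ha => ⟨_, hXc a ha, hS.conj_ne a (hXF ha)⟩)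
        (fun a ha => ⟨_, hYc a ha, hS.conj_ne a (hYF ha)⟩) hS.isom hσ hf ha hη₁
    have h := hrec _ (hS.deg.edge_mem (hXF hφ) (hXF hχ₀))
    rw [← hσ.agree φ hφ χ₀ hχ₀, ci_sub_left, ci_smul_left, ci_smul_left, h2 φ hφ, h2 χ₀ hχ₀,
      edge, ci_sub_left, ci_smul_left, ci_smul_left] at h
    linear_combination -h
  -- the multiplicity `k` is integral
  obtain ⟨k, hk⟩ : ∃ k : ℤ, ∀ φ ∈ X, classInner φ ψR = (dg φ : ℂ) * k := by
    set c : ℂ := classInner χ₀ ψR / χ₀ 1 with hcdef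
    have hχ1 : χ₀ 1 ≠ 0 := hS.deg.one_ne_zero (hXF hχ₀)
    have hc : ∀ φ ∈ X, classInner φ ψR = c * φ 1 := fun φ hφ => by
      rw [hcdef, div_mul_eq_mul_div, eq_div_iff hχ1]
      linear_combination hprop φ hφ
    have hdiff : ∀ z ∈ Z, z ≠ 1 → u 1 - u (z : G) = c * (Nat.card L : ℂ) := fun z hz hz1 => by
      refine value_diff Z hXirr (Coherence.isClassFunction_of_isGen hψgen) (fun φ hφ => ?_) hz hz1
      rw [← ci_symm hψgen (Coherence.isGen_of_isIrr (hirrX φ hφ))]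
      exact hc φ hφ
    obtain ⟨s, hs, ψ, hψ, hψu⟩ : ∃ s : ℤ, (s = 1 ∨ s = -1) ∧ ∃ ψ, IsIrrCharacter G ψ ∧
        u = (s : ℂ) • ψ := by
      rcases hf.signed hirrY hη₁ with h | h
      · exact ⟨1, Or.inl rfl, u, h, by simp⟩
      · exact ⟨-1, Or.inr rfl, -u, h, by simp⟩
    have hs2 : (s : ℂ) * (s : ℂ) = 1 := by rcases hs with rfl | rfl <;> norm_num
    have hval : ∀ g, ψ g = (s : ℂ) * u g := fun g => by
      rw [hψu, Pi.smul_apply, smul_eq_mul, ← mul_assoc, hs2, one_mul]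
    set ZG := Z.map L.subtype with hZG
    have hinG : ∀ z ∈ ZG, z ≠ 1 → ∃ z' ∈ Z, z' ≠ 1 ∧ (z' : G) = z := by
      rintro z ⟨z', hz', rfl⟩ hz1
      exact ⟨z', hz', fun h => hz1 (by rw [h, map_one]), rfl⟩
    have hNP : Subgroup.normalizer ((P : Subgroup G) : Set G) = L := by rw [hPH, hN]
    have hcL : ∀ z ∈ ZG, z ≠ 1 → L ⊓ Subgroup.centralizer ({z} : Set G) = H := by
      intro z hz hz1
      obtain ⟨z', hz', hz'1, rfl⟩ := hinG z hz hz1
      ext g
      rw [Subgroup.mem_inf, Subgroup.mem_centralizer_singleton_iff]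
      constructor
      · rintro ⟨hg, hc⟩
        have : (⟨g, hg⟩ : L) ∈ Subgroup.centralizer ({z'} : Set L) :=
          Subgroup.mem_centralizer_singleton_iff.2 (Subtype.ext hc)
        exact Subgroup.mem_subgroupOf.1 ((hcentZ z' hz' hz'1).le this)
      · exact fun hg => ⟨hHL hg,
          (congrArg Subtype.val (hZc z' hz' ⟨g, hHL hg⟩ (Subgroup.mem_subgroupOf.2 hg))).symm⟩
    obtain ⟨n, d, hn, hd, j, hj⟩ := constant_irr_mod_sylow p P hTI (by rw [hNP]; exact hodd) ZG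
      (by rintro _ ⟨z, hz, rfl⟩; exact Subgroup.mem_subgroupOf.1 (hZK hz))
      (fun x hx z hz => by
        rw [hNP] at hx
        obtain ⟨z, hz', rfl⟩ := hz
        exact ⟨_, (inferInstance : Z.Normal).conj_mem z hz' ⟨x, hx⟩, rfl⟩)
      (fun z hz y hy => by
        obtain ⟨z, hz', rfl⟩ := hz
        exact congrArg Subtype.val (hZc z hz' ⟨y, hHL hy⟩ (Subgroup.mem_subgroupOf.2 hy)))
      (fun z hz z' hz' h1 h1' => by rw [hNP, hcL z hz h1, hcL z' hz' h1'])
      hψ (fun z hz z' hz' h1 h1' => by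
        obtain ⟨a, ha, ha1, rfl⟩ := hinG z hz h1
        obtain ⟨b, hb, hb1, rfl⟩ := hinG z' hz' h1'
        rw [hval, hval, sub_right_inj.1 ((hdiff a ha ha1).trans (hdiff b hb hb1).symm)])
      (z := (z₀ : G)) (Subgroup.mem_map_of_mem _ hz₀) (fun h => hz₀1 (Subtype.ext h))
    rw [hPH, hHcard, ← hpm] at hj
    refine ⟨s * j, fun φ hφ => ?_⟩
    have hceq : c * e = ((s * j : ℤ) : ℂ) := by
      refine mul_right_cancel₀ (natCard_ne_zero (G := K)) ?_
      have hKm : (Nat.card L : ℂ) = (e : ℂ) * Nat.card K := by exact_mod_cast K.index_mul_card.symm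
      have h1 := hdiff z₀ hz₀ hz₀1
      rw [hKm] at h1
      have hj' : (d : ℂ) - n = (Nat.card K : ℂ) * j := by exact_mod_cast hj
      rw [← hd, ← hn, hval, hval] at hj'
      push_cast
      linear_combination -h1 + (s : ℂ) * hj' - (u 1 - u (z₀ : G)) * hs2
    rw [hc φ hφ, hdeg φ (hXF hφ)]
    linear_combination (dg φ : ℂ) * hceq
  -- the multiplicity of `η₁`, and products of the differences with the images of `Y`
  obtain ⟨m₁, hm₁⟩ := hint η₁ (hYF hη₁)
  set b : ℤ := k - m₁ + 1 with hb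
  have hmem : ∀ φ ∈ X, φ - (dg φ : ℂ) • η₁ ∈ zspanOn (↑F : Set (L → ℂ)) {1}ᶜ := fun φ hφ =>
    mem_zspanOn_one.2 ⟨Submodule.sub_mem _ (mem_zspan_of_mem (hXF hφ))
      (natCast_smul_mem_zspan (hYF hη₁) _), by simp [hdeg φ (hXF hφ), hdegY η₁ hη₁]⟩
  have hprod : ∀ φ ∈ X, ∀ η ∈ Y, classInner (T (φ - (dg φ : ℂ) • η₁)) (f η) =
      (dg φ : ℂ) * ((b : ℂ) - if η = η₁ then 1 else 0) := by
    intro φ hφ η hη
    have hu1 : classInner (T (φ - (dg φ : ℂ) • η₁)) u = (dg φ : ℂ) * ((b : ℂ) - 1) := by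
      rw [hrec _ (hmem φ hφ), ci_sub_left, ci_smul_left, hk φ hφ, hm₁, hb]
      push_cast; ring
    split_ifs with hηe
    · rw [hηe, ← hu, hu1]
    · have h := hS.isom.inner _ (hmem φ hφ) _ (hS.deg.edge_mem (hYF hη) (hYF hη₁))
      have h1 : φ ≠ η := fun e => Finset.disjoint_left.1 hXY hφ (e ▸ hη)
      have h2 : φ ≠ η₁ := fun e => Finset.disjoint_left.1 hXY hφ (e ▸ hη₁)
      rw [← hf.agree η hη η₁ hη₁, edge, hdegY η hη, hdegY η₁ hη₁] at h
      simp only [ci_sub_right, ci_smul_right, ci_sub_left, ci_smul_left, Complex.conj_natCast,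
        hS.deg.1.2 φ (hXF hφ) η (hYF hη) h1, hS.deg.1.2 φ (hXF hφ) η₁ (hYF hη₁) h2,
        hS.deg.1.2 η₁ (hYF hη₁) η (hYF hη) (Ne.symm hηe),
        classInner_isIrr_self (hirrY η₁ hη₁)] at h
      rw [← hu, hu1] at h
      exact mul_left_cancel₀ heC (by linear_combination h)
  have hbcase : b = 0 ∨ (Y.card = 2 ∧ b = 1) := by
    set d := dg χ₀ with hdd
    have hd0 : 0 < d := Nat.pos_of_ne_zero fun h => hS.deg.one_ne_zero (hXF hχ₀) (by
      rw [hdeg χ₀ (hXF hχ₀), ← hdd, h, Nat.cast_zero, zero_mul])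
    set β := T (χ₀ - (d : ℂ) • η₁) with hβ
    have hinj : ∀ a ∈ Y, ∀ b ∈ Y, f a = f b → a = b := fun a ha b hb =>
      hf.inj (hS.deg.subset hYF) ha hb
    have hfn : ∀ a ∈ Y, classInner (f a) (f a) = 1 := fun a ha => by
      rw [hf.inner a ha a ha, classInner_isIrr_self (hirrY a ha)]
    have hV : IsOrthSet (Y.image f) := by
      refine ⟨fun x hx h0 => ?_, fun x hx y hy hxy => ?_⟩
      · obtain ⟨a, ha, rfl⟩ := Finset.mem_image.1 hx
        simpa [h0] using hfn a ha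
      · obtain ⟨a, ha, rfl⟩ := Finset.mem_image.1 hx
        obtain ⟨a', ha', rfl⟩ := Finset.mem_image.1 hy
        rw [hf.inner a ha a' ha']
        exact hS.deg.1.2 a (hYF ha) a' (hYF ha') fun h => hxy (h ▸ rfl)
    have hB := bessel hV β
    rw [Finset.sum_image hinj] at hB
    have hβn : sqNorm β = 1 + (d : ℝ) ^ 2 := by
      have h2 : χ₀ ≠ η₁ := fun e => Finset.disjoint_left.1 hXY hχ₀ (e ▸ hη₁)
      have : classInner β β = ((1 + d ^ 2 : ℕ) : ℂ) := by
        rw [hβ, hS.isom.inner _ (hmem χ₀ hχ₀) _ (hmem χ₀ hχ₀)]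
        simp only [ci_sub_left, ci_sub_right, ci_smul_left, ci_smul_right, Complex.conj_natCast,
          classInner_isIrr_self (hirrX χ₀ hχ₀), classInner_isIrr_self (hirrY η₁ hη₁),
          hS.deg.1.2 χ₀ (hXF hχ₀) η₁ (hYF hη₁) h2, hS.deg.1.2 η₁ (hYF hη₁) χ₀ (hXF hχ₀) h2.symm]
        push_cast; ring
      rw [sqNorm, this, Complex.natCast_re]; push_cast; ring
    rw [Finset.sum_congr rfl (g := fun a => (d : ℝ) ^ 2 * (b : ℝ) ^ 2 +
        if a = η₁ then (d : ℝ) ^ 2 * (1 - 2 * b) else 0) (fun a ha => by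
      rw [hβ, hprod χ₀ hχ₀ a ha, sqNorm, hfn a ha, Complex.one_re, div_one,
        show ((d : ℂ) * ((b : ℂ) - if a = η₁ then 1 else 0))
          = (((d : ℝ) * ((b : ℝ) - if a = η₁ then 1 else 0) : ℝ) : ℂ) by
          split_ifs <;> push_cast <;> ring, Complex.normSq_ofReal]
      split_ifs <;> ring), Finset.sum_add_distrib, Finset.sum_ite_eq' Y η₁, if_pos hη₁,
      Finset.sum_const, nsmul_eq_mul, hβn] at hB
    have hB' : (d : ℤ) ^ 2 * ((Y.card : ℤ) * b ^ 2 - 2 * b) ≤ 1 := by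
      have : (((d : ℤ) ^ 2 * ((Y.card : ℤ) * b ^ 2 - 2 * b) : ℤ) : ℝ) ≤ ((1 : ℤ) : ℝ) := by
        push_cast; linarith
      exact_mod_cast this
    have hd1 : (1 : ℤ) ≤ (d : ℤ) ^ 2 := one_le_pow₀ (by exact_mod_cast hd0)
    have hle : (Y.card : ℤ) * b ^ 2 - 2 * b ≤ 1 := by
      by_contra h
      push Not at h
      nlinarith
    obtain ⟨i, hi⟩ := hYeven
    have hi0 : 1 ≤ i := by
      have h1 : 0 < Y.card := Finset.card_pos.2 ⟨η₁, hη₁⟩
      rw [hi] at h1
      omega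
    have hib : (Y.card : ℤ) = 2 * (i : ℤ) := by rw [hi]; push_cast; ring
    have hi0' : (1 : ℤ) ≤ i := by exact_mod_cast hi0
    rcases lt_trichotomy b 0 with hb0 | hb0 | hb0
    · nlinarith
    · exact Or.inl hb0
    · refine Or.inr ?_
      have hb1 : b = 1 := by
        by_contra h
        have : 2 ≤ b := by omega
        nlinarith
      rw [hb1] at hle
      exact ⟨by omega, hb1⟩
  -- the image of `Y` normalised
  obtain ⟨f', hf', hfix'⟩ : ∃ f', IsExt Y T f' ∧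
      ∀ φ ∈ X, classInner (f' η₁) (T (φ - (dg φ : ℂ) • η₁)) = -(dg φ : ℂ) := by
    rcases hbcase with hb0 | ⟨hY2, hb1⟩
    · refine ⟨f, hf, fun φ hφ => ?_⟩
      rw [← ci_conj, hprod φ hφ η₁ hη₁, if_pos rfl, hb0]
      simp
    · set η₂ := conjFun η₁ with hη₂
      have hne : η₁ ≠ η₂ := (hS.conj_ne η₁ (hYF hη₁)).symm
      have hYeq : Y = {η₁, η₂} := (Finset.eq_of_subset_of_card_le
        (Finset.insert_subset hη₁ (Finset.singleton_subset_iff.2 (hYc η₁ hη₁)))
        (by rw [hY2, Finset.card_pair hne])).symm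
      refine ⟨fun η => if η = η₁ then -f η₂ else -f η₁, ?_, fun φ hφ => ?_⟩
      · rw [hYeq] at hf ⊢
        exact isExt_swap (hirrY η₁ hη₁) (hirrY η₂ (hYc η₁ hη₁)) hne
          (by rw [hdegY η₁ hη₁, hdegY η₂ (hYc η₁ hη₁)]) hf
      · simp only [↓reduceIte]
        rw [ci_neg_left, ← ci_conj, hprod φ hφ η₂ (hYc η₁ hη₁), if_neg hne.symm, hb1]
        simp
  -- `X ∪ Y`, then everything
  have hsubF : X ∪ Y ⊆ F := Finset.union_subset hXF hYF
  obtain ⟨g, hg, -⟩ := hf'.extend (hS.deg.subset hsubF) Finset.subset_union_right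
    (hS.isom.mono (Finset.coe_subset.2 hsubF)) hη₁ dg
    (fun φ hφ hn => by
      rw [hdeg φ (hsubF hφ), hdegY η₁ hη₁])
    (fun φ hφ hn => by
      have hφX := (Finset.mem_union.1 hφ).resolve_right hn
      rw [hfix' φ hφX, ci_sub_right, ci_smul_right, classInner_isIrr_self (hirrY η₁ hη₁),
        hS.deg.1.2 η₁ (hYF hη₁) φ (hsubF hφ) (fun e => hn (e ▸ hη₁)), Complex.conj_natCast]
      ring)
  obtain ⟨U, g', -, hU, -, -, hg'⟩ := hS.extend_many hsubF
    (fun φ hφ => by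
      rcases Finset.mem_union.1 hφ with h | h
      · exact Finset.mem_union_left _ (hXc φ h)
      · exact Finset.mem_union_right _ (hYc φ h))
    hg (Finset.mem_union_right _ hη₁) subset_rfl
    (fun φ hφ => ⟨dg φ, by rw [hdeg φ hφ, hdegY η₁ hη₁]⟩)
    (fun φ hφ => by
      refine lt_of_lt_of_le ?_ (Finset.sum_le_sum_of_subset_of_nonneg Finset.subset_union_left
        fun φ _ _ => div_nonneg (sq_nonneg _) (sqNorm_nonneg φ))
      rw [hsumX, hdegY η₁ hη₁, Complex.natCast_re, mul_comm]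
      refine mul_lt_mul_of_pos_left ?_ (Nat.cast_pos.2 (Nat.pos_of_ne_zero he0))
      have hbd := ind_degree_bound K (B := ⊥) (C := K) (D := Z) bot_le hZK le_rfl
        (fun x hx y hy => by rw [Subgroup.mem_bot, hZc x hx y hy]; group)
        (by rw [← hF, Finset.mem_coe]; exact hφ)
      rw [← he, ← hq] at hbd
      have hq' : (1 : ℝ) < q := by exact_mod_cast hq1
      have hζ' : (2 * e + 1 : ℝ) ≤ ζ := by exact_mod_cast hζ2
      have hKc : (Nat.card K : ℝ) = ζ * q := by exact_mod_cast hζq.symm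
      rw [hKc]
      have h1 : 2 * (e : ℝ) * q ≤ (ζ : ℝ) * q - q := by nlinarith
      refine lt_of_lt_of_le ?_ h1
      refine lt_of_pow_lt_pow_left₀ 2 (by positivity) ?_
      have he' : (0 : ℝ) < (e : ℝ) ^ 2 := by positivity
      nlinarith [mul_lt_mul_of_pos_left (mul_lt_mul_of_pos_right hq' (zero_lt_one.trans hq')) he'])
  exact ⟨g', hg'.mono ((above_subset ⊥).trans hU)⟩

end CfsgLib.Coherence
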