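import Cfsg.Agent.Coherence.Frobenius
import Mathlib.GroupTheory.FixedPointFree

/-!
# A prime order automorphism of a Frobenius kernel
-/

set_option autoImplicit false

namespace CfsgLib.Coherence

universe u

/-- A Frobenius kernel has a fixed-point-free automorphism of prime order. -/
theorem frob_exists_fpf {L : Type u} [Group L] [Fintype L] {K : Subgroup L} [K.Normal] (hK1 : K ≠ ⊥)
    (hK2 : K ≠ ⊤) (hfix : ∀ k ∈ K, k ≠ 1 → Subgroup.centralizer ({k} : Set L) ≤ K) :
    ∃ (φ : MulAut K) (q : ℕ), q.Prime ∧ orderOf φ = q ∧ MonoidHom.FixedPointFree (φ : K →* K) := by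
  obtain ⟨q, hq, hqd⟩ := Nat.exists_prime_and_dvd (fun h => hK2 (Subgroup.index_eq_one.1 h) : K.index ≠ 1)
  have : Fact q.Prime := ⟨hq⟩
  obtain ⟨x, hx⟩ := exists_prime_orderOf_dvd_card' (G := L) q (hqd.trans K.index_dvd_card)
  have hxK : x ∉ K := fun h => hq.not_dvd_one ((frob_coprime hfix).gcd_eq_one ▸
    Nat.dvd_gcd (hx ▸ Subgroup.orderOf_dvd_natCard K h) hqd)
  have hfpf : MonoidHom.FixedPointFree ((MulAut.conjNormal x : MulAut K) : K →* K) := by
    intro k hk
    by_contra hk1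
    refine hxK (hfix k k.2 (fun h => hk1 (Subtype.ext h)) (Subgroup.mem_centralizer_singleton_iff.2 ?_))
    have h : x * (k : L) * x⁻¹ = k :=
      (MulAut.conjNormal_apply x k).symm.trans (congrArg Subtype.val hk)
    calc x * (k : L) = x * (k : L) * x⁻¹ * x := by group
      _ = (k : L) * x := by rw [h]
  refine ⟨MulAut.conjNormal x, q, hq, orderOf_eq_prime ?_ ?_, hfpf⟩
  · rw [← map_pow, ← hx, pow_orderOf_eq_one, map_one]
  · intro h1
    obtain ⟨k, hk, hk1⟩ := (Subgroup.bot_or_exists_ne_one K).resolve_left hK1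
    exact hk1 (congrArg Subtype.val (hfpf ⟨k, hk⟩ (congrArg (fun e : MulAut K => e ⟨k, hk⟩) h1)))

end CfsgLib.Coherence
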