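import Cfsg.Agent.OddOrderChar.Clifford
import Cfsg.Agent.Characters.Linear
import Cfsg.Agent.Coherence.System
import Cfsg.Agent.S1492
import Mathlib.GroupTheory.FiniteAbelian.Duality
import Mathlib.GroupTheory.Abelianization.Defs
import Mathlib.Analysis.Complex.Polynomial.Basic
import Mathlib.RingTheory.RootsOfUnity.AlgebraicallyClosed

/-!
# The sets `Cfsg.inducedIrrAbove K A`

Membership, conjugates, norms, the degree sum `∑ φ(1)²/‖φ‖² = [L:K]([K:A]-1)` and degree bounds.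
-/

set_option autoImplicit false
set_option linter.unusedSectionVars false

namespace CfsgLib.Coherence

open Cfsg ComplexConjugate CfsgLib.Characters CfsgLib.OddOrderChar

universe u

variable {L : Type u} [Group L] [Fintype L]

noncomputable local instance fintypeSubgroupInduced (H : Subgroup L) : Fintype H := Fintype.ofFinite H

variable (K : Subgroup L) [K.Normal]

/-- The number of elements fixing `θ` under conjugation. -/
noncomputable def stabCard (θ : K → ℂ) : ℕ := Nat.card {g : L // conjBy K θ g = θ}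

theorem stabCard_pos (θ : K → ℂ) : 0 < stabCard K θ :=
  Nat.card_pos_iff.2 ⟨⟨⟨1, conjBy_one K θ⟩⟩, inferInstance⟩

theorem conjBy_one_apply (θ : K → ℂ) (g : L) : conjBy K θ g 1 = θ 1 :=
  congrArg θ (Subtype.ext (by simp))

theorem conjBy_principal (g : L) : conjBy K (fun _ => (1 : ℂ)) g = fun _ => 1 := rfl

theorem conjBy_ne_principal {θ : K → ℂ} (h : θ ≠ fun _ => 1) (g : L) :
    conjBy K θ g ≠ fun _ => 1 := fun he => h (conjBy_injective K g (he.trans (conjBy_principal K g).symm))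

theorem ind_one (θ : K → ℂ) : indFun K θ 1 = (K.index : ℂ) * θ 1 :=
  OddOrderChar.indFun_one K θ

theorem ind_ne_zero {θ : K → ℂ} (hθ : IsIrrCharacter K θ) : indFun K θ ≠ 0 := by
  intro h
  have h1 := congrFun h 1
  rw [ind_one, Pi.zero_apply, mul_eq_zero, Nat.cast_eq_zero] at h1
  exact h1.elim K.index_ne_zero_of_finite (irr_one_ne_zero hθ)

theorem ci_ind_self {θ : K → ℂ} (hθ : IsIrrCharacter K θ) :
    classInner (indFun K θ) (indFun K θ) = (stabCard K θ : ℂ) / (Nat.card K : ℂ) := by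
  classical
  rw [classInner_indFun_left K θ (isClassFunction_ind K θ),
    show (fun h : K => indFun K θ h) = (Nat.card K : ℂ)⁻¹ • ∑ g : L, conjBy K θ g from
      funext fun h => by rw [indFun_normal_apply, Pi.smul_apply, Finset.sum_apply, smul_eq_mul],
    ci_smul_right, ci_sum_right, map_inv₀, Complex.conj_natCast, div_eq_inv_mul]
  congr 1
  rw [stabCard, Nat.card_eq_fintype_card, Fintype.card_subtype, Finset.card_filter, Nat.cast_sum]
  refine Finset.sum_congr rfl fun g _ => ?_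
  by_cases h : conjBy K θ g = θ
  · rw [h, if_pos rfl, Nat.cast_one, classInner_isIrr_self hθ]
  · rw [if_neg h, Nat.cast_zero, classInner_isIrr_ne hθ (isIrr_conjBy K hθ g) (Ne.symm h)]

theorem card_orbit_mul_stab (θ : K → ℂ) :
    (conjOrbit K θ).card * stabCard K θ = Nat.card L := by
  classical
  have hfib : ∀ ψ ∈ conjOrbit K θ,
      (Finset.univ.filter (fun g : L => conjBy K θ g = ψ)).card = stabCard K θ := by
    intro ψ hψ
    obtain ⟨g₀, rfl⟩ := (mem_conjOrbit K).mp hψ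
    rw [← Fintype.card_subtype, ← Nat.card_eq_fintype_card]
    refine Nat.card_congr
      { toFun := fun g => ⟨g.1 * g₀⁻¹, by rw [← conjBy_mul, g.2, conjBy_mul, mul_inv_cancel, conjBy_one]⟩
        invFun := fun s => ⟨s.1 * g₀, by rw [← conjBy_mul, s.2]⟩
        left_inv := fun g => Subtype.ext (by simp)
        right_inv := fun s => Subtype.ext (by simp) }
  have h := Finset.card_eq_sum_card_fiberwise (f := conjBy K θ) (s := (Finset.univ : Finset L))
    (t := conjOrbit K θ) (fun g _ => (mem_conjOrbit K).mpr ⟨g, rfl⟩)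
  rw [Finset.sum_congr rfl hfib, Finset.sum_const, smul_eq_mul, Finset.card_univ,
    Fintype.card_eq_nat_card] at h
  exact h.symm

theorem conjOrbit_eq_of_ind_eq {θ φ : K → ℂ} (hθ : IsIrrCharacter K θ) (hφ : IsIrrCharacter K φ)
    (h : indFun K φ = indFun K θ) : φ ∈ conjOrbit K θ := by
  by_contra hn
  have h0 := classInner_ind_ind_eq_zero K hθ hφ fun g hg => hn ((mem_conjOrbit K).2 ⟨g, hg.symm⟩)
  rw [h] at h0
  exact ci_self_ne_zero (ind_ne_zero K hθ) h0

theorem trivialOn_conjBy {A : Subgroup L} [hA : A.Normal] {θ : K → ℂ}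
    (h : ∀ a : K, (a : L) ∈ A → θ a = θ 1) (g : L) :
    ∀ a : K, (a : L) ∈ A → conjBy K θ g a = conjBy K θ g 1 := by
  intro a ha
  rw [conjBy_one_apply, conjBy_apply]
  exact h _ (hA.conj_mem _ ha g)

/-- Membership of an induced character is decided by any of its constituents. -/
theorem ind_mem_iff {A : Subgroup L} [A.Normal] {θ : K → ℂ} (hθ : IsIrrCharacter K θ) :
    indFun K θ ∈ inducedIrrAbove K A ↔
      θ ≠ (fun _ => 1) ∧ ∀ a : K, (a : L) ∈ A → θ a = θ 1 := by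
  refine ⟨fun ⟨φ, hφ, hφ1, hφA, he⟩ => ?_, fun h => ⟨θ, hθ, h.1, h.2, rfl⟩⟩
  obtain ⟨g, rfl⟩ := (mem_conjOrbit K).1 (conjOrbit_eq_of_ind_eq K hφ hθ he)
  exact ⟨conjBy_ne_principal K hφ1 g, trivialOn_conjBy K hφA g⟩

theorem inducedIrrAbove_mono {A B : Subgroup L} (h : B ≤ A) :
    inducedIrrAbove K A ⊆ inducedIrrAbove K B :=
  fun _ ⟨θ, h1, h2, h3, h4⟩ => ⟨θ, h1, h2, fun a ha => h3 a (h ha), h4⟩

theorem conjFun_ind (θ : K → ℂ) : conjFun (indFun K θ) = indFun K (conjFun θ) := by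
  funext g
  simp only [conjFun, indFun, map_mul, map_inv₀, Complex.conj_natCast, map_sum]
  congr 1
  refine Finset.sum_congr rfl fun x _ => ?_
  by_cases h : x⁻¹ * g * x ∈ K
  · rw [OddOrderChar.extendByZero_of_mem K θ h, OddOrderChar.extendByZero_of_mem K _ h]; rfl
  · rw [extendByZero_of_notMem K θ h, extendByZero_of_notMem K _ h, map_zero]

theorem conj_mem_inducedIrrAbove {A : Subgroup L} {φ : L → ℂ} (h : φ ∈ inducedIrrAbove K A) :
    conjFun φ ∈ inducedIrrAbove K A := by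
  obtain ⟨θ, h1, h2, h3, rfl⟩ := h
  refine ⟨conjFun θ, ?_, fun he => h2 ?_, fun a ha => ?_, conjFun_ind K θ⟩
  · exact isIrr_conjFun h1
  · rw [← conjFun_conjFun θ, he]; funext x; simp [conjFun]
  · simp only [conjFun, h3 a ha]

/-- The squares of the degrees of the characters trivial on `A` add up to `[K:A]`. -/
theorem sum_sq_trivialOn (A : Subgroup L) [A.Normal]
    [DecidablePred fun θ : IrrCharacter K => ∀ a : K, (a : L) ∈ A → θ.1 a = θ.1 1] :
    ∑ θ ∈ (Finset.univ : Finset (IrrCharacter K)).filter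
        (fun θ => ∀ a : K, (a : L) ∈ A → θ.1 a = θ.1 1), θ.1 1 ^ 2 = (A.relIndex K : ℂ) := by
  classical
  have : (A.subgroupOf K).Normal := Subgroup.Normal.subgroupOf ‹A.Normal› K
  have : Fintype (K ⧸ A.subgroupOf K) := Fintype.ofFinite _
  have hsurj := QuotientGroup.mk'_surjective (A.subgroupOf K)
  have h := sum_degree_sq (G := K ⧸ A.subgroupOf K)
  rw [show Nat.card (K ⧸ A.subgroupOf K) = A.relIndex K from rfl] at h
  rw [← h]
  symm
  refine Finset.sum_bij (fun ψ _ => ⟨_, isIrr_comp (QuotientGroup.mk' (A.subgroupOf K)) hsurj ψ.2⟩)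
    (fun ψ _ => ?_) (fun ψ _ ψ' _ he => ?_) (fun θ hθ => ?_) (fun ψ _ => ?_)
  · refine Finset.mem_filter.2 ⟨Finset.mem_univ _, fun a ha => ?_⟩
    show ψ.1 (QuotientGroup.mk' (A.subgroupOf K) a) = ψ.1 (QuotientGroup.mk' (A.subgroupOf K) 1)
    rw [map_one, show (QuotientGroup.mk' (A.subgroupOf K)) a = 1 from
      (QuotientGroup.eq_one_iff a).2 ha]
  · apply Subtype.ext; funext x
    obtain ⟨a, rfl⟩ := hsurj x
    exact congrFun (congrArg Subtype.val he) a
  · obtain ⟨ψ, hψ, he⟩ := exists_irr_quotient (A.subgroupOf K) θ.2 fun n hn =>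
      (Finset.mem_filter.1 hθ).2 n hn
    exact ⟨⟨ψ, hψ⟩, Finset.mem_univ _, Subtype.ext (funext fun a => (he a).symm)⟩
  · show ψ.1 1 ^ 2 = ψ.1 (QuotientGroup.mk' (A.subgroupOf K) 1) ^ 2
    rw [map_one]

/-- `∑ φ(1)² / ‖φ‖² = [L:K] ([K:A] - 1)` over `S(A)`. -/
theorem sum_deg_sq_div (A : Subgroup L) [A.Normal] (F : Finset (L → ℂ))
    (hF : (↑F : Set (L → ℂ)) = inducedIrrAbove K A) :
    ∑ φ ∈ F, φ 1 ^ 2 / classInner φ φ = (K.index : ℂ) * ((A.relIndex K : ℂ) - 1) := by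
  classical
  have hmemF : ∀ φ, φ ∈ F ↔ φ ∈ inducedIrrAbove K A := fun φ => by rw [← hF, Finset.mem_coe]
  set Θ := ((Finset.univ : Finset (IrrCharacter K)).filter
    (fun θ => ∀ a : K, (a : L) ∈ A → θ.1 a = θ.1 1)).erase ⟨_, isIrr_one⟩ with hΘ
  have hmemΘ : ∀ θ : IrrCharacter K, θ ∈ Θ ↔
      θ.1 ≠ (fun _ => 1) ∧ ∀ a : K, (a : L) ∈ A → θ.1 a = θ.1 1 := fun θ => by
    simp only [hΘ, Finset.mem_erase, Finset.mem_filter, Finset.mem_univ, true_and, ne_eq,
      Subtype.ext_iff]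
  have hsum : ∑ θ ∈ Θ, θ.1 1 ^ 2 = (A.relIndex K : ℂ) - 1 := by
    rw [hΘ, Finset.sum_erase_eq_sub (Finset.mem_filter.2 ⟨Finset.mem_univ _, fun a _ => rfl⟩),
      sum_sq_trivialOn K A]
    simp
  rw [← hsum, Finset.mul_sum, ← Finset.sum_fiberwise_of_maps_to (s := Θ) (t := F)
    (g := fun θ => indFun K θ.1)
    (fun θ hθ => (hmemF _).2 ((ind_mem_iff K θ.2).2 ((hmemΘ θ).1 hθ)))]
  refine Finset.sum_congr rfl fun φ hφ => ?_
  obtain ⟨θ, hθ, hθ1, hθA, rfl⟩ := (hmemF φ).1 hφ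
  have hfib : (Θ.filter fun η => indFun K η.1 = indFun K θ).map ⟨Subtype.val, Subtype.val_injective⟩
      = conjOrbit K θ := by
    ext η
    simp only [Finset.mem_map, Finset.mem_filter, Function.Embedding.coeFn_mk]
    refine ⟨fun ⟨η', ⟨_, he⟩, hη'⟩ => hη' ▸ conjOrbit_eq_of_ind_eq K hθ η'.2 he, fun hη => ?_⟩
    obtain ⟨g, rfl⟩ := (mem_conjOrbit K).1 hη
    refine ⟨⟨_, isIrr_conjBy K hθ g⟩, ⟨(hmemΘ _).2 ?_, indFun_conjBy K θ g⟩, rfl⟩
    exact ⟨conjBy_ne_principal K hθ1 g, trivialOn_conjBy K hθA g⟩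
  have hrw : ∑ η ∈ Θ.filter (fun η => indFun K η.1 = indFun K θ), (K.index : ℂ) * η.1 1 ^ 2 =
      ∑ η ∈ conjOrbit K θ, (K.index : ℂ) * η 1 ^ 2 := by
    rw [← hfib, Finset.sum_map]; rfl
  rw [hrw, Finset.sum_congr rfl (g := fun _ => (K.index : ℂ) * θ 1 ^ 2) (fun η hη => by
      obtain ⟨g, rfl⟩ := (mem_conjOrbit K).1 hη
      rw [conjBy_one_apply]),
    Finset.sum_const, nsmul_eq_mul, ind_one, ci_ind_self K hθ]
  have hK : (Nat.card K : ℂ) ≠ 0 := natCard_ne_zero
  have hs : (stabCard K θ : ℂ) ≠ 0 := Nat.cast_ne_zero.2 (stabCard_pos K θ).ne'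
  have hcard : ((conjOrbit K θ).card : ℂ) * stabCard K θ = (K.index : ℂ) * Nat.card K := by
    exact_mod_cast (card_orbit_mul_stab K θ).trans (K.index_mul_card).symm
  field_simp
  linear_combination -(θ 1 ^ 2 * (K.index : ℂ)) * hcard

/-- The degree bound used in PF (6.2). -/
theorem ind_degree_bound {B C D : Subgroup L} [B.Normal] (hBD : B ≤ D) (hDC : D ≤ C) (hCK : C ≤ K)
    (hcent : ∀ x ∈ D, ∀ y ∈ C, x * y * x⁻¹ * y⁻¹ ∈ B) {φ : L → ℂ}
    (hφ : φ ∈ inducedIrrAbove K B) :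
    (φ 1).re ^ 2 ≤ (C.index : ℝ) ^ 2 * (D.relIndex C : ℝ) := by
  obtain ⟨θ, hθ, -, hθB, rfl⟩ := hφ
  obtain ⟨n, -, hn⟩ := exists_degree_pos hθ
  have h := Cfsg.Agent.S1492.result θ hθ (B.subgroupOf K) (C.subgroupOf K) (D.subgroupOf K)
    (fun x hx => hBD hx) (fun x hx => hDC hx)
    (fun c _ b hb => Subgroup.Normal.conj_mem ‹B.Normal› b hb c) (fun d hd c hc => hcent d hd c hc) hθB
  rw [Nat.card_congr (Subgroup.subgroupOfEquivOfLe hCK).toEquiv,
    Nat.card_congr (Subgroup.subgroupOfEquivOfLe (hDC.trans hCK)).toEquiv, hn,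
    Complex.norm_natCast] at h
  rw [ind_one, hn, ← Nat.cast_mul, Complex.natCast_re]
  have hK : (Nat.card L : ℝ) = (K.index : ℝ) * Nat.card K := by exact_mod_cast K.index_mul_card.symm
  have hC : (Nat.card L : ℝ) = (C.index : ℝ) * Nat.card C := by exact_mod_cast C.index_mul_card.symm
  have hD : (Nat.card C : ℝ) = (D.relIndex C : ℝ) * Nat.card D := by
    have := (D.subgroupOf C).index_mul_card
    rw [Nat.card_congr (Subgroup.subgroupOfEquivOfLe hDC).toEquiv] at this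
    exact_mod_cast this.symm
  have hpos : (0 : ℝ) < (Nat.card C : ℝ) * Nat.card D :=
    mul_pos (Nat.cast_pos.2 Nat.card_pos) (Nat.cast_pos.2 Nat.card_pos)
  refine le_of_mul_le_mul_right ?_ hpos
  push_cast
  calc ((K.index : ℝ) * n) ^ 2 * ((Nat.card C : ℝ) * Nat.card D)
      = (K.index : ℝ) ^ 2 * ((n : ℝ) ^ 2 * Nat.card C * Nat.card D) := by ring
    _ ≤ (K.index : ℝ) ^ 2 * (Nat.card K : ℝ) ^ 2 := by gcongr
    _ = ((C.index : ℝ) * Nat.card C) ^ 2 := by rw [← hC, hK]; ring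
    _ = _ := by rw [hD]; ring

/-- A non-principal linear character of the solvable group `K` trivial on a proper `A`. -/
theorem exists_linear_mem (hsolv : Group.IsSolvable K) (A : Subgroup L) [A.Normal] (hAK : A < K) :
    ∃ φ ∈ inducedIrrAbove K A, φ 1 = (K.index : ℂ) := by
  have : (A.subgroupOf K).Normal := Subgroup.Normal.subgroupOf ‹A.Normal› K
  have : Nontrivial (K ⧸ A.subgroupOf K) := by
    obtain ⟨k, hk, hkA⟩ := SetLike.exists_of_lt hAK
    refine ⟨⟨QuotientGroup.mk (⟨k, hk⟩ : K), 1, fun h => hkA ?_⟩⟩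
    exact Subgroup.mem_subgroupOf.1 ((QuotientGroup.eq_one_iff (⟨k, hk⟩ : K)).1 h)
  have : Group.IsSolvable (K ⧸ A.subgroupOf K) :=
    solvable_of_surjective (QuotientGroup.mk'_surjective (A.subgroupOf K))
  have hlt : commutator (K ⧸ A.subgroupOf K) < ⊤ := IsSolvable.commutator_lt_top_of_nontrivial _
  obtain ⟨x, -, hx⟩ := SetLike.exists_of_lt hlt
  have hne : Abelianization.of x ≠ 1 := fun h => hx ((QuotientGroup.eq_one_iff x).1 h)
  have : Finite (Abelianization (K ⧸ A.subgroupOf K)) := Quotient.finite _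
  have : NeZero (Monoid.exponent (Abelianization (K ⧸ A.subgroupOf K))) :=
    ⟨Monoid.exponent_ne_zero_of_finite⟩
  obtain ⟨f, hf⟩ := CommGroup.exists_apply_ne_one_of_hasEnoughRootsOfUnity
    (Abelianization (K ⧸ A.subgroupOf K)) ℂ hne
  obtain ⟨x', rfl⟩ := QuotientGroup.mk'_surjective (A.subgroupOf K) x
  set g := f.comp (Abelianization.of.comp (QuotientGroup.mk' (A.subgroupOf K))) with hg
  refine ⟨indFun K fun a => (g a : ℂ), ⟨_, isIrr_linChar g, fun he => hf ?_, fun a ha => ?_, rfl⟩, ?_⟩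
  · exact Units.ext (congrFun he x')
  · have h1 : QuotientGroup.mk' (A.subgroupOf K) a = 1 := (QuotientGroup.eq_one_iff a).2 ha
    simp only [hg, MonoidHom.comp_apply, h1, map_one]
  · rw [ind_one]; simp

end CfsgLib.Coherence
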