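import Cfsg.Agent.Coherence.Feit

/-!
# Feit's theorem in dichotomy form
-/

set_option autoImplicit false
set_option linter.unusedSectionVars false

namespace CfsgLib.Coherence

open Cfsg CfsgLib.Characters

universe u v

variable {N : Type u} [Group N] [Fintype N] {G : Type v} [Group G] [Fintype G]

/-- Coherence for a Frobenius group with nilpotent kernel `H`. -/
theorem frobenius_coherence (H : Subgroup N) [H.Normal] (hH1 : H ≠ ⊥) (hH2 : H ≠ ⊤)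
    (hC : ∀ h ∈ H, h ≠ 1 → Subgroup.centralizer ({h} : Set N) ≤ H)
    (hnil : Group.IsNilpotent H) (he : Nat.card H ≠ H.index + 1) (τ : (N → ℂ) → (G → ℂ))
    (hτ : IsLinearIsometryOn (zspanOn {χ : N → ℂ | IsIrrCharacter N χ ∧ ∃ h ∈ H, χ h ≠ χ 1} {1}ᶜ) τ)
    (hτ1 : ∀ α ∈ zspanOn {χ : N → ℂ | IsIrrCharacter N χ ∧ ∃ h ∈ H, χ h ≠ χ 1} {1}ᶜ, τ α 1 = 0) :
    IsCoherent {χ : N → ℂ | IsIrrCharacter N χ ∧ ∃ h ∈ H, χ h ≠ χ 1} {1}ᶜ τ ∨
      ∃ p : ℕ, p.Prime ∧ (∃ m : ℕ, Nat.card H = p ^ m) ∧ ¬ IsMulCommutative H ∧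
        (⁅H, H⁆.subgroupOf H).index ≤ 4 * H.index ^ 2 + 1 := by
  classical
  rw [← frob_eq_nontrivial hC] at hτ hτ1 ⊢
  have hsolv : Group.IsSolvable H := inferInstance
  by_cases hcomm : ∀ a ∈ H, ∀ b ∈ H, a * b = b * a
  · rcases frob_comm_coherence hC hsolv hH1 hτ hτ1 hcomm with h | ⟨φ, hφ⟩
    · exact Or.inl h
    · exact absurd (frob_singleton hC hsolv hH1 hcomm hφ).1 he
  have hnab : ¬ ⁅H, H⁆ ≤ ⊥ := fun h => hcomm fun a ha b hb => by
    have := h (Subgroup.commutator_mem_commutator ha hb)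
    rwa [Subgroup.mem_bot, commutatorElement_eq_one_iff_commute] at this
  by_cases hc : IsCoherent (inducedIrrAbove H ⊥) {1}ᶜ τ
  · exact Or.inl hc
  refine Or.inr ?_
  have key := fun h => hc (feit_coherence hC hnil (lt_top_iff_ne_top.2 hH2) hnab hτ hτ1 h)
  obtain ⟨p, m, hp, hm⟩ : ∃ p m : ℕ, p.Prime ∧ Nat.card H = p ^ m := by
    by_contra h
    push Not at h
    exact key (Or.inr h)
  exact ⟨p, hp, ⟨m, hm⟩,
    fun h => hcomm fun a ha b hb => congrArg Subtype.val (h.is_comm.comm ⟨a, ha⟩ ⟨b, hb⟩),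
    not_lt.1 fun h => key (Or.inl h)⟩

end CfsgLib.Coherence
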