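import Cfsg.Agent.Coherence.FrobSys
import Mathlib.GroupTheory.Nilpotent
import Mathlib.GroupTheory.Sylow

/-!
# Feit's coherence theorem for Frobenius groups

No parity assumption and no conjugation argument: everything rests on `feit_extend`.  For a nilpotent
non-commutative kernel `K` the set `S` is coherent as soon as `|K|` is not a prime power or
`[K:K'] > 4 [L:K]² + 1`.
-/

set_option autoImplicit false
set_option linter.unusedSectionVars false

namespace CfsgLib.Coherence

open Cfsg CfsgLib.Characters CfsgLib.OddOrderChar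
open scoped commutatorElement

universe u v

variable {L : Type u} [Group L] [Fintype L] {G : Type v} [Group G] [Fintype G]

noncomputable local instance fintypeSubgroupFeit (H : Subgroup L) : Fintype H := Fintype.ofFinite H

/-- Every prime divisor of the order of a nilpotent group is the order of a central element. -/
theorem exists_center_orderOf {P : Type u} [Group P] [Finite P] [Group.IsNilpotent P] {p : ℕ}
    [hp : Fact p.Prime] (h : p ∣ Nat.card P) : ∃ z ∈ Subgroup.center P, orderOf z = p := by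
  obtain ⟨S⟩ : Nonempty (Sylow p P) := inferInstance
  have hSn : (S : Subgroup P).Normal :=
    Sylow.normal_of_normalizerCondition Group.normalizerCondition_of_isNilpotent S
  obtain ⟨z, hz, hz1⟩ := (Subgroup.bot_or_exists_ne_one _).resolve_left
    (CfsgLib.Solvable.inf_center_ne_bot (S.ne_bot_of_dvd_card h))
  obtain ⟨i, hi⟩ := S.isPGroup' ⟨z, hz.1⟩
  obtain ⟨j, -, hj⟩ := (Nat.dvd_prime_pow hp.out).1
    (orderOf_dvd_of_pow_eq_one (congrArg Subtype.val hi) : orderOf z ∣ p ^ i)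
  cases j with
  | zero => exact absurd (orderOf_eq_one_iff.1 (by rw [hj, pow_zero])) hz1
  | succ j =>
    exact ⟨z ^ p ^ j, Subgroup.pow_mem _ hz.2 _,
      orderOf_pow_orderOf_div (orderOf_pos z).ne' (hj ▸ dvd_pow_self p j.succ_ne_zero) |> fun h' => by
        rwa [hj, pow_succ, Nat.mul_div_cancel _ hp.out.pos] at h'⟩

variable {K : Subgroup L} [hKn : K.Normal] {F : Finset (L → ℂ)}
  {T : (L → ℂ) →ₗ[ℂ] (G → ℂ)}

/-- A central section below a fixed-point-free action has order one modulo the index. -/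
theorem frob_central_congr (hfix : ∀ k ∈ K, k ≠ 1 → Subgroup.centralizer ({k} : Set L) ≤ K)
    (M D : Subgroup L) [M.Normal] [D.Normal] (hMK : M ≤ K) (hDK : D ≤ K)
    (hc : ∀ x ∈ D, ∀ y ∈ K, x * y * x⁻¹ * y⁻¹ ∈ M) : K.index ∣ M.relIndex D - 1 := by
  have : (D.map (QuotientGroup.mk' M)).Normal :=
    Subgroup.Normal.map inferInstance _ (QuotientGroup.mk'_surjective M)
  rw [← index_map_mk (K := K) (H₁ := M) hMK, ← card_map_mk]
  refine index_dvd_card_sub_one _ _ ?_
  rintro n ⟨d, hd, rfl⟩ hn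
  have hdM : d ∉ M := fun h => hn ((QuotientGroup.eq_one_iff d).2 h)
  ext y
  obtain ⟨x, rfl⟩ := QuotientGroup.mk'_surjective M y
  rw [Subgroup.mem_centralizer_singleton_iff]
  constructor
  · intro h
    refine Subgroup.mem_map_of_mem _
      (frob_quot hfix M d (hDK hd) hdM x ((QuotientGroup.eq_one_iff _).1 ?_))
    show QuotientGroup.mk' M (x * d * x⁻¹ * d⁻¹) = 1
    rw [map_mul, map_mul, map_mul, h, map_inv, map_inv, mul_inv_cancel_right, mul_inv_cancel]
  · rintro ⟨k, hk, he⟩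
    rw [← he]
    have h1 : QuotientGroup.mk' M (d * k * d⁻¹ * k⁻¹) = 1 := (QuotientGroup.eq_one_iff _).2 (hc d hd k hk)
    rw [map_mul, map_mul, map_mul, map_inv, map_inv, mul_inv_eq_one, mul_inv_eq_iff_eq_mul] at h1
    exact h1.symm

/-- Repeated use of Feit's criterion. -/
theorem extend_many_irr [DecidableEq (L → ℂ)] {S₁ : Finset (L → ℂ)}
    (hirr : ∀ φ ∈ F, IsIrrCharacter L φ) (hT : Isom (↑F : Set (L → ℂ)) T) (hS₁ : S₁ ⊆ F)
    {f : (L → ℂ) → (G → ℂ)} (hf : IsExt S₁ T f) {ψ : L → ℂ} (hψ : ψ ∈ S₁) (X : Finset (L → ℂ))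
    (hX : X ⊆ F) (hdvd : ∀ χ ∈ X, ∃ d : ℕ, χ 1 = (d : ℂ) * ψ 1)
    (hlt : ∀ χ ∈ X, 2 * (χ 1).re * (ψ 1).re < ∑ φ ∈ S₁, (φ 1).re ^ 2) :
    ∃ g, IsExt (S₁ ∪ X) T g := by
  induction X using Finset.induction_on with
  | empty => exact ⟨f, by rw [Finset.union_empty]; exact hf⟩
  | insert χ X _ ih =>
    obtain ⟨g, hg⟩ := ih (fun x hx => hX (Finset.mem_insert_of_mem hx))
      (fun x hx => hdvd x (Finset.mem_insert_of_mem hx)) (fun x hx => hlt x (Finset.mem_insert_of_mem hx))
    rw [Finset.union_insert]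
    by_cases hχ : χ ∈ S₁ ∪ X
    · exact ⟨g, by rwa [Finset.insert_eq_of_mem hχ]⟩
    have hsub : insert χ (S₁ ∪ X) ⊆ F := Finset.insert_subset (hX (Finset.mem_insert_self _ _))
      (Finset.union_subset hS₁ fun x hx => hX (Finset.mem_insert_of_mem hx))
    exact feit_extend (fun φ hφ => hirr φ (hsub hφ)) hχ (hT.mono (Finset.coe_subset.2 hsub)) hg
      (Finset.mem_union_left _ hψ) (hdvd χ (Finset.mem_insert_self _ _))
      ((hlt χ (Finset.mem_insert_self _ _)).trans_le
        (Finset.sum_le_sum_of_subset_of_nonneg Finset.subset_union_left fun φ _ _ => sq_nonneg _))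

/-- The criterion (6.2) for irreducible characters. -/
theorem coherent_bound_irr (hsolv : Group.IsSolvable K)
    (hF : (↑F : Set (L → ℂ)) = inducedIrrAbove K ⊥) (hirr : ∀ φ ∈ F, IsIrrCharacter L φ)
    (hT : Isom (↑F : Set (L → ℂ)) T) (A B D : Subgroup L) [A.Normal] [B.Normal] (hAK : A < K)
    (hBD : B ≤ D) (hDK : D ≤ K) (hcent : ∀ x ∈ D, ∀ y ∈ K, x * y * x⁻¹ * y⁻¹ ∈ B)
    {f : (L → ℂ) → (G → ℂ)} (hA : IsExt (above K F A) T f)
    (hlt : 4 * K.index ^ 2 * D.relIndex K < (A.relIndex K - 1) ^ 2) :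
    ∃ g, IsExt (above K F B) T g := by
  classical
  obtain ⟨χ₁, hχ₁, hdeg⟩ := exists_linear_mem K hsolv A hAK
  have he : (0 : ℝ) < K.index := Nat.cast_pos.2 (Nat.pos_of_ne_zero K.index_ne_zero_of_finite)
  have hle1 : 1 ≤ A.relIndex K := Nat.one_le_iff_ne_zero.2 Subgroup.index_ne_zero_of_finite
  have hsum : ∑ φ ∈ above K F A, (φ 1).re ^ 2 = (K.index : ℝ) * ((A.relIndex K : ℝ) - 1) := by
    rw [← sum_re_above hF A]
    refine Finset.sum_congr rfl fun φ hφ => ?_
    rw [sqNorm, classInner_isIrr_self (hirr φ (above_subset A hφ)), Complex.one_re, div_one]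
  obtain ⟨g, hg⟩ := extend_many_irr hirr hT (above_subset (K := K) A) hA ((mem_above hF).2 hχ₁)
    (above K F B) (above_subset (K := K) B)
    (fun χ hχ => by
      obtain ⟨d, -, hd⟩ := exists_deg_mul hF (above_subset B hχ)
      exact ⟨d, by rw [hd, hdeg]⟩)
    (fun χ hχ => by
      rw [hsum, hdeg, Complex.natCast_re, mul_comm]
      refine mul_lt_mul_of_pos_left ?_ he
      have hb := ind_degree_bound K hBD hDK le_rfl hcent ((mem_above hF).1 hχ)
      have hlt' : ((4 * K.index ^ 2 * D.relIndex K : ℕ) : ℝ) < (((A.relIndex K - 1) ^ 2 : ℕ) : ℝ) := by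
        exact_mod_cast hlt
      push_cast [Nat.cast_sub hle1] at hlt'
      have hnn : (0 : ℝ) ≤ (A.relIndex K : ℝ) - 1 := by
        have : (1 : ℝ) ≤ (A.relIndex K : ℝ) := by exact_mod_cast hle1
        linarith
      refine lt_of_pow_lt_pow_left₀ 2 hnn ?_
      calc (2 * (χ 1).re) ^ 2 = 4 * (χ 1).re ^ 2 := by ring
        _ ≤ 4 * ((K.index : ℝ) ^ 2 * D.relIndex K) := by gcongr
        _ < _ := by linarith)
  exact ⟨g, hg.mono Finset.subset_union_right⟩

theorem dvd_sub_one_cancel {e a b r : ℕ} (hr : a * b = r) (ha : e ∣ a - 1) (hr' : e ∣ r - 1)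
    (ha1 : 1 ≤ a) (hb1 : 1 ≤ b) : e ∣ b - 1 := by
  obtain ⟨i, hi⟩ := ha
  obtain ⟨j, hj⟩ := hr'
  have e1 : a = e * i + 1 := by omega
  have e3 : a * b = e * (i * b) + b := by rw [e1]; ring
  exact (Nat.dvd_add_right (dvd_mul_right e (i * b))).1 ⟨j, by omega⟩

/-- A kernel whose order is no prime power has `[K:K'] ≥ ([L:K] + 1)²`. -/
theorem frob_relIndex_large (hfix : ∀ k ∈ K, k ≠ 1 → Subgroup.centralizer ({k} : Set L) ≤ K)
    (hnil : Group.IsNilpotent K) (hlt : ⁅K, K⁆ < K) (hnp : ∀ p m : ℕ, p.Prime → Nat.card K ≠ p ^ m) :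
    (K.index + 1) ^ 2 ≤ ⁅K, K⁆.relIndex K := by
  classical
  set π := QuotientGroup.mk' ⁅K, K⁆
  have hsurj : Function.Surjective π := QuotientGroup.mk'_surjective _
  set V := K.map π with hV
  have : V.Normal := Subgroup.Normal.map inferInstance _ hsurj
  have hcomm : ∀ a ∈ V, ∀ b ∈ V, a * b = b * a := by
    rintro _ ⟨a, ha, rfl⟩ _ ⟨b, hb, rfl⟩
    have h : π ⁅a, b⁆ = 1 :=
      (QuotientGroup.eq_one_iff _).2 (Subgroup.commutator_mem_commutator ha hb)
    rwa [map_commutatorElement, commutatorElement_eq_one_iff_commute] at h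
  have hVne : V ≠ ⊥ := by
    rw [hV, ne_eq, Subgroup.map_eq_bot_iff, QuotientGroup.ker_mk']
    exact hlt.not_ge
  by_cases hex : ∃ N : Subgroup L, N.Normal ∧ ⁅K, K⁆ < N ∧ N < K
  · obtain ⟨N, hN, h1, h2⟩ := hex
    have hfr := frob_quot hfix ⁅K, K⁆
    have ha := frob_congr le_rfl hlt.le hfr N h2.le
    have hr := frob_congr le_rfl hlt.le hfr K le_rfl
    have hmul : ⁅K, K⁆.relIndex N * N.relIndex K = ⁅K, K⁆.relIndex K :=
      Subgroup.relIndex_mul_relIndex _ N K h1.le h2.le
    have hbig : ∀ A B : Subgroup L, A < B → 1 < A.relIndex B := fun A B h => by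
      have h3 : A.relIndex B ≠ 1 := fun e => h.not_ge (Subgroup.relIndex_eq_one.1 e)
      have h4 : A.relIndex B ≠ 0 := Subgroup.index_ne_zero_of_finite
      omega
    have ha1 := hbig _ _ h1
    have hb1 := hbig _ _ h2
    have hb := dvd_sub_one_cancel hmul ha hr ha1.le hb1.le
    have ha' := Nat.le_of_dvd (by omega) ha
    have hb' := Nat.le_of_dvd (by omega) hb
    rw [← hmul, sq]
    exact Nat.mul_le_mul (by omega) (by omega)
  exfalso
  push Not at hex
  obtain ⟨p, d, hp, hd, -, -⟩ := prime_pow_of_chief V hVne hcomm fun W hW hWV => by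
    have hn : (W.comap π).Normal := inferInstance
    have hge : ⁅K, K⁆ ≤ W.comap π := fun x hx => by
      show π x ∈ W
      rw [show π x = 1 from (QuotientGroup.eq_one_iff x).2 hx]
      exact one_mem _
    have hle : W.comap π ≤ K := fun x hx => by
      obtain ⟨k, hk, he⟩ := hWV hx
      have := mul_mem hk (hlt.le (QuotientGroup.eq.1 he))
      rwa [mul_inv_cancel_left] at this
    rcases hge.eq_or_lt with h | h
    · left
      rw [← Subgroup.map_comap_eq_self_of_surjective hsurj W, ← h, Subgroup.map_eq_bot_iff,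
        QuotientGroup.ker_mk']
    · right
      rw [← Subgroup.map_comap_eq_self_of_surjective hsurj W,
        eq_of_le_of_not_lt hle (hex _ hn h)]
  have : Fact p.Prime := ⟨hp⟩
  obtain ⟨m, hm⟩ := card_eq_pow_of_commutator_index (P := K) (p := p) (d := d) (by
    rw [← hd, hV, card_map_mk, Subgroup.relIndex]
    congr 1
    rw [← Subgroup.map_subtype_commutator, Subgroup.subgroupOf,
      Subgroup.comap_map_eq_self_of_injective K.subtype_injective])
  exact hnp p m hp hm

variable {τ : (L → ℂ) → (G → ℂ)}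

/-- Feit's theorem. -/
theorem feit_coherence (hfix : ∀ k ∈ K, k ≠ 1 → Subgroup.centralizer ({k} : Set L) ≤ K)
    (hnil : Group.IsNilpotent K) (hKL : K < ⊤) (hnab : ¬ ⁅K, K⁆ ≤ ⊥)
    (hτ : IsLinearIsometryOn (zspanOn (inducedIrrAbove K ⊥) {1}ᶜ) τ)
    (hτ1 : ∀ α ∈ zspanOn (inducedIrrAbove K ⊥) {1}ᶜ, τ α 1 = 0)
    (hbig : 4 * K.index ^ 2 + 1 < ⁅K, K⁆.relIndex K ∨ ∀ p m : ℕ, p.Prime → Nat.card K ≠ p ^ m) :
    IsCoherent (inducedIrrAbove K ⊥) {1}ᶜ τ := by
  classical
  have hsolv : Group.IsSolvable K := inferInstance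
  have hK1 : K ≠ ⊥ := fun h => hnab (h ▸ Subgroup.commutator_le_left K K)
  have hH₁K : ⁅K, K⁆ < K := by
    have : Nontrivial K := (Subgroup.nontrivial_iff_ne_bot K).2 hK1
    have h := (Subgroup.map_lt_map_iff_of_injective K.subtype_injective).2
      (Group.IsSolvable.commutator_lt_top_of_nontrivial K)
    rwa [Subgroup.map_subtype_commutator, ← MonoidHom.range_eq_map, Subgroup.range_subtype] at h
  obtain ⟨F, hF⟩ : ∃ F : Finset (L → ℂ), (↑F : Set (L → ℂ)) = inducedIrrAbove K ⊥ :=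
    ⟨(finite_irr_set (frob_irr hfix)).toFinset, (finite_irr_set (frob_irr hfix)).coe_toFinset⟩
  have hirr : ∀ φ ∈ F, IsIrrCharacter L φ := fun φ hφ =>
    frob_irr (A := (⊥ : Subgroup L)) hfix φ (by rw [← hF, Finset.mem_coe]; exact hφ)
  have hd := degSet_irr hirr
  rw [← hF] at hτ hτ1 ⊢
  obtain ⟨T, hT, hTτ⟩ := exists_isom hd hτ hτ1
  have hab : above K F ⊥ = F := Finset.ext fun φ => by
    rw [mem_above hF, ← hF, Finset.mem_coe]
  suffices hcoh : ∃ g, IsExt (above K F ⊥) T g by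
    obtain ⟨g, hg⟩ := hcoh
    rw [hab] at hg
    obtain ⟨η, hη, -⟩ := exists_linear_mem K hsolv ⁅K, K⁆ hH₁K
    obtain ⟨χ, hχ, hne⟩ : ∃ χ ∈ F, χ ∉ above K F ⁅K, K⁆ := by
      by_contra h
      push Not at h
      have he : above K F ⁅K, K⁆ = F := (above_subset _).antisymm h
      have h1 := sum_re_above hF (⊥ : Subgroup L)
      rw [hab, ← he, sum_re_above hF, Subgroup.relIndex_bot_left] at h1
      have h2 := mul_left_cancel₀ (Nat.cast_ne_zero.2 K.index_ne_zero_of_finite) h1
      have h3 : ⁅K, K⁆.relIndex K = Nat.card K := by exact_mod_cast sub_left_inj.1 h2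
      have h4 := Subgroup.relIndex_mul_relIndex ⊥ ⁅K, K⁆ K bot_le hH₁K.le
      rw [Subgroup.relIndex_bot_left, Subgroup.relIndex_bot_left, h3] at h4
      exact hnab (Subgroup.eq_bot_of_card_eq _ ((Nat.mul_eq_right Nat.card_pos.ne').1 h4)).le
    exact hg.isCoherent hd hTτ (hd.exists_ne_zero hχ (above_subset _ ((mem_above hF).2 hη))
      fun e => hne (e ▸ (mem_above hF).2 hη))
  have he2 : 2 ≤ K.index := by
    have h1 : K.index ≠ 1 := fun h => hKL.ne (Subgroup.index_eq_one.1 h)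
    have h2 : K.index ≠ 0 := K.index_ne_zero_of_finite
    omega
  obtain ⟨f₀, hf₀⟩ := uniform_irr (S := above K F ⁅K, K⁆) (fun φ hφ => hirr φ (above_subset _ hφ))
    (hT.mono (Finset.coe_subset.2 (above_subset _))) fun a ha b hb => by
      rw [above_degree le_rfl ((mem_above hF).1 ha), above_degree le_rfl ((mem_above hF).1 hb)]
  by_contra hno
  set bad : Set (Subgroup L) :=
    {A | A.Normal ∧ A ≤ ⁅K, K⁆ ∧ ¬∃ g, IsExt (above K F A) T g} with hbaddef
  obtain ⟨A, hA⟩ := bad.toFinite.exists_maximal ⟨⊥, inferInstance, bot_le, hno⟩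
  obtain ⟨hAn, hAH₁, hAbad⟩ := hA.prop
  have hAlt : A < ⁅K, K⁆ := lt_of_le_of_ne hAH₁ fun h => hAbad (h ▸ ⟨f₀, hf₀⟩)
  set above' : Set (Subgroup L) := {A' | A'.Normal ∧ A < A' ∧ A' ≤ ⁅K, K⁆} with habove
  obtain ⟨A', hA'⟩ := above'.toFinite.exists_minimal ⟨⁅K, K⁆, inferInstance, hAlt, le_rfl⟩
  obtain ⟨hA'n, hAA', hA'H₁⟩ := hA'.prop
  obtain ⟨g, hg⟩ : ∃ g, IsExt (above K F A') T g := by
    by_contra h
    exact hAA'.not_ge (hA.le_of_ge (y := A') ⟨hA'n, hA'H₁, h⟩ hAA'.le)
  have hA'K : A' < K := hA'H₁.trans_lt hH₁K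
  have hAK : A ≤ K := hAA'.le.trans hA'K.le
  have hcomm : ⁅A', K⁆ ≤ A := by
    by_contra h
    have : ((⊥ : Subgroup L).subgroupOf K).Normal := Subgroup.Normal.subgroupOf inferInstance K
    have hne := commutator_sup_ne (M := ⊥) (H := K) inferInstance bot_le hAA' hA'K.le
    have hle : ⁅A', K⁆ ⊔ A ≤ A' := sup_le (Subgroup.commutator_le_left A' K) hAA'.le
    have hlt : A < ⁅A', K⁆ ⊔ A := lt_of_le_of_ne le_sup_right fun e => h (le_sup_left.trans e.ge)
    exact hne (le_antisymm hle (hA'.le_of_le ⟨inferInstance, hlt, hle.trans hA'H₁⟩ hle))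
  have hxr : ⁅K, K⁆.relIndex K ≤ A'.relIndex K :=
    Nat.le_of_dvd (Nat.pos_of_ne_zero Subgroup.index_ne_zero_of_finite)
      (Subgroup.relIndex_dvd_of_le_left K hA'H₁)
  rcases hbig with hbig | hnp
  · refine hAbad (coherent_bound_irr hsolv hF hirr hT A' A A' hA'K hAA'.le hA'K.le
      (fun x hx y hy => hcomm (Subgroup.commutator_mem_commutator hx hy)) hg ?_)
    have h := bound_arith 1 (A'.relIndex K) K.index le_rfl (hbig.trans_le hxr)
    simpa using h
  -- the preimage of the centre of `K/A`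
  set π := QuotientGroup.mk' A with hπ
  have hsurj : Function.Surjective π := QuotientGroup.mk'_surjective A
  have : (K.map π).Normal := Subgroup.Normal.map inferInstance _ hsurj
  set D : Subgroup L := K ⊓ (Subgroup.centralizer (K.map π : Set (L ⧸ A))).comap π with hD
  have hDc : ∀ x ∈ D, ∀ y ∈ K, x * y * x⁻¹ * y⁻¹ ∈ A := by
    rintro x ⟨-, hx⟩ y hy
    replace hx : π x ∈ Subgroup.centralizer (K.map π : Set (L ⧸ A)) := hx
    rw [Subgroup.mem_centralizer_iff] at hx
    refine (QuotientGroup.eq_one_iff _).1 ?_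
    show π (x * y * x⁻¹ * y⁻¹) = 1
    rw [map_mul, map_mul, map_mul, ← hx _ (Subgroup.mem_map_of_mem π hy), map_inv, map_inv,
      mul_inv_cancel_right, mul_inv_cancel]
  have hA'D : A' ≤ D := fun x hx => ⟨hA'K.le hx, by
    show π x ∈ Subgroup.centralizer (K.map π : Set (L ⧸ A))
    rw [Subgroup.mem_centralizer_iff]
    rintro _ ⟨y, hy, rfl⟩
    have h : π ⁅x, y⁆ = 1 :=
      (QuotientGroup.eq_one_iff _).2 (hcomm (Subgroup.commutator_mem_commutator hx hy))
    rw [map_commutatorElement, commutatorElement_eq_one_iff_commute] at h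
    exact h.symm⟩
  have hnotD : ¬ D ≤ A' := by
    intro hle
    have : (A'.map π).Normal := Subgroup.Normal.map hA'n _ hsurj
    obtain ⟨p, d, hp, hd, -, -⟩ := prime_pow_of_chief (A'.map π)
      (by rw [ne_eq, Subgroup.map_eq_bot_iff, QuotientGroup.ker_mk']; exact hAA'.not_ge)
      (by
        rintro _ ⟨a, ha, rfl⟩ _ ⟨b, hb, rfl⟩
        exact ((Subgroup.mem_centralizer_iff.1 (hA'D ha).2) _
          (Subgroup.mem_map_of_mem π (hA'K.le hb))).symm)
      (fun W hW hWV => by
        have hge : A ≤ W.comap π := fun x hx => by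
          show π x ∈ W
          rw [show π x = 1 from (QuotientGroup.eq_one_iff x).2 hx]
          exact one_mem _
        have hle' : W.comap π ≤ A' := fun x hx => by
          obtain ⟨k, hk, he⟩ := hWV hx
          have := mul_mem hk (hAA'.le (QuotientGroup.eq.1 he))
          rwa [mul_inv_cancel_left] at this
        rcases hge.eq_or_lt with h | h
        · left
          rw [← Subgroup.map_comap_eq_self_of_surjective hsurj W, ← h, Subgroup.map_eq_bot_iff,
            QuotientGroup.ker_mk']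
        · right
          rw [← Subgroup.map_comap_eq_self_of_surjective hsurj W,
            le_antisymm hle' (hA'.le_of_le ⟨inferInstance, h, hle'.trans hA'H₁⟩ hle')])
    have : Group.IsNilpotent (K.map π) :=
      Group.nilpotent_of_surjective (π.subgroupMap K) (π.subgroupMap_surjective K)
    have hprimes : ∀ {q : ℕ}, q.Prime → q ∣ Nat.card (K.map π) → q = p := by
      intro q hq hqd
      have : Fact q.Prime := ⟨hq⟩
      obtain ⟨z, hz, hord⟩ := exists_center_orderOf hqd
      obtain ⟨k, hk, hke⟩ := z.2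
      have hkD : k ∈ D := ⟨hk, by
        show π k ∈ Subgroup.centralizer (K.map π : Set (L ⧸ A))
        rw [Subgroup.mem_centralizer_iff]
        intro w hw
        rw [hke]
        exact congrArg Subtype.val (Subgroup.mem_center_iff.1 hz ⟨w, hw⟩)⟩
      have h1 : q ∣ p ^ d := by
        rw [← hd, ← hord, ← Subgroup.orderOf_coe]
        exact Subgroup.orderOf_dvd_natCard _ (hke ▸ Subgroup.mem_map_of_mem π (hle hkD))
      exact (Nat.prime_dvd_prime_iff_eq hq hp).1 (hq.dvd_of_dvd_pow h1)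
    rw [card_map_mk] at hprimes
    have hdvd : ⁅K, K⁆.relIndex K ∣ A.relIndex K := Subgroup.relIndex_dvd_of_le_left K hAH₁
    have : Fact p.Prime := ⟨hp⟩
    have hr0 : ⁅K, K⁆.relIndex K ≠ 0 := Subgroup.index_ne_zero_of_finite
    have hr := Nat.eq_prime_pow_of_unique_prime_dvd hr0
      fun {q} hq hqd => hprimes hq (hqd.trans hdvd)
    obtain ⟨m, hm⟩ := card_eq_pow_of_commutator_index (P := K) (p := p)
      (d := (⁅K, K⁆.relIndex K).primeFactorsList.length) (by
      rw [← hr, Subgroup.relIndex]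
      congr 1
      rw [← Subgroup.map_subtype_commutator, Subgroup.subgroupOf,
        Subgroup.comap_map_eq_self_of_injective K.subtype_injective])
    exact hnp p m hp hm
  have : D.Normal := inferInstance
  have hDK : D ≤ K := inf_le_left
  have hmul : A'.relIndex D * D.relIndex K = A'.relIndex K :=
    Subgroup.relIndex_mul_relIndex A' D K hA'D hDK
  have hg1 : K.index + 1 ≤ A'.relIndex D := by
    have h1 : A'.relIndex D ≠ 1 := fun e => hnotD (Subgroup.relIndex_eq_one.1 e)
    have h2 : A'.relIndex D ≠ 0 := Subgroup.index_ne_zero_of_finite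
    have h3 := Nat.le_of_dvd (by omega) (frob_central_congr hfix A' D hA'K.le hDK
      fun x hx y hy => hAA'.le (hDc x hx y hy))
    omega
  refine hAbad (coherent_bound_irr hsolv hF hirr hT A' A D hA'K (hAA'.le.trans hA'D) hDK hDc hg ?_)
  have hlarge := (frob_relIndex_large hfix hnil hH₁K hnp).trans hxr
  rw [← hmul] at hlarge ⊢
  generalize K.index = e, A'.relIndex D = gg, D.relIndex K = y at *
  have hy : 0 < y := by
    rcases Nat.eq_zero_or_pos y with rfl | h
    · rw [mul_zero] at hlarge; nlinarith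
    · exact h
  have hx2 : 2 ≤ gg * y := le_trans (by nlinarith) hlarge
  obtain ⟨x', hx'⟩ : ∃ x', gg * y = x' + 2 := ⟨gg * y - 2, by omega⟩
  rw [hx', show x' + 2 - 1 = x' + 1 by omega]
  have h4 : 4 * e ^ 2 < gg * x' := by
    calc 4 * e ^ 2 < (e + 1) * ((e + 1) ^ 2 - 2) := by
          obtain ⟨j, rfl⟩ : ∃ j, e = j + 2 := ⟨e - 2, by omega⟩
          rw [show (j + 2 + 1) ^ 2 - 2 = j ^ 2 + 6 * j + 7 by
            rw [show (j + 2 + 1) ^ 2 = j ^ 2 + 6 * j + 7 + 2 by ring, Nat.add_sub_cancel]]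
          nlinarith
      _ ≤ gg * x' := Nat.mul_le_mul hg1 (by rw [hx'] at hlarge; omega)
  calc 4 * e ^ 2 * y < gg * x' * y := Nat.mul_lt_mul_of_pos_right h4 hy
    _ = x' * (gg * y) := by ring
    _ = x' * (x' + 2) := by rw [hx']
    _ < (x' + 1) ^ 2 := by nlinarith

end CfsgLib.Coherence
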