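import Cfsg.Agent.Coherence.Sibley
import Cfsg.Agent.Coherence.Feit
import Cfsg.Prelude.Def_Transfer

/-!
# Coherence for a T.I. subgroup containing the centralisers of its elements

`ti_dichotomy`: with `K = H.subgroupOf L`, either `S` is coherent, or `S` has one member, or `H` is a
Sylow 2-subgroup with small commutator quotient.
-/

set_option autoImplicit false
set_option linter.unusedSectionVars false

namespace CfsgLib.Coherence

open Cfsg CfsgLib.Characters

universe u

variable {G : Type u} [Group G] [Fintype G] {H L : Subgroup G}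

theorem ti_hfix (hC : ∀ k ∈ H, k ≠ 1 → Subgroup.centralizer ({k} : Set G) ≤ H) :
    ∀ k ∈ H.subgroupOf L, k ≠ 1 → Subgroup.centralizer ({k} : Set L) ≤ H.subgroupOf L :=
  fun k hk hk1 x hx => Subgroup.mem_subgroupOf.2 <| hC k (Subgroup.mem_subgroupOf.1 hk)
    (fun h => hk1 (Subtype.ext h)) (Subgroup.mem_centralizer_singleton_iff.2
      (congrArg Subtype.val (Subgroup.mem_centralizer_singleton_iff.1 hx)))

variable [Fintype L] [hKn : (H.subgroupOf L).Normal]

theorem ti_set_eq (hC : ∀ k ∈ H, k ≠ 1 → Subgroup.centralizer ({k} : Set G) ≤ H) :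
    {χ : L → ℂ | IsIrrCharacter L χ ∧ ∃ x : L, (x : G) ∈ H ∧ χ x ≠ χ 1} =
      inducedIrrAbove (H.subgroupOf L) ⊥ := by
  rw [frob_eq_nontrivial (ti_hfix hC)]
  exact Set.ext fun χ => Iff.rfl

variable (hC : ∀ k ∈ H, k ≠ 1 → Subgroup.centralizer ({k} : Set G) ≤ H)
  (hN : Subgroup.normalizer (H : Set G) = L) (hlt : H < L) (hH1 : H ≠ ⊥)
include hC hN hlt hH1

/-- A prime power kernel has the order of a Sylow subgroup. -/
theorem ti_card_factorization {p m : ℕ} (hp : p.Prime) (hcard : Nat.card H = p ^ m) :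
    Nat.card H = p ^ (Nat.card G).factorization p := by
  have : Fact p.Prime := ⟨hp⟩
  rw [hcard]
  congr 1
  refine (le_antisymm (not_lt.1 fun h => ?_)
    ((hp.pow_dvd_iff_le_factorization Nat.card_pos.ne').1 (hcard ▸ H.card_subgroup_dvd_card))).symm
  have h1 : p ∣ (H.subgroupOf (Subgroup.normalizer (H : Set G))).index :=
    Sylow.prime_dvd_card_quotient_normalizer
      ((hp.pow_dvd_iff_le_factorization Nat.card_pos.ne').2 h) hcard
  rw [hN] at h1
  have h2 : p ∣ Nat.card (H.subgroupOf L) := by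
    rw [Nat.card_congr (Subgroup.subgroupOfEquivOfLe hlt.le).toEquiv, hcard]
    refine dvd_pow_self p ?_
    rintro rfl
    exact hH1 (Subgroup.eq_bot_of_card_eq H (by rw [hcard, pow_zero]))
  exact hp.not_dvd_one ((frob_coprime (K := H.subgroupOf L) (ti_hfix hC)).gcd_eq_one ▸ Nat.dvd_gcd h2 h1)

theorem ti_dichotomy (hTI : IsTISubset (H : Set G)) (hnil : Group.IsNilpotent H) :
    IsCoherent (inducedIrrAbove (H.subgroupOf L) ⊥) {1}ᶜ (fun α : L → ℂ => indFun L α) ∨
      (Nat.card H = (H.subgroupOf L).index + 1 ∧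
        (∃ φ, inducedIrrAbove (H.subgroupOf L) ⊥ = {φ}) ∧ IsMulCommutative H ∧
        ∀ p : ℕ, p.Prime → p ∣ Nat.card H → IsElementaryAbelian p H) ∨
      (Even (Nat.card H) ∧ Nat.card H = 2 ^ (Nat.card G).factorization 2 ∧
        (⁅H, H⁆.subgroupOf H).index < 4 * (H.subgroupOf L).index ^ 2) := by
  classical
  set K := H.subgroupOf L with hKdef
  have hfix : ∀ k ∈ K, k ≠ 1 → Subgroup.centralizer ({k} : Set L) ≤ K := ti_hfix hC
  have hnilK : Group.IsNilpotent K :=
    Group.nilpotent_of_mulEquiv (Subgroup.subgroupOfEquivOfLe hlt.le).symm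
  have hsolv : Group.IsSolvable K := inferInstance
  have hK1 : K ≠ ⊥ := by
    rw [hKdef, ne_eq, Subgroup.subgroupOf_eq_bot, disjoint_iff, inf_eq_left.2 hlt.le]
    exact hH1
  have hKL : K < ⊤ := lt_top_iff_ne_top.2 fun h => hlt.not_ge (Subgroup.subgroupOf_eq_top.1 h)
  have hcardK : Nat.card K = Nat.card H :=
    Nat.card_congr (Subgroup.subgroupOfEquivOfLe hlt.le).toEquiv
  obtain ⟨hiso, hiso1⟩ := ti_isometry hTI hN
  by_cases hcomm : ∀ a ∈ K, ∀ b ∈ K, a * b = b * a
  · rcases frob_comm_coherence hfix hsolv hK1 hiso hiso1 hcomm with h | ⟨φ, hφ⟩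
    · exact Or.inl h
    have hHc : IsMulCommutative H := ⟨⟨fun a b => Subtype.ext (congrArg (fun x : L => (x : G))
      (hcomm ⟨a, hlt.le a.2⟩ (Subgroup.mem_subgroupOf.2 a.2) ⟨b, hlt.le b.2⟩
        (Subgroup.mem_subgroupOf.2 b.2)))⟩⟩
    refine Or.inr (Or.inl ⟨?_, ⟨φ, hφ⟩, hHc, fun p hp hpd => ⟨hHc, fun a ha => ?_⟩⟩)
    · rw [← hcardK]; exact (frob_singleton hfix hsolv hK1 hcomm hφ).1
    · exact congrArg Subtype.val (frob_singleton_elementary hfix hsolv hK1 hcomm hφ hp
        (hcardK ▸ hpd) ⟨a, hlt.le ha⟩ (Subgroup.mem_subgroupOf.2 ha))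
  have hnab : ¬ ⁅K, K⁆ ≤ ⊥ := fun h => hcomm fun a ha b hb => by
    have := h (Subgroup.commutator_mem_commutator ha hb)
    rwa [Subgroup.mem_bot, commutatorElement_eq_one_iff_commute] at this
  have heodd : Odd K.index := Nat.not_even_iff_odd.1 fun h => hcomm (frob_comm_of_even hfix h)
  by_cases hLodd : Odd (Nat.card L)
  · exact Or.inl (sibley hTI hN hLodd hnilK hK1 hKL hfix)
  have hKeven : Even (Nat.card K) := by
    rw [← Nat.not_odd_iff_even]
    intro h
    apply hLodd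
    rw [← K.index_mul_card]
    exact heodd.mul h
  have hrel : ⁅K, K⁆.relIndex K = (⁅H, H⁆.subgroupOf H).index := by
    have h1 : ∀ {Γ : Type u} [Group Γ] (M : Subgroup Γ), ⁅M, M⁆.subgroupOf M = commutator M :=
      fun M => by
        rw [← Subgroup.map_subtype_commutator, Subgroup.subgroupOf,
          Subgroup.comap_map_eq_self_of_injective M.subtype_injective]
    rw [Subgroup.relIndex, h1, h1]
    let e := Subgroup.subgroupOfEquivOfLe hlt.le
    have h2 : (commutator K).map e.toMonoidHom = commutator H := by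
      rw [commutator_def, commutator_def, Subgroup.map_commutator,
        Subgroup.map_top_of_surjective _ e.surjective]
    rw [← h2]
    exact (Subgroup.index_map_of_bijective e.bijective _).symm
  by_cases hsmall : (∃ m, Nat.card K = 2 ^ m) ∧ ⁅K, K⁆.relIndex K < 4 * K.index ^ 2
  · obtain ⟨⟨m, hm⟩, hs⟩ := hsmall
    exact Or.inr (Or.inr ⟨hcardK ▸ hKeven,
      ti_card_factorization hC hN hlt hH1 Nat.prime_two (hcardK ▸ hm), hrel ▸ hs⟩)
  refine Or.inl (feit_coherence hfix hnilK hKL hnab hiso hiso1 ?_)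
  by_cases h2 : ∃ m, Nat.card K = 2 ^ m
  · refine Or.inl ?_
    have hge : 4 * K.index ^ 2 ≤ ⁅K, K⁆.relIndex K := not_lt.1 fun h => hsmall ⟨h2, h⟩
    obtain ⟨m, hm⟩ := h2
    obtain ⟨i, -, hi⟩ := (Nat.dvd_prime_pow Nat.prime_two).1
      (hm ▸ Subgroup.index_dvd_card _ : ⁅K, K⁆.relIndex K ∣ 2 ^ m)
    have he3 : 3 ≤ K.index := by
      have h1 : K.index ≠ 1 := fun h => hKL.ne (Subgroup.index_eq_one.1 h)
      obtain ⟨j, hj⟩ := heodd
      omega
    rw [hi] at hge ⊢
    have hne : 2 ^ i ≠ 4 * K.index ^ 2 := by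
      intro h
      have hd : K.index ∣ 2 ^ i := h ▸ Dvd.intro_left _ (by ring : (4 * K.index) * K.index = 4 * K.index ^ 2)
      obtain ⟨j, -, hj⟩ := (Nat.dvd_prime_pow Nat.prime_two).1 hd
      rcases Nat.eq_zero_or_pos j with rfl | hj0
      · omega
      · rw [hj, Nat.odd_pow_iff hj0.ne'] at heodd
        exact absurd heodd (by decide)
    have hne1 : 2 ^ i ≠ 4 * K.index ^ 2 + 1 := by
      intro h
      rcases Nat.eq_zero_or_pos i with rfl | hi0
      · nlinarith
      · have h3 : 2 ∣ 4 * K.index ^ 2 + 1 := h ▸ dvd_pow_self 2 hi0.ne'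
        omega
    omega
  · refine Or.inr fun p m hp hc => h2 ⟨m, ?_⟩
    have hpd : 2 ∣ p ^ m := hc ▸ hKeven.two_dvd
    rw [hc, ← (Nat.prime_dvd_prime_iff_eq Nat.prime_two hp).1 (Nat.prime_two.dvd_of_dvd_pow hpd)]

end CfsgLib.Coherence
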