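import Cfsg.Agent.Coherence.Induced
import Mathlib.GroupTheory.Nilpotent
import Mathlib.GroupTheory.Finiteness

/-!
# Peterfalvi (6.2) and (6.3)
-/

set_option autoImplicit false
set_option linter.unusedSectionVars false

namespace CfsgLib.Coherence

open Cfsg ComplexConjugate CfsgLib.Characters
open scoped commutatorElement

universe u v

variable {L : Type u} [Group L] [Fintype L] {G : Type v} [Group G] [Fintype G]

namespace Sys

variable {S : Finset (L → ℂ)} {T : (L → ℂ) →ₗ[ℂ] (G → ℂ)} {R : (L → ℂ) → Finset (G → ℂ)}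

/-- Repeated extension: every member of `X` satisfying the criterion relative to the base `S₁` can
be adjoined. -/
theorem extend_many [DecidableEq (L → ℂ)] (h : Sys S T R) {S₁ X : Finset (L → ℂ)} (hS₁ : S₁ ⊆ S)
    (hc : ∀ φ ∈ S₁, conjFun φ ∈ S₁) {f : (L → ℂ) → (G → ℂ)} (hf : IsExt S₁ T f) {χ₁ : L → ℂ}
    (hm : χ₁ ∈ S₁) (hX : X ⊆ S) (hdvd : ∀ χ ∈ X, ∃ d : ℕ, χ 1 = (d : ℂ) * χ₁ 1)
    (hineq : ∀ χ ∈ X, 2 * (χ 1).re * (χ₁ 1).re < ∑ φ ∈ S₁, (φ 1).re ^ 2 / sqNorm φ) :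
    ∃ U g, S₁ ⊆ U ∧ X ⊆ U ∧ U ⊆ S ∧ (∀ φ ∈ U, conjFun φ ∈ U) ∧ IsExt U T g := by
  classical
  induction X using Finset.induction_on with
  | empty => exact ⟨S₁, f, subset_rfl, Finset.empty_subset _, hS₁, hc, hf⟩
  | insert χ X _ ih =>
    obtain ⟨U, g, h1, h2, h3, h4, h5⟩ := ih (fun x hx => hX (Finset.mem_insert_of_mem hx))
      (fun x hx => hdvd x (Finset.mem_insert_of_mem hx))
      (fun x hx => hineq x (Finset.mem_insert_of_mem hx))
    have hχ := hX (Finset.mem_insert_self χ X)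
    by_cases hχU : χ ∈ U
    · exact ⟨U, g, h1, Finset.insert_subset hχU h2, h3, h4, h5⟩
    have hχU' : conjFun χ ∉ U := fun h' => hχU (by simpa using h4 _ h')
    obtain ⟨g', hg'⟩ := h.extend_pair h3 h4 h5 hχ hχU hχU' (h1 hm)
      (hdvd χ (Finset.mem_insert_self χ X))
      ((hineq χ (Finset.mem_insert_self χ X)).trans_le (Finset.sum_le_sum_of_subset_of_nonneg h1
        fun φ _ _ => div_nonneg (sq_nonneg _) (sqNorm_nonneg φ)))
    refine ⟨U ∪ {χ, conjFun χ}, g', h1.trans Finset.subset_union_left,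
      Finset.insert_subset (by simp) (h2.trans Finset.subset_union_left), ?_, ?_, hg'⟩
    · intro x hx
      simp only [Finset.mem_union, Finset.mem_insert, Finset.mem_singleton] at hx
      rcases hx with hx | rfl | rfl
      · exact h3 hx
      · exact hχ
      · exact h.conj_mem χ hχ
    · intro x hx
      simp only [Finset.mem_union, Finset.mem_insert, Finset.mem_singleton] at hx ⊢
      rcases hx with hx | rfl | rfl
      · exact Or.inl (h4 x hx)
      · exact Or.inr (Or.inr rfl)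
      · exact Or.inr (Or.inl (conjFun_conjFun χ))

end Sys

variable (K : Subgroup L) [K.Normal]

open Classical in
/-- The members of `F` lying in `S(A)`. -/
noncomputable def above (F : Finset (L → ℂ)) (A : Subgroup L) : Finset (L → ℂ) :=
  F.filter (fun φ => φ ∈ inducedIrrAbove K A)

variable {K} {F : Finset (L → ℂ)} {T : (L → ℂ) →ₗ[ℂ] (G → ℂ)} {R : (L → ℂ) → Finset (G → ℂ)}

theorem mem_above (hF : (↑F : Set (L → ℂ)) = inducedIrrAbove K ⊥) {A : Subgroup L} {φ : L → ℂ} :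
    φ ∈ above K F A ↔ φ ∈ inducedIrrAbove K A := by
  classical
  refine ⟨fun h => (Finset.mem_filter.1 h).2, fun h => Finset.mem_filter.2 ⟨?_, h⟩⟩
  rw [← Finset.mem_coe, hF]
  exact inducedIrrAbove_mono K bot_le h

theorem coe_above (hF : (↑F : Set (L → ℂ)) = inducedIrrAbove K ⊥) (A : Subgroup L) :
    (↑(above K F A) : Set (L → ℂ)) = inducedIrrAbove K A :=
  Set.ext fun _ => mem_above hF

theorem above_subset (A : Subgroup L) : above K F A ⊆ F := fun _ h => by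
  classical exact Finset.mem_of_mem_filter _ h

theorem above_conj (hF : (↑F : Set (L → ℂ)) = inducedIrrAbove K ⊥) {A : Subgroup L} :
    ∀ φ ∈ above K F A, conjFun φ ∈ above K F A := fun _ h =>
  (mem_above hF).2 (conj_mem_inducedIrrAbove K ((mem_above hF).1 h))

theorem exists_deg_mul (hF : (↑F : Set (L → ℂ)) = inducedIrrAbove K ⊥) {φ : L → ℂ} (hφ : φ ∈ F) :
    ∃ d : ℕ, 0 < d ∧ φ 1 = (d : ℂ) * (K.index : ℂ) := by
  rw [← Finset.mem_coe, hF] at hφ
  obtain ⟨θ, hθ, -, -, rfl⟩ := hφ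
  obtain ⟨n, hn0, hn⟩ := exists_degree_pos hθ
  exact ⟨n, hn0, by rw [ind_one, hn, mul_comm]⟩

theorem sum_re_above (hF : (↑F : Set (L → ℂ)) = inducedIrrAbove K ⊥) (A : Subgroup L) [A.Normal] :
    ∑ φ ∈ above K F A, (φ 1).re ^ 2 / sqNorm φ = (K.index : ℝ) * ((A.relIndex K : ℝ) - 1) := by
  have h := congrArg Complex.re (sum_deg_sq_div K A (above K F A) (coe_above hF A))
  rw [Complex.re_sum, show ((K.index : ℂ) * ((A.relIndex K : ℂ) - 1))
    = (((K.index : ℝ) * ((A.relIndex K : ℝ) - 1) : ℝ) : ℂ) by push_cast; rfl, Complex.ofReal_re] at h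
  rw [← h]
  refine Finset.sum_congr rfl fun φ hφ => ?_
  obtain ⟨d, -, hd⟩ := exists_deg_mul hF (above_subset A hφ)
  rw [hd, ← Nat.cast_mul, ← Nat.cast_pow, Complex.natCast_re, ci_self_eq_sqNorm,
    show ((((d * K.index) ^ 2 : ℕ) : ℂ)) = ((((d * K.index) ^ 2 : ℕ) : ℝ) : ℂ) by push_cast; rfl,
    ← Complex.ofReal_div, Complex.ofReal_re]
  push_cast; ring

/-- Peterfalvi (6.2). -/
theorem coherent_bound (hsolv : Group.IsSolvable K) (hS : Sys F T R)
    (hF : (↑F : Set (L → ℂ)) = inducedIrrAbove K ⊥) (A B C D : Subgroup L) [A.Normal] [B.Normal]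
    (hAK : A < K) (hBD : B ≤ D) (hDC : D ≤ C) (hCK : C ≤ K)
    (hcent : ∀ x ∈ D, ∀ y ∈ C, x * y * x⁻¹ * y⁻¹ ∈ B) {f : (L → ℂ) → (G → ℂ)}
    (hA : IsExt (above K F A) T f)
    (hlt : 4 * C.index ^ 2 * D.relIndex C < (A.relIndex K - 1) ^ 2) :
    ∃ g, IsExt (above K F B) T g := by
  classical
  obtain ⟨χ₁, hχ₁, hdeg⟩ := exists_linear_mem K hsolv A hAK
  have he : (0 : ℝ) < K.index := Nat.cast_pos.2 (Nat.pos_of_ne_zero K.index_ne_zero_of_finite)
  have hle1 : 1 ≤ A.relIndex K := Nat.one_le_iff_ne_zero.2 Subgroup.index_ne_zero_of_finite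
  obtain ⟨U, g, -, hU, -, -, hg⟩ := hS.extend_many (above_subset (K := K) A) (above_conj hF) hA
    ((mem_above hF).2 hχ₁) (above_subset (K := K) B)
    (fun χ hχ => by
      obtain ⟨d, -, hd⟩ := exists_deg_mul hF (above_subset B hχ)
      exact ⟨d, by rw [hd, hdeg]⟩)
    (fun χ hχ => by
      rw [sum_re_above hF A, hdeg, Complex.natCast_re, mul_comm]
      refine mul_lt_mul_of_pos_left ?_ he
      have hb := ind_degree_bound K hBD hDC hCK hcent ((mem_above hF).1 hχ)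
      have hlt' : ((4 * C.index ^ 2 * D.relIndex C : ℕ) : ℝ) < (((A.relIndex K - 1) ^ 2 : ℕ) : ℝ) := by
        exact_mod_cast hlt
      push_cast [Nat.cast_sub hle1] at hlt'
      have hnn : (0 : ℝ) ≤ (A.relIndex K : ℝ) - 1 := by
        have : (1 : ℝ) ≤ (A.relIndex K : ℝ) := by exact_mod_cast hle1
        linarith
      refine lt_of_pow_lt_pow_left₀ 2 hnn ?_
      calc (2 * (χ 1).re) ^ 2 = 4 * (χ 1).re ^ 2 := by ring
        _ ≤ 4 * ((C.index : ℝ) ^ 2 * D.relIndex C) := by gcongr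
        _ < _ := by linarith)
  exact ⟨g, hg.mono hU⟩

/-- Nilpotency of `H/M`, in the form of a descending central series reaching `M`. -/
theorem exists_lowerCentral_le {H M : Subgroup L} [(M.subgroupOf H).Normal]
    (hnil : Group.IsNilpotent (↥H ⧸ M.subgroupOf H)) :
    ∃ n, H.lowerCentralSeries n ≤ M := by
  obtain ⟨n, hn⟩ := Subgroup.nilpotent_iff_lowerCentralSeries.1 hnil
  refine ⟨n, ?_⟩
  have h := Subgroup.map_lowerCentralSeries (⊤ : Subgroup H) (QuotientGroup.mk' (M.subgroupOf H)) n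
  rw [Subgroup.map_top_of_surjective _ (QuotientGroup.mk'_surjective _), hn,
    Subgroup.map_eq_bot_iff, QuotientGroup.ker_mk'] at h
  rw [← Subgroup.top_subtype_lowerCentralSeries H n]
  exact (Subgroup.map_mono h).trans (Subgroup.map_comap_le _ _)

/-- For `H/M` nilpotent and `M ≤ A < A'` normal with `A' ≤ H`: `[A', H] A` is proper in `A'`. -/
theorem commutator_sup_ne {H M A A' : Subgroup L} [(M.subgroupOf H).Normal] [A.Normal]
    (hnil : Group.IsNilpotent (↥H ⧸ M.subgroupOf H)) (hMA : M ≤ A) (hlt : A < A') (hA'H : A' ≤ H) :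
    ⁅A', H⁆ ⊔ A ≠ A' := by
  intro heq
  obtain ⟨n, hn⟩ := exists_lowerCentral_le hnil
  suffices h : ∀ k, A' ≤ H.lowerCentralSeries k ⊔ A by
    refine hlt.not_ge ((h n).trans (sup_le ?_ le_rfl))
    exact hn.trans hMA
  intro k
  induction k with
  | zero =>
    rw [Subgroup.lowerCentralSeries_zero]
    exact hA'H.trans le_sup_left
  | succ k ih =>
    conv_lhs => rw [← heq]
    refine sup_le ?_ le_sup_right
    refine Subgroup.commutator_le.2 fun a ha y hy => ?_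
    obtain ⟨l, hl, b, hb, rfl⟩ := Subgroup.mem_sup_of_normal_right.1 (ih ha)
    have e : ⁅l * b, y⁆ = l * ⁅b, y⁆ * l⁻¹ * ⁅l, y⁆ := by simp [commutatorElement_def, mul_assoc]
    rw [e]
    refine mul_mem (Subgroup.mem_sup_right ?_) (Subgroup.mem_sup_left ?_)
    · refine Subgroup.Normal.conj_mem ‹A.Normal› _ ?_ l
      have : ⁅b, y⁆ = b * (y * b⁻¹ * y⁻¹) := by simp [commutatorElement_def, mul_assoc]
      rw [this]
      exact mul_mem hb (Subgroup.Normal.conj_mem ‹A.Normal› _ (inv_mem hb) y)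
    · exact Subgroup.commutator_mem_commutator hl hy

theorem bound_arith (k h : ℕ) (e : ℕ) (hk : 1 ≤ k) (hh : 4 * e ^ 2 + 1 < h) :
    4 * (e * k) ^ 2 * h < (h * k - 1) ^ 2 := by
  have h1 : 2 ≤ h := by omega
  have h2 : (4 * e ^ 2 + 2) * (h * k ^ 2) ≤ h * (h * k ^ 2) := Nat.mul_le_mul_right _ hh
  have h3 : 1 ≤ h * k := Nat.one_le_iff_ne_zero.2 (by positivity)
  zify [h3] at *
  nlinarith [mul_le_mul_of_nonneg_left hk (by positivity : (0 : ℤ) ≤ (h : ℤ) * k)]

/-- Peterfalvi (6.3). -/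
theorem bounded_coherence (hsolv : Group.IsSolvable K) (hS : Sys F T R)
    (hF : (↑F : Set (L → ℂ)) = inducedIrrAbove K ⊥) (M H₁ H : Subgroup L) [M.Normal] [hN₁ : H₁.Normal]
    [H.Normal] (hMH₁ : M ≤ H₁) (hH₁H : H₁ ≤ H) (hHK : H ≤ K) [(M.subgroupOf H).Normal]
    (hnil : Group.IsNilpotent (↥H ⧸ M.subgroupOf H)) {f : (L → ℂ) → (G → ℂ)}
    (hcoh : IsExt (above K F H₁) T f) (hbig : 4 * K.index ^ 2 + 1 < H₁.relIndex H) :
    ∃ g, IsExt (above K F M) T g := by
  classical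
  by_contra hno
  set bad : Set (Subgroup L) :=
    {A | A.Normal ∧ M ≤ A ∧ A ≤ H₁ ∧ ¬∃ g, IsExt (above K F A) T g} with hbad
  obtain ⟨A, hA⟩ := bad.toFinite.exists_maximal ⟨M, inferInstance, le_rfl, hMH₁, hno⟩
  obtain ⟨hAn, hMA, hAH₁, hAbad⟩ := hA.prop
  have hAlt : A < H₁ := lt_of_le_of_ne hAH₁ fun h => hAbad (h ▸ ⟨f, hcoh⟩)
  set above' : Set (Subgroup L) := {A' | A'.Normal ∧ A < A' ∧ A' ≤ H₁} with habove
  obtain ⟨A', hA'⟩ := above'.toFinite.exists_minimal ⟨H₁, hN₁, hAlt, le_rfl⟩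
  obtain ⟨hA'n, hAA', hA'H₁⟩ := hA'.prop
  have hgood : ∃ g, IsExt (above K F A') T g := by
    by_contra h
    exact hAA'.not_ge (hA.le_of_ge (y := A') ⟨hA'n, hMA.trans hAA'.le, hA'H₁, h⟩ hAA'.le)
  obtain ⟨g, hg⟩ := hgood
  have hA'H := hA'H₁.trans hH₁H
  have hne := commutator_sup_ne hnil hMA hAA' hA'H
  have hle : ⁅A', H⁆ ⊔ A ≤ A' := sup_le (Subgroup.commutator_le_left A' H) hAA'.le
  have hcomm : ⁅A', H⁆ ≤ A := by
    by_contra h
    have hlt : A < ⁅A', H⁆ ⊔ A := lt_of_le_of_ne le_sup_right fun e => h (le_sup_left.trans e.ge)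
    exact hne (le_antisymm hle (hA'.le_of_le ⟨inferInstance, hlt, hle.trans hA'H₁⟩ hle))
  have hh : 4 * K.index ^ 2 + 1 < A'.relIndex H :=
    hbig.trans_le (Nat.le_of_dvd (Nat.pos_of_ne_zero Subgroup.index_ne_zero_of_finite)
      (Subgroup.relIndex_dvd_of_le_left H hA'H₁))
  have hA'K : A' < K := by
    refine lt_of_lt_of_le (lt_of_le_of_ne hA'H fun e => ?_) hHK
    rw [e, Subgroup.relIndex_self] at hh
    omega
  refine hAbad (coherent_bound hsolv hS hF A' A H A' hA'K hAA'.le hA'H hHK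
    (fun x hx y hy => hcomm (Subgroup.commutator_mem_commutator hx hy)) hg ?_)
  rw [← Subgroup.relIndex_mul_relIndex A' H K hA'H hHK,
    show H.index = K.index * H.relIndex K by rw [mul_comm, Subgroup.relIndex_mul_index hHK]]
  exact bound_arith _ _ _ (Nat.one_le_iff_ne_zero.2 Subgroup.index_ne_zero_of_finite) hh

/-- From `IsExt` on `S(B)` to `Cfsg.IsCoherent`. -/
theorem isCoherent_above (hsolv : Group.IsSolvable K) (hS : Sys F T R)
    (hF : (↑F : Set (L → ℂ)) = inducedIrrAbove K ⊥) {τ : (L → ℂ) → (G → ℂ)}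
    (hτ : ∀ α ∈ zspanOn (↑F : Set (L → ℂ)) {1}ᶜ, T α = τ α) (B : Subgroup L) [B.Normal] (hBK : B < K)
    {g : (L → ℂ) → (G → ℂ)} (hg : IsExt (above K F B) T g) :
    IsCoherent (inducedIrrAbove K B) {1}ᶜ τ := by
  obtain ⟨χ, hχ, -⟩ := exists_linear_mem K hsolv B hBK
  rw [← mem_above hF] at hχ
  rw [← coe_above hF B]
  exact hg.isCoherent (hS.deg.subset (above_subset B))
    (fun a ha => hτ a (zspanOn_mono (Finset.coe_subset.2 (above_subset B)) _ ha))
    ((hS.deg.subset (above_subset B)).exists_ne_zero hχ (above_conj hF χ hχ)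
      (hS.conj_ne χ (above_subset B hχ)).symm)

/-- Extraction of `IsExt` from a coherence hypothesis on `S(A)`. -/
theorem isExt_above (hS : Sys F T R) (hF : (↑F : Set (L → ℂ)) = inducedIrrAbove K ⊥)
    {τ : (L → ℂ) → (G → ℂ)} (hτ : ∀ α ∈ zspanOn (↑F : Set (L → ℂ)) {1}ᶜ, T α = τ α) (A : Subgroup L)
    (h : IsCoherent (inducedIrrAbove K A) {1}ᶜ τ) : ∃ g, IsExt (above K F A) T g := by
  rw [← coe_above hF A] at h
  obtain ⟨-, τ₁, h₁, h₂⟩ := h
  exact ⟨τ₁, isExt_of_isCoherent (hS.deg.subset (above_subset A))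
    (fun a ha => hτ a (zspanOn_mono (Finset.coe_subset.2 (above_subset A)) _ ha)) h₁ h₂⟩

end CfsgLib.Coherence
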