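import Cfsg.Agent.Coherence.Virtual

/-!
# Coherent extensions

A coherence problem is turned into linear algebra: the map `τ` on the degree-zero lattice becomes a
complex linear map `T`, and a coherent extension becomes a function `f` on the finite set `S`
(`IsExt`).  `IsExt.extend` is the general extension step: a pivot `χ₁` in the coherent part and one
scalar condition for each new character.
-/

set_option autoImplicit false
set_option linter.unusedSectionVars false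

namespace CfsgLib.Coherence

open Cfsg ComplexConjugate

universe u v

variable {L : Type u} [Group L] [Fintype L] {G : Type v} [Group G] [Fintype G]

/-- An orthogonal set of functions with positive integral degrees. -/
def DegSet (S : Finset (L → ℂ)) : Prop :=
  IsOrthSet S ∧ ∀ χ ∈ S, ∃ n : ℕ, 0 < n ∧ χ 1 = n

theorem DegSet.subset {S T : Finset (L → ℂ)} (h : DegSet T) (hST : S ⊆ T) : DegSet S :=
  ⟨h.1.subset hST, fun χ hχ => h.2 χ (hST hχ)⟩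

theorem DegSet.one_ne_zero {S : Finset (L → ℂ)} (h : DegSet S) {χ : L → ℂ} (hχ : χ ∈ S) :
    χ 1 ≠ 0 := by
  obtain ⟨n, hn, h1⟩ := h.2 χ hχ
  rw [h1]; exact Nat.cast_ne_zero.2 hn.ne'

theorem DegSet.conj_one {S : Finset (L → ℂ)} (h : DegSet S) {χ : L → ℂ} (hχ : χ ∈ S) :
    conj (χ 1) = χ 1 := by
  obtain ⟨n, -, h1⟩ := h.2 χ hχ
  rw [h1, Complex.conj_natCast]

/-- The elementary combination of `χ` and `φ` vanishing at `1`. -/
def edge (χ φ : L → ℂ) : L → ℂ := φ 1 • χ - χ 1 • φ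

theorem mem_zspan_iff {S : Finset (L → ℂ)} {α : L → ℂ} :
    α ∈ zspan (↑S : Set (L → ℂ)) ↔ ∃ c : (L → ℂ) → ℤ, α = ∑ χ ∈ S, (c χ : ℂ) • χ := by
  constructor
  · intro h
    obtain ⟨c, -, hc⟩ := Submodule.mem_span_finset.1 (show α ∈ Submodule.span ℤ (↑S : Set (L → ℂ)) from h)
    exact ⟨c, by rw [← hc]; exact Finset.sum_congr rfl fun χ _ => (Int.cast_smul_eq_zsmul ℂ _ _).symm⟩
  · rintro ⟨c, rfl⟩
    exact Submodule.sum_mem _ fun χ hχ => by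
      rw [Int.cast_smul_eq_zsmul]
      exact Submodule.smul_mem _ _ (Submodule.subset_span hχ)

theorem mem_zspan_of_mem {S : Set (L → ℂ)} {χ : L → ℂ} (h : χ ∈ S) : χ ∈ zspan S :=
  Submodule.subset_span h

theorem natCast_smul_mem_zspan {S : Set (L → ℂ)} {χ : L → ℂ} (h : χ ∈ S) (n : ℕ) :
    (n : ℂ) • χ ∈ zspan S := by
  rw [Nat.cast_smul_eq_nsmul]
  exact Submodule.smul_of_tower_mem _ n (Submodule.subset_span h)

theorem mem_zspanOn_one {S : Set (L → ℂ)} {α : L → ℂ} :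
    α ∈ zspanOn S {1}ᶜ ↔ α ∈ zspan S ∧ α 1 = 0 := by
  simp [zspanOn]

theorem edge_mem {S : Set (L → ℂ)} {χ φ : L → ℂ} (hχ : χ ∈ S) (hφ : φ ∈ S) {m n : ℕ}
    (hm : χ 1 = m) (hn : φ 1 = n) : edge χ φ ∈ zspanOn S {1}ᶜ := by
  refine mem_zspanOn_one.2 ⟨?_, by simp [edge]; ring⟩
  rw [edge, hm, hn]
  exact Submodule.sub_mem _ (natCast_smul_mem_zspan hχ n) (natCast_smul_mem_zspan hφ m)

theorem DegSet.edge_mem {S : Finset (L → ℂ)} (hS : DegSet S) {χ φ : L → ℂ} (hχ : χ ∈ S)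
    (hφ : φ ∈ S) : edge χ φ ∈ zspanOn (↑S : Set (L → ℂ)) {1}ᶜ := by
  obtain ⟨m, -, hm⟩ := hS.2 χ hχ
  obtain ⟨n, -, hn⟩ := hS.2 φ hφ
  exact CfsgLib.Coherence.edge_mem hχ hφ hm hn

theorem edge_expansion {S : Finset (L → ℂ)} {c : (L → ℂ) → ℂ} (φ : L → ℂ)
    (h : ∑ χ ∈ S, c χ * χ 1 = 0) :
    φ 1 • (∑ χ ∈ S, c χ • χ) = ∑ χ ∈ S, c χ • edge χ φ := by
  simp only [edge, smul_sub, Finset.sum_sub_distrib, smul_smul, ← Finset.sum_smul, h, zero_smul,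
    sub_zero, Finset.smul_sum]
  exact Finset.sum_congr rfl fun χ _ => by rw [mul_comm]

theorem sum_coef_smul {S : Finset (L → ℂ)} (hS : IsOrthSet S) (c : (L → ℂ) → ℂ)
    (F : (L → ℂ) → (G → ℂ)) :
    ∑ χ ∈ S, coef χ (∑ φ ∈ S, c φ • φ) • F χ = ∑ χ ∈ S, c χ • F χ :=
  Finset.sum_congr rfl fun χ hχ => by rw [coef_sum hS c hχ]

/-- `T` is an isometry of the degree-zero lattice of `S` into virtual characters vanishing at one. -/
structure Isom (S : Set (L → ℂ)) (T : (L → ℂ) →ₗ[ℂ] (G → ℂ)) : Prop where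
  gen : ∀ α ∈ zspanOn S {1}ᶜ, IsGeneralizedCharacter G (T α)
  inner : ∀ α ∈ zspanOn S {1}ᶜ, ∀ β ∈ zspanOn S {1}ᶜ, classInner (T α) (T β) = classInner α β
  one : ∀ α ∈ zspanOn S {1}ᶜ, T α 1 = 0

theorem zspanOn_mono {S S' : Set (L → ℂ)} (h : S ⊆ S') (A : Set L) : zspanOn S A ⊆ zspanOn S' A :=
  fun _ hα => ⟨Submodule.span_mono h hα.1, hα.2⟩

theorem Isom.mono {S S' : Set (L → ℂ)} {T : (L → ℂ) →ₗ[ℂ] (G → ℂ)} (h : Isom S' T) (hS : S ⊆ S') :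
    Isom S T :=
  ⟨fun α ha => h.gen α (zspanOn_mono hS _ ha),
    fun α ha β hb => h.inner α (zspanOn_mono hS _ ha) β (zspanOn_mono hS _ hb),
    fun α ha => h.one α (zspanOn_mono hS _ ha)⟩

/-- An additive map on the degree-zero lattice is the restriction of a complex linear map. -/
theorem exists_linear {S : Finset (L → ℂ)} (hS : DegSet S) {τ : (L → ℂ) → (G → ℂ)}
    (hadd : ∀ α ∈ zspanOn (↑S : Set (L → ℂ)) {1}ᶜ, ∀ β ∈ zspanOn (↑S : Set (L → ℂ)) {1}ᶜ,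
      τ (α + β) = τ α + τ β)
    (hz : ∀ α ∈ zspanOn (↑S : Set (L → ℂ)) {1}ᶜ, ∀ n : ℤ, τ (n • α) = n • τ α) :
    ∃ T : (L → ℂ) →ₗ[ℂ] (G → ℂ), ∀ α ∈ zspanOn (↑S : Set (L → ℂ)) {1}ᶜ, T α = τ α := by
  classical
  let E : Submodule ℤ (L → ℂ) :=
    { carrier := zspanOn (↑S : Set (L → ℂ)) {1}ᶜ
      add_mem' := fun {a b} ha hb =>
        ⟨Submodule.add_mem _ ha.1 hb.1, fun x hx => by simp [ha.2 x hx, hb.2 x hx]⟩
      zero_mem' := ⟨Submodule.zero_mem _, fun x _ => rfl⟩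
      smul_mem' := fun n a ha => ⟨Submodule.smul_mem _ n ha.1, fun x hx => by simp [ha.2 x hx]⟩ }
  let t : E →ₗ[ℤ] (G → ℂ) :=
    { toFun := fun a => τ a.1
      map_add' := fun a b => hadd a.1 a.2 b.1 b.2
      map_smul' := fun n a => hz a.1 a.2 n }
  by_cases hne : S.Nonempty
  · obtain ⟨φ, hφ⟩ := hne
    refine ⟨∑ χ ∈ S,
      { toFun := fun α => coef χ α • ((φ 1)⁻¹ • τ (edge χ φ))
        map_add' := fun a b => by
          rw [← add_smul, coef, coef, coef, ← add_div, ci_add_left]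
        map_smul' := fun r a => by
          rw [RingHom.id_apply, smul_smul r, coef, coef, ci_smul_left, mul_div_assoc] }, ?_⟩
    intro α hα
    obtain ⟨c, hc⟩ := mem_zspan_iff.1 hα.1
    have hsum : ∑ χ ∈ S, (c χ : ℂ) * χ 1 = 0 := by
      have h := (mem_zspanOn_one.1 hα).2
      rw [hc] at h
      simpa using h
    obtain ⟨n, -, hn1⟩ := hS.2 φ hφ
    have hmem : ∀ χ ∈ S, edge χ φ ∈ E := fun χ hχ => hS.edge_mem hχ hφ
    have key : (n : ℤ) • τ α = ∑ χ ∈ S, (c χ : ℤ) • τ (edge χ φ) := by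
      have h1 : (n : ℤ) • (⟨α, hα⟩ : E) = ∑ χ ∈ S.attach, (c χ.1) • (⟨edge χ.1 φ, hmem χ.1 χ.2⟩ : E) := by
        apply Subtype.ext
        rw [Submodule.coe_sum, SetLike.val_smul]
        simp only [SetLike.val_smul]
        rw [Finset.sum_attach S (fun χ => c χ • edge χ φ)]
        simp only [← Int.cast_smul_eq_zsmul ℂ]
        rw [← edge_expansion φ hsum, ← hc, hn1, Int.cast_natCast]
      have h2 := congrArg t h1
      rw [map_smul, map_sum] at h2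
      simp only [map_smul] at h2
      rw [← Finset.sum_attach S (fun χ => c χ • τ (edge χ φ))]
      exact h2
    rw [LinearMap.sum_apply]
    show ∑ χ ∈ S, coef χ α • ((φ 1)⁻¹ • τ (edge χ φ)) = τ α
    have h3 : (φ 1) • τ α = ∑ χ ∈ S, (c χ : ℂ) • τ (edge χ φ) := by
      simp only [← Int.cast_smul_eq_zsmul ℂ] at key
      rw [hn1]; exact_mod_cast key
    rw [← inv_smul_smul₀ (hS.one_ne_zero hφ) (τ α), h3, Finset.smul_sum]
    refine Finset.sum_congr rfl fun χ hχ => ?_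
    rw [hc, coef_sum hS.1 _ hχ, smul_comm]
  · refine ⟨0, fun α hα => ?_⟩
    obtain ⟨c, hc⟩ := mem_zspan_iff.1 hα.1
    rw [Finset.not_nonempty_iff_eq_empty.1 hne, Finset.sum_empty] at hc
    subst hc
    have := hz 0 hα 0
    simp only [zero_smul] at this
    simp [this]

theorem exists_isom {S : Finset (L → ℂ)} (hS : DegSet S) {τ : (L → ℂ) → (G → ℂ)}
    (hτ : IsLinearIsometryOn (zspanOn (↑S : Set (L → ℂ)) {1}ᶜ) τ)
    (h1 : ∀ α ∈ zspanOn (↑S : Set (L → ℂ)) {1}ᶜ, τ α 1 = 0) :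
    ∃ T : (L → ℂ) →ₗ[ℂ] (G → ℂ), Isom (↑S : Set (L → ℂ)) T ∧
      ∀ α ∈ zspanOn (↑S : Set (L → ℂ)) {1}ᶜ, T α = τ α := by
  obtain ⟨T, hT⟩ := exists_linear hS hτ.1 hτ.2.1
  refine ⟨T, ⟨fun α ha => ?_, fun α ha β hb => ?_, fun α ha => ?_⟩, hT⟩
  · rw [hT α ha]; exact hτ.2.2.2 α ha
  · rw [hT α ha, hT β hb]; exact hτ.2.2.1 α ha β hb
  · rw [hT α ha]; exact h1 α ha

/-- `f` extends `T` coherently on `S`. -/
structure IsExt (S : Finset (L → ℂ)) (T : (L → ℂ) →ₗ[ℂ] (G → ℂ)) (f : (L → ℂ) → (G → ℂ)) : Prop where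
  gen : ∀ χ ∈ S, IsGeneralizedCharacter G (f χ)
  inner : ∀ χ ∈ S, ∀ φ ∈ S, classInner (f χ) (f φ) = classInner χ φ
  agree : ∀ χ ∈ S, ∀ φ ∈ S, φ 1 • f χ - χ 1 • f φ = T (edge χ φ)

theorem IsExt.mono {S S' : Finset (L → ℂ)} {T : (L → ℂ) →ₗ[ℂ] (G → ℂ)} {f : (L → ℂ) → (G → ℂ)}
    (h : IsExt S' T f) (hS : S ⊆ S') : IsExt S T f :=
  ⟨fun χ hχ => h.gen χ (hS hχ), fun χ hχ φ hφ => h.inner χ (hS hχ) φ (hS hφ),
    fun χ hχ φ hφ => h.agree χ (hS hχ) φ (hS hφ)⟩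

/-- Agreement with one fixed `φ` gives agreement everywhere. -/
theorem agree_of_pivot {S : Finset (L → ℂ)} {T : (L → ℂ) →ₗ[ℂ] (G → ℂ)} {f : (L → ℂ) → (G → ℂ)}
    {φ : L → ℂ} (hφ : φ 1 ≠ 0) (h : ∀ χ ∈ S, φ 1 • f χ - χ 1 • f φ = T (edge χ φ)) :
    ∀ χ ∈ S, ∀ ψ ∈ S, ψ 1 • f χ - χ 1 • f ψ = T (edge χ ψ) := by
  intro χ hχ ψ hψ
  apply smul_right_injective (G → ℂ) hφ
  simp only
  have e : φ 1 • edge χ ψ = ψ 1 • edge χ φ - χ 1 • edge ψ φ := by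
    simp only [edge, smul_sub, smul_smul]; module
  rw [← map_smul, e, map_sub, map_smul, map_smul, ← h χ hχ, ← h ψ hψ]
  simp only [smul_sub, smul_smul]; module

theorem IsExt.apply {S : Finset (L → ℂ)} (hS : DegSet S) {T : (L → ℂ) →ₗ[ℂ] (G → ℂ)}
    {f : (L → ℂ) → (G → ℂ)} (hf : IsExt S T f) {c : (L → ℂ) → ℂ} (h : ∑ χ ∈ S, c χ * χ 1 = 0) :
    T (∑ χ ∈ S, c χ • χ) = ∑ χ ∈ S, c χ • f χ := by
  by_cases hne : S.Nonempty
  · obtain ⟨φ, hφ⟩ := hne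
    apply smul_right_injective (G → ℂ) (hS.one_ne_zero hφ)
    simp only
    rw [← map_smul, edge_expansion φ h, map_sum,
      Finset.sum_congr rfl (fun χ hχ => by rw [map_smul, ← hf.agree χ hχ φ hφ])]
    simp only [smul_sub, Finset.sum_sub_distrib, smul_smul, ← Finset.sum_smul, h, zero_smul,
      sub_zero, Finset.smul_sum]
    exact Finset.sum_congr rfl fun χ _ => by rw [mul_comm]
  · simp [Finset.not_nonempty_iff_eq_empty.1 hne]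

theorem IsExt.inner_sum {S : Finset (L → ℂ)} {T : (L → ℂ) →ₗ[ℂ] (G → ℂ)}
    {f : (L → ℂ) → (G → ℂ)} (hf : IsExt S T f) (c d : (L → ℂ) → ℂ) :
    classInner (∑ χ ∈ S, c χ • f χ) (∑ χ ∈ S, d χ • f χ) =
      classInner (∑ χ ∈ S, c χ • χ) (∑ χ ∈ S, d χ • χ) := by
  simp only [ci_sum_left, ci_sum_right, ci_smul_left, ci_smul_right]
  refine Finset.sum_congr rfl fun χ hχ => ?_
  congr 1
  refine Finset.sum_congr rfl fun φ hφ => ?_
  rw [hf.inner φ hφ χ hχ]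

theorem exists_ne_zero_of_two {S : Finset (L → ℂ)} {χ φ : L → ℂ} (hχ : χ ∈ S) (hφ : φ ∈ S)
    (hne : edge χ φ ≠ 0) {m n : ℕ} (hm : χ 1 = m) (hn : φ 1 = n) :
    ∃ α ∈ zspanOn (↑S : Set (L → ℂ)) {1}ᶜ, α ≠ 0 :=
  ⟨edge χ φ, edge_mem hχ hφ hm hn, hne⟩

theorem DegSet.edge_ne_zero {S : Finset (L → ℂ)} (hS : DegSet S) {χ φ : L → ℂ} (hχ : χ ∈ S)
    (hφ : φ ∈ S) (hne : χ ≠ φ) : edge χ φ ≠ 0 := by
  intro h
  have h1 : classInner (edge χ φ) χ = 0 := by rw [h, ci_zero_left]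
  rw [edge, ci_sub_left, ci_smul_left, ci_smul_left, hS.1.2 φ hφ χ hχ hne.symm,
    mul_zero, sub_zero, mul_eq_zero] at h1
  exact h1.elim (hS.one_ne_zero hφ) (ci_self_ne_zero (hS.1.1 χ hχ))

theorem DegSet.exists_ne_zero {S : Finset (L → ℂ)} (hS : DegSet S) {χ φ : L → ℂ} (hχ : χ ∈ S)
    (hφ : φ ∈ S) (hne : χ ≠ φ) : ∃ α ∈ zspanOn (↑S : Set (L → ℂ)) {1}ᶜ, α ≠ 0 :=
  ⟨_, hS.edge_mem hχ hφ, hS.edge_ne_zero hχ hφ hne⟩

/-- A coherent extension in the sense of `IsExt` gives `Cfsg.IsCoherent`. -/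
theorem IsExt.isCoherent {S : Finset (L → ℂ)} (hS : DegSet S) {T : (L → ℂ) →ₗ[ℂ] (G → ℂ)}
    {f : (L → ℂ) → (G → ℂ)} (hf : IsExt S T f) {τ : (L → ℂ) → (G → ℂ)}
    (hτ : ∀ α ∈ zspanOn (↑S : Set (L → ℂ)) {1}ᶜ, T α = τ α)
    (hne : ∃ α ∈ zspanOn (↑S : Set (L → ℂ)) {1}ᶜ, α ≠ 0) :
    IsCoherent (↑S : Set (L → ℂ)) {1}ᶜ τ := by
  refine ⟨hne, fun α => ∑ χ ∈ S, coef χ α • f χ, ⟨?_, ?_, ?_, ?_⟩, ?_⟩
  · intro a _ b _
    simp only [← Finset.sum_add_distrib, ← add_smul, coef, ci_add_left, add_div]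
  · intro a _ n
    simp only [← Int.cast_smul_eq_zsmul ℂ, Finset.smul_sum, smul_smul, coef, ci_smul_left,
      mul_div_assoc]
  · intro a ha b hb
    obtain ⟨c, rfl⟩ := mem_zspan_iff.1 ha
    obtain ⟨d, rfl⟩ := mem_zspan_iff.1 hb
    dsimp only
    rw [sum_coef_smul hS.1, sum_coef_smul hS.1]
    exact hf.inner_sum _ _
  · intro a ha
    obtain ⟨c, rfl⟩ := mem_zspan_iff.1 ha
    dsimp only
    rw [sum_coef_smul hS.1]
    exact isGen_sum _ _ fun χ hχ => isGen_intCast_smul (hf.gen χ hχ) _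
  · intro a ha
    obtain ⟨c, hc⟩ := mem_zspan_iff.1 ha.1
    rw [← hτ a ha]
    subst hc
    dsimp only
    rw [sum_coef_smul hS.1]
    refine (hf.apply hS ?_).symm
    simpa using (mem_zspanOn_one.1 ha).2

/-- `Cfsg.IsCoherent` gives a coherent extension in the sense of `IsExt`. -/
theorem isExt_of_isCoherent {S : Finset (L → ℂ)} (hS : DegSet S) {T : (L → ℂ) →ₗ[ℂ] (G → ℂ)}
    {τ τ₁ : (L → ℂ) → (G → ℂ)}
    (hτ : ∀ α ∈ zspanOn (↑S : Set (L → ℂ)) {1}ᶜ, T α = τ α)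
    (h₁ : IsLinearIsometryOn (zspan (↑S : Set (L → ℂ))) τ₁)
    (h₂ : ∀ α ∈ zspanOn (↑S : Set (L → ℂ)) {1}ᶜ, τ₁ α = τ α) : IsExt S T τ₁ := by
  refine ⟨fun χ hχ => h₁.2.2.2 χ (mem_zspan_of_mem hχ),
    fun χ hχ φ hφ => h₁.2.2.1 χ (mem_zspan_of_mem hχ) φ (mem_zspan_of_mem hφ), fun χ hχ φ hφ => ?_⟩
  have hmem := hS.edge_mem hχ hφ
  rw [hτ _ hmem, ← h₂ _ hmem]
  obtain ⟨m, -, hm⟩ := hS.2 χ hχ
  obtain ⟨n, -, hn⟩ := hS.2 φ hφ
  have hz : ∀ (k : ℕ) (a : L → ℂ), a ∈ S → τ₁ ((k : ℤ) • a) = (k : ℤ) • τ₁ a := fun k a ha =>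
    h₁.2.1 a (mem_zspan_of_mem ha) _
  have e : edge χ φ = (n : ℤ) • χ + (-(m : ℤ)) • φ := by
    rw [edge, hm, hn]; simp [← Int.cast_smul_eq_zsmul ℂ, sub_eq_add_neg, Nat.cast_smul_eq_nsmul]
  rw [e, h₁.1 _ (Submodule.smul_mem _ _ (mem_zspan_of_mem hχ)) _
    (Submodule.smul_mem _ _ (mem_zspan_of_mem hφ)), h₁.2.1 _ (mem_zspan_of_mem hχ),
    h₁.2.1 _ (mem_zspan_of_mem hφ), hm, hn]
  simp [← Int.cast_smul_eq_zsmul ℂ, sub_eq_add_neg, Nat.cast_smul_eq_nsmul]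

/-- The extension step. -/
theorem IsExt.extend {S₁ S : Finset (L → ℂ)} (hS : DegSet S) (hsub : S₁ ⊆ S)
    {T : (L → ℂ) →ₗ[ℂ] (G → ℂ)} (hT : Isom (↑S : Set (L → ℂ)) T)
    {f : (L → ℂ) → (G → ℂ)} (hf : IsExt S₁ T f) {χ₁ : L → ℂ} (hχ₁ : χ₁ ∈ S₁)
    (d : (L → ℂ) → ℕ) (hd : ∀ χ ∈ S, χ ∉ S₁ → χ 1 = (d χ : ℂ) * χ₁ 1)
    (hinner : ∀ χ ∈ S, χ ∉ S₁ → classInner (f χ₁) (T (χ - (d χ : ℂ) • χ₁))
      = classInner χ₁ (χ - (d χ : ℂ) • χ₁)) :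
    ∃ g, IsExt S T g ∧ ∀ χ ∈ S₁, g χ = f χ := by
  classical
  set g : (L → ℂ) → (G → ℂ) := fun χ =>
    if χ ∈ S₁ then f χ else T (χ - (d χ : ℂ) • χ₁) + (d χ : ℂ) • f χ₁ with hg
  have h11 : χ₁ 1 ≠ 0 := hS.one_ne_zero (hsub hχ₁)
  have hb : ∀ χ ∈ S, χ ∉ S₁ → χ - (d χ : ℂ) • χ₁ ∈ zspanOn (↑S : Set (L → ℂ)) {1}ᶜ := fun χ hχ hn =>
    mem_zspanOn_one.2 ⟨Submodule.sub_mem _ (mem_zspan_of_mem hχ)
      (natCast_smul_mem_zspan (hsub hχ₁) _), by simp [hd χ hχ hn]⟩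
  -- inner product of an old value with a new difference
  have hold : ∀ φ ∈ S₁, ∀ χ ∈ S, χ ∉ S₁ → classInner (f φ) (T (χ - (d χ : ℂ) • χ₁))
      = classInner φ (χ - (d χ : ℂ) • χ₁) := by
    intro φ hφ χ hχ hn
    have h1 := hT.inner _ (zspanOn_mono (Finset.coe_subset.2 hsub) _ ((hS.subset hsub).edge_mem hφ hχ₁))
      _ (hb χ hχ hn)
    rw [← hf.agree φ hφ χ₁ hχ₁, edge, ci_sub_left, ci_sub_left, ci_smul_left,
      ci_smul_left, ci_smul_left, ci_smul_left, hinner χ hχ hn] at h1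
    exact mul_left_cancel₀ h11 (by linear_combination h1)
  refine ⟨g, ⟨?_, ?_, ?_⟩, fun χ hχ => by simp [hg, hχ]⟩
  · intro χ hχ
    simp only [hg]
    split_ifs with h
    · exact hf.gen χ h
    · exact isGen_add (hT.gen _ (hb χ hχ h)) (isGen_natCast_smul (hf.gen χ₁ hχ₁) _)
  · have hmix : ∀ φ ∈ S₁, ∀ χ ∈ S, χ ∉ S₁ → classInner (g φ) (g χ) = classInner φ χ := by
      intro φ hφ χ hχ hn
      simp only [hg, if_pos hφ, if_neg hn]
      rw [ci_add_right, hold φ hφ χ hχ hn, ci_smul_right, hf.inner φ hφ χ₁ hχ₁,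
        ci_sub_right, ci_smul_right]
      ring
    intro χ hχ φ hφ
    by_cases h1 : χ ∈ S₁
    · by_cases h2 : φ ∈ S₁
      · simp only [hg, if_pos h1, if_pos h2]; exact hf.inner χ h1 φ h2
      · exact hmix χ h1 φ hφ h2
    · by_cases h2 : φ ∈ S₁
      · rw [← ci_conj (g φ) (g χ), hmix φ h2 χ hχ h1, ci_conj]
      · simp only [hg, if_neg h1, if_neg h2]
        have e1 : classInner (T (χ - (d χ : ℂ) • χ₁)) (f χ₁)
            = classInner (χ - (d χ : ℂ) • χ₁) χ₁ := by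
          rw [← ci_conj (f χ₁), hinner χ hχ h1, ci_conj]
        rw [ci_add_left, ci_add_right, ci_add_right, ci_smul_left, ci_smul_left,
          ci_smul_right, ci_smul_right, hT.inner _ (hb χ hχ h1) _ (hb φ hφ h2), e1,
          hinner φ hφ h2, hf.inner χ₁ hχ₁ χ₁ hχ₁]
        simp only [ci_sub_left, ci_sub_right, ci_smul_left, ci_smul_right]
        ring
  · refine agree_of_pivot h11 fun χ hχ => ?_
    by_cases h : χ ∈ S₁
    · simp only [hg, if_pos h, if_pos hχ₁]; exact hf.agree χ h χ₁ hχ₁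
    · simp only [hg, if_neg h, if_pos hχ₁]
      have e : edge χ χ₁ = χ₁ 1 • (χ - (d χ : ℂ) • χ₁) := by
        rw [edge, hd χ hχ h, smul_sub, smul_smul, mul_comm]
      rw [e, map_smul, hd χ hχ h]
      simp only [smul_add, smul_smul]
      module

/-- A one-element set is coherent for any element of the right norm. -/
theorem isExt_singleton {χ : L → ℂ} {T : (L → ℂ) →ₗ[ℂ] (G → ℂ)} {X : G → ℂ}
    (hX : IsGeneralizedCharacter G X) (hn : classInner X X = classInner χ χ) :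
    IsExt {χ} T (fun _ => X) := by
  refine ⟨fun _ _ => hX, fun a ha b hb => ?_, fun a ha b hb => ?_⟩
  · rw [Finset.mem_singleton] at ha hb; subst ha; subst hb; exact hn
  · rw [Finset.mem_singleton] at ha hb; subst ha; subst hb
    simp [edge]

/-- Coherence from a single pivot value `X`. -/
theorem isExt_of_pivot {S : Finset (L → ℂ)} (hS : DegSet S) {T : (L → ℂ) →ₗ[ℂ] (G → ℂ)}
    (hT : Isom (↑S : Set (L → ℂ)) T) {χ₁ : L → ℂ} (hχ₁ : χ₁ ∈ S) {X : G → ℂ}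
    (hX : IsGeneralizedCharacter G X) (hn : classInner X X = classInner χ₁ χ₁)
    (d : (L → ℂ) → ℕ) (hd : ∀ χ ∈ S, χ ≠ χ₁ → χ 1 = (d χ : ℂ) * χ₁ 1)
    (hinner : ∀ χ ∈ S, χ ≠ χ₁ → classInner X (T (χ - (d χ : ℂ) • χ₁))
      = classInner χ₁ (χ - (d χ : ℂ) • χ₁)) :
    ∃ g, IsExt S T g ∧ g χ₁ = X := by
  obtain ⟨g, hg, hval⟩ := (isExt_singleton (T := T) hX hn).extend hS
    (Finset.singleton_subset_iff.2 hχ₁) hT (Finset.mem_singleton_self χ₁) d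
    (fun χ hχ hne => hd χ hχ (by simpa using hne))
    (fun χ hχ hne => hinner χ hχ (by simpa using hne))
  exact ⟨g, hg, hval χ₁ (Finset.mem_singleton_self χ₁)⟩

end CfsgLib.Coherence
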