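import Cfsg.Agent.Coherence.IrrAbove
import Cfsg.Agent.OddOrderChar.FixedChars
import Cfsg.Agent.CharactersDeep.FrobeniusTI
import Cfsg.Agent.Characters.FixedPoints
import Cfsg.Agent.Solvable.Nilpotent

/-!
# The set `S` of a Frobenius group with a given kernel

`hfix` says that the centraliser of a non-identity element of `K` lies in `K`.
-/

set_option autoImplicit false
set_option linter.unusedSectionVars false

namespace CfsgLib.Coherence

open Cfsg CfsgLib.Characters CfsgLib.OddOrderChar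

universe u

variable {L : Type u} [Group L] [Fintype L] {K : Subgroup L} [hKn : K.Normal]

noncomputable local instance fintypeSubgroupFrobenius (H : Subgroup L) : Fintype H := Fintype.ofFinite H

variable (hfix : ∀ k ∈ K, k ≠ 1 → Subgroup.centralizer ({k} : Set L) ≤ K)
include hfix

theorem frob_coprime : Nat.Coprime (Nat.card K) K.index := by
  have h := CfsgLib.CharactersDeep.FrobeniusTI.coprime_card_index K hfix
  have htop : Subgroup.normalizer (K : Set L) = ⊤ := Subgroup.normalizer_eq_top K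
  rwa [← Subgroup.relIndex, htop, Subgroup.relIndex_top_right] at h

theorem frob_notMem_pow {g : L} (hg : g ∉ K) : g ^ Nat.card K ∉ K := by
  intro h
  apply hg
  have h2 : g ^ K.index ∈ K := Subgroup.pow_index_mem K g
  obtain ⟨a, b, hab⟩ := (Int.isCoprime_iff_nat_coprime (a := (Nat.card K : ℤ)) (b := (K.index : ℤ))).2
    (by simpa using frob_coprime hfix)
  have e : g = (g ^ Nat.card K) ^ a * (g ^ K.index) ^ b := by
    rw [← zpow_natCast g (Nat.card K), ← zpow_natCast g K.index, ← zpow_mul, ← zpow_mul, ← zpow_add,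
      mul_comm (Nat.card K : ℤ) a, mul_comm (K.index : ℤ) b, hab, zpow_one]
  rw [e]
  exact mul_mem (zpow_mem h a) (zpow_mem h2 b)

/-- A non-principal irreducible character of the kernel induces irreducibly. -/
theorem frob_ind_irr {θ : K → ℂ} (hθ : IsIrrCharacter K θ) (hθ1 : θ ≠ fun _ => 1) :
    IsIrrCharacter L (indFun K θ) := by
  classical
  refine isIrr_of_classInner_self (OddOrderChar.isCharacter_indFun K (isCharacter_of_isIrr hθ)) ?_
  rw [ci_ind_self K hθ]
  have hset : ∀ g : L, conjBy K θ g = θ ↔ g ∈ K := by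
    refine fun g => ⟨fun hg => ?_, fun hg => funext fun k => ?_⟩
    · by_contra hgK
      set y := g ^ Nat.card K with hy
      have hyK : y ∉ K := frob_notMem_pow hfix hgK
      have hyθ : conjBy K θ y = θ := by
        rw [hy]
        clear_value y
        generalize Nat.card K = n
        induction n with
        | zero => rw [pow_zero, conjBy_one]
        | succ n ih => rw [pow_succ, ← conjBy_mul, ih, hg]
      have hord : orderOf y ∣ K.index := orderOf_dvd_of_pow_eq_one (by
        rw [hy, ← pow_mul, mul_comm, K.index_mul_card, pow_card_eq_one'])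
      have hcop : Nat.Coprime (orderOf y) (Nat.card K) :=
        Nat.Coprime.coprime_dvd_left hord (frob_coprime hfix).symm
      have hC : K ⊓ Subgroup.centralizer ({y} : Set L) = ⊥ := by
        rw [Subgroup.eq_bot_iff_forall]
        rintro k ⟨hk, hky⟩
        by_contra hk1
        exact hyK (hfix k hk hk1 (Subgroup.mem_centralizer_singleton_iff.2
          (Subgroup.mem_centralizer_singleton_iff.1 hky).symm))
      have h1 := OddOrderChar.card_fixed_irr K ⊥ y inferInstance hcop hC
      rw [Subgroup.card_bot] at h1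
      have := (Nat.card_eq_one_iff_unique.1 h1).1
      exact hθ1 (congrArg (fun θ : {θ : IrrCharacter K // conjBy K (θ : K → ℂ) y = θ} =>
        ((θ.1 : IrrCharacter K) : K → ℂ))
        (Subsingleton.elim ⟨⟨θ, hθ⟩, hyθ⟩ ⟨⟨_, isIrr_one⟩, conjBy_principal K y⟩))
    · exact isClassFunction_of_isIrr hθ k ⟨g, hg⟩
  have hK : (Nat.card K : ℂ) ≠ 0 := natCard_ne_zero
  rw [div_eq_one_iff_eq hK, Nat.cast_inj, stabCard]
  exact Nat.card_congr (Equiv.subtypeEquivRight hset)

theorem frob_irr {A : Subgroup L} : ∀ χ ∈ inducedIrrAbove K A, IsIrrCharacter L χ := by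
  rintro χ ⟨θ, hθ, hθ1, -, rfl⟩
  exact frob_ind_irr hfix hθ hθ1

/-- The action on every quotient of the kernel is fixed-point-free. -/
theorem frob_quot (N : Subgroup L) [hN : N.Normal] :
    ∀ k ∈ K, k ∉ N → ∀ x : L, x * k * x⁻¹ * k⁻¹ ∈ N → x ∈ K := by
  intro k hk hkN x hx
  by_contra hxK
  apply hkN
  have hmem : ∀ a ∈ K ⊓ N, a⁻¹ * (x * a * x⁻¹) ∈ K ⊓ N := fun a ha =>
    mul_mem (inv_mem ha) (⟨hKn.conj_mem a ha.1 x, hN.conj_mem a ha.2 x⟩)
  have hinj : ∀ a ∈ K, ∀ b ∈ K, a⁻¹ * (x * a * x⁻¹) = b⁻¹ * (x * b * x⁻¹) → a = b := by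
    intro a ha b hb he
    by_contra hne
    refine hxK (hfix (b * a⁻¹) (mul_mem hb (inv_mem ha))
      (fun h => hne (mul_inv_eq_one.1 h).symm) (Subgroup.mem_centralizer_singleton_iff.2 ?_))
    calc x * (b * a⁻¹) = b * (b⁻¹ * (x * b * x⁻¹)) * x * a⁻¹ := by group
      _ = b * (a⁻¹ * (x * a * x⁻¹)) * x * a⁻¹ := by rw [he]
      _ = b * a⁻¹ * x := by group
  let f : ↥(K ⊓ N) → ↥(K ⊓ N) := fun a => ⟨_, hmem a a.2⟩
  have hf : Function.Surjective f := Finite.injective_iff_surjective.1 fun a b h =>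
    Subtype.ext (hinj a a.2.1 b b.2.1 (congrArg Subtype.val h))
  have h1 : k⁻¹ * (x * k * x⁻¹) ∈ K := mul_mem (inv_mem hk) (hKn.conj_mem k hk x)
  have h2 : k⁻¹ * (x * k * x⁻¹) ∈ N := by
    rw [show k⁻¹ * (x * k * x⁻¹) = k⁻¹ * (x * k * x⁻¹ * k⁻¹) * k by group]
    simpa using hN.conj_mem _ hx k⁻¹
  obtain ⟨a, ha⟩ := hf ⟨k⁻¹ * (x * k * x⁻¹), h1, h2⟩
  rw [← hinj a a.2.1 k hk (congrArg Subtype.val ha)]
  exact a.2.2

/-- The centraliser of a non-identity central element of the kernel is the kernel. -/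
theorem frob_centralizer_eq {z : L} (hz : z ∈ K) (hz1 : z ≠ 1) (hc : ∀ k ∈ K, z * k = k * z) :
    Subgroup.centralizer ({z} : Set L) = K :=
  le_antisymm (hfix z hz hz1) fun k hk => Subgroup.mem_centralizer_singleton_iff.2 (hc k hk).symm

/-- With odd order no member of `S` is real. -/
theorem frob_conj_ne (hodd : Odd (Nat.card L)) (hKL : K < ⊤) {A : Subgroup L} :
    ∀ χ ∈ inducedIrrAbove K A, conjFun χ ≠ χ := by
  rintro χ hχ he
  have h1 := Characters.eq_one_of_real_of_odd hodd (frob_irr hfix χ hχ) fun g =>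
    Complex.conj_eq_iff_im.1 (congrFun he g)
  obtain ⟨θ, -, -, -, rfl⟩ := hχ
  obtain ⟨x, -, hx⟩ := SetLike.exists_of_lt hKL
  have h2 := congrFun h1 x
  rw [indFun_normal_eq_zero K θ hx] at h2
  exact zero_ne_one h2

/-- An even index forces a commutative kernel. -/
theorem frob_comm_of_even (heven : Even K.index) : ∀ a ∈ K, ∀ b ∈ K, a * b = b * a := by
  obtain ⟨t, ht⟩ := exists_prime_orderOf_dvd_card' (G := L) 2
    (heven.two_dvd.trans K.index_dvd_card)
  have htK : t ∉ K := by
    intro h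
    have h1 : 2 ∣ Nat.card K := ht ▸ Subgroup.orderOf_dvd_natCard K h
    exact absurd ((frob_coprime hfix).coprime_dvd_left h1 |>.coprime_dvd_right heven.two_dvd)
      (by decide)
  have ht2 : t * t = 1 := by rw [← sq, ← ht, pow_orderOf_eq_one]
  have ht' : t⁻¹ = t := inv_eq_of_mul_eq_one_left ht2
  let f : K → K := fun a => ⟨(a : L)⁻¹ * (t * a * t⁻¹), mul_mem (inv_mem a.2) (hKn.conj_mem _ a.2 t)⟩
  have hf : Function.Surjective f := Finite.injective_iff_surjective.1 fun a b h => by
    apply Subtype.ext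
    by_contra hne
    have he : (a : L)⁻¹ * (t * a * t⁻¹) = (b : L)⁻¹ * (t * b * t⁻¹) := congrArg Subtype.val h
    refine htK (hfix ((b : L) * (a : L)⁻¹) (mul_mem b.2 (inv_mem a.2))
      (fun h => hne (mul_inv_eq_one.1 h).symm) (Subgroup.mem_centralizer_singleton_iff.2 ?_))
    calc t * ((b : L) * (a : L)⁻¹) = b * ((b : L)⁻¹ * (t * b * t⁻¹)) * t * (a : L)⁻¹ := by group
      _ = b * ((a : L)⁻¹ * (t * a * t⁻¹)) * t * (a : L)⁻¹ := by rw [he]
      _ = b * (a : L)⁻¹ * t := by group
  have hinv : ∀ c ∈ K, t * c * t = c⁻¹ := by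
    intro c hc
    obtain ⟨a, ha⟩ := hf ⟨c, hc⟩
    have hc' : (a : L)⁻¹ * (t * a * t⁻¹) = c := congrArg Subtype.val ha
    rw [← hc', ht']
    simp only [mul_inv_rev, ht', inv_inv, mul_assoc]
    rw [ht2, mul_one]
  intro a ha b hb
  have h : t * (a * b) * t = t * a * t * (t * b * t) := by
    simp only [mul_assoc]
    rw [← mul_assoc t t, ht2, one_mul]
  rw [hinv _ (mul_mem ha hb), hinv a ha, hinv b hb, ← mul_inv_rev, inv_inj] at h
  exact h

omit hfix in
theorem above_self_eq_empty : inducedIrrAbove K K = ∅ := by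
  refine Set.eq_empty_iff_forall_notMem.2 ?_
  rintro φ ⟨θ, hθ, hθ1, hθK, -⟩
  obtain ⟨n, hn0, hn⟩ := exists_degree_pos hθ
  have h0 := classInner_isIrr_ne hθ isIrr_one hθ1
  simp only [classInner, map_one, mul_one, fun a : K => (hθK a a.2).trans hn, Finset.sum_const,
    nsmul_eq_mul, Finset.card_univ] at h0
  rw [Fintype.card_eq_nat_card, inv_mul_cancel_left₀ natCard_ne_zero, Nat.cast_eq_zero] at h0
  exact hn0.ne' h0

/-- `S` consists of the irreducible characters whose kernel does not contain `K`. -/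
theorem frob_eq_nontrivial :
    inducedIrrAbove K ⊥ = {χ | IsIrrCharacter L χ ∧ ∃ k ∈ K, χ k ≠ χ 1} := by
  rw [← diff_eq_nontrivial K le_rfl fun χ hχ => frob_irr hfix χ hχ.1, above_self_eq_empty,
    Set.sdiff_empty]

end CfsgLib.Coherence
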