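import Cfsg.Agent.Characters.Integrality
import Mathlib.GroupTheory.Sylow
import Mathlib.GroupTheory.Nilpotent
import Mathlib.GroupTheory.GroupAction.Quotient
import Mathlib.GroupTheory.PGroup

/-!
# Group facts behind Peterfalvi (6.5)

Generation of a finite nilpotent group modulo its derived subgroup, the congruence coming from a
fixed-point-free conjugation, and invariant subgroups of order `p` in a module of order `p²`.
-/

set_option autoImplicit false

namespace CfsgLib.Coherence

universe u v

/-- A subgroup supplementing the derived subgroup of a finite nilpotent group is everything. -/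
theorem eq_top_of_sup_commutator {P : Type u} [Group P] [Finite P] [hP : Group.IsNilpotent P]
    {U : Subgroup P} (h : U ⊔ commutator P = ⊤) : U = ⊤ := by
  obtain hU | ⟨M, hM, hUM⟩ := eq_top_or_exists_le_coatom U
  · exact hU
  exfalso
  have : M.Normal := Subgroup.NormalizerCondition.normal_of_coatom M normalizerCondition_of_isNilpotent hM
  have : Nontrivial (P ⧸ M) := by
    obtain ⟨x, -, hx⟩ := SetLike.exists_of_lt hM.lt_top
    exact ⟨⟨QuotientGroup.mk x, 1, fun h => hx ((QuotientGroup.eq_one_iff x).1 h)⟩⟩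
  have hlt := Group.IsSolvable.commutator_lt_top_of_nontrivial (P ⧸ M)
  have hmap : (commutator P).map (QuotientGroup.mk' M) = commutator (P ⧸ M) := by
    rw [commutator_def, commutator_def, Subgroup.map_commutator,
      Subgroup.map_top_of_surjective _ (QuotientGroup.mk'_surjective M)]
  have htop := congrArg (Subgroup.map (QuotientGroup.mk' M)) h
  rw [Subgroup.map_sup, hmap, Subgroup.map_top_of_surjective _ (QuotientGroup.mk'_surjective M),
    (Subgroup.map_eq_bot_iff U).2 (by rwa [QuotientGroup.ker_mk']), bot_sup_eq] at htop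
  exact hlt.ne htop

/-- A finite nilpotent group whose abelianisation has prime power order has prime power order. -/
theorem card_eq_pow_of_commutator_index {P : Type u} [Group P] [Finite P] [Group.IsNilpotent P]
    {p d : ℕ} [hp : Fact p.Prime] (h : (commutator P).index = p ^ d) :
    ∃ m, Nat.card P = p ^ m := by
  obtain ⟨S⟩ : Nonempty (Sylow p P) := inferInstance
  have hS : (S : Subgroup P) = ⊤ := by
    refine eq_top_of_sup_commutator (Subgroup.index_eq_one.1 ?_)
    have h1 : ((S : Subgroup P) ⊔ commutator P).index ∣ (S : Subgroup P).index :=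
      Subgroup.index_dvd_of_le le_sup_left
    have h2 : ((S : Subgroup P) ⊔ commutator P).index ∣ p ^ d :=
      h ▸ Subgroup.index_dvd_of_le le_sup_right
    obtain ⟨i, -, hi⟩ := (Nat.dvd_prime_pow hp.out).1 h2
    rcases Nat.eq_zero_or_pos i with rfl | hpos
    · rw [hi, pow_zero]
    · exact absurd ((dvd_pow_self p hpos.ne').trans (hi ▸ h1)) S.not_dvd_index
  exact ⟨_, by
    rw [← Subgroup.card_top, ← hS]
    exact S.card_eq_multiplicity⟩

/-- A cyclic abelianisation makes a nilpotent group commutative. -/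
theorem isMulCommutative_of_sup_zpowers {P : Type u} [Group P] [Finite P] [Group.IsNilpotent P]
    {x : P} (h : Subgroup.zpowers x ⊔ commutator P = ⊤) : ∀ a b : P, a * b = b * a := by
  have htop := eq_top_of_sup_commutator h
  intro a b
  obtain ⟨i, rfl⟩ := Subgroup.mem_zpowers_iff.1 (htop ▸ Subgroup.mem_top a : a ∈ Subgroup.zpowers x)
  obtain ⟨j, rfl⟩ := Subgroup.mem_zpowers_iff.1 (htop ▸ Subgroup.mem_top b : b ∈ Subgroup.zpowers x)
  exact zpow_mul_comm x i j

/-- If every non-identity element of the normal subgroup `N` has the same centralizer `K`, then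
`[Q:K]` divides `|N| - 1`. -/
theorem index_dvd_card_sub_one {Q : Type u} [Group Q] [Finite Q] (K N : Subgroup Q) [hN : N.Normal]
    (hC : ∀ n ∈ N, n ≠ 1 → Subgroup.centralizer ({n} : Set Q) = K) :
    K.index ∣ Nat.card N - 1 := by
  classical
  have := Fintype.ofFinite Q
  have hcard : Nat.card N - 1 = (Finset.univ.filter (fun x : Q => x ∈ N ∧ x ≠ 1)).card := by
    have e : Finset.univ.filter (fun x : Q => x ∈ N ∧ x ≠ 1)
        = (Finset.univ.filter (fun x : Q => x ∈ N)).erase 1 := by ext x; simp [and_comm]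
    rw [e, Finset.card_erase_of_mem (by simp), Nat.card_eq_fintype_card, Fintype.card_subtype]
  rw [hcard, Finset.card_eq_sum_card_image ConjClasses.mk]
  refine Finset.dvd_sum fun c hc => ?_
  obtain ⟨x, hx, rfl⟩ := Finset.mem_image.1 hc
  simp only [Finset.mem_filter, Finset.mem_univ, true_and] at hx
  have hset : (Finset.univ.filter (fun x : Q => x ∈ N ∧ x ≠ 1)).filter
      (fun y => ConjClasses.mk y = ConjClasses.mk x) = Finset.univ.filter (fun y => IsConj y x) := by
    ext y
    simp only [Finset.mem_filter, Finset.mem_univ, true_and, ConjClasses.mk_eq_mk_iff_isConj]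
    refine ⟨fun h => h.2, fun h => ⟨?_, h⟩⟩
    obtain ⟨c, rfl⟩ := isConj_iff.1 h.symm
    exact ⟨hN.conj_mem x hx.1 c, fun he => hx.2 (by simpa using he)⟩
  rw [hset, ← Fintype.card_subtype, ← Nat.card_eq_fintype_card,
    Characters.card_conjugates_eq_index, hC x hx.1 hx.2]

/-- A finite group of odd order in which every non-identity element fixes exactly two points has a
common fixed point. -/
theorem exists_fixed_of_two {E : Type u} [Group E] [Fintype E] {Ω : Type v} [Fintype Ω] [Nonempty Ω]
    [MulAction E Ω] (hodd : Odd (Nat.card E))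
    (h2 : ∀ g : E, g ≠ 1 → Nat.card (MulAction.fixedBy Ω g) = 2) :
    ∃ X : Ω, ∀ g : E, g • X = X := by
  classical
  by_contra hno
  push Not at hno
  set n := Nat.card E with hn
  set O := Quotient (MulAction.orbitRel E Ω) with hO
  have hstab : ∑ X : Ω, Nat.card (MulAction.stabilizer E X) = Fintype.card Ω + 2 * (n - 1) := by
    have h1 : ∑ X : Ω, Nat.card (MulAction.stabilizer E X) = ∑ g : E, Nat.card (MulAction.fixedBy Ω g) := by
      simp only [Nat.card_eq_fintype_card, MulAction.mem_stabilizer_iff, MulAction.mem_fixedBy,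
        Fintype.card_subtype, Finset.card_filter]
      exact Finset.sum_comm
    rw [h1, ← Finset.add_sum_erase Finset.univ _ (Finset.mem_univ (1 : E)),
      Finset.sum_congr rfl (fun g hg => h2 g (Finset.ne_of_mem_erase hg)), Finset.sum_const,
      Finset.card_erase_of_mem (Finset.mem_univ _), Finset.card_univ, smul_eq_mul,
      MulAction.fixedBy_one_eq_univ, Nat.card_univ, Nat.card_eq_fintype_card, hn,
      Nat.card_eq_fintype_card, mul_comm]
  -- orbit sizes
  let sz : O → ℕ := fun ω => (Finset.univ.filter (fun X : Ω => Quotient.mk (MulAction.orbitRel E Ω) X = ω)).card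
  have horbit : ∀ X : Ω, sz (Quotient.mk _ X) * Nat.card (MulAction.stabilizer E X) = n := by
    intro X
    rw [hn, Nat.card_eq_fintype_card, Nat.card_eq_fintype_card,
      ← MulAction.card_orbit_mul_card_stabilizer_eq_card_group E X]
    congr 1
    show (Finset.univ.filter _).card = Fintype.card {Y // Y ∈ MulAction.orbit E X}
    rw [Fintype.card_subtype]
    congr 1
    ext Y
    simp only [Finset.mem_filter, Finset.mem_univ, true_and, Quotient.eq, MulAction.orbitRel_apply]
  have hsum : ∑ ω : O, (n : ℤ) - ∑ ω : O, (sz ω : ℤ) = 2 * ((n : ℤ) - 1) := by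
    have h1 : ∑ X : Ω, (Nat.card (MulAction.stabilizer E X) : ℤ) = ∑ ω : O, (n : ℤ) := by
      rw [← Finset.sum_fiberwise Finset.univ (Quotient.mk (MulAction.orbitRel E Ω))]
      refine Finset.sum_congr rfl fun ω _ => ?_
      obtain ⟨X, rfl⟩ := Quotient.exists_rep ω
      rw [Finset.sum_congr rfl (g := fun _ => (Nat.card (MulAction.stabilizer E X) : ℤ)) (fun Y hY => ?_),
        Finset.sum_const, nsmul_eq_mul]
      · exact_mod_cast horbit X
      · have hY' := (Finset.mem_filter.1 hY).2
        have h3 := horbit Y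
        rw [hY'] at h3
        have h4 := horbit X
        have hne : sz (Quotient.mk _ X) ≠ 0 := fun h0 => by
          rw [h0, zero_mul] at h4; exact Nat.card_pos.ne h4
        rw [Nat.eq_of_mul_eq_mul_left (Nat.pos_of_ne_zero hne) (h3.trans h4.symm)]
    have h5 : ∑ ω : O, (sz ω : ℤ) = Fintype.card Ω := by
      rw [← Nat.cast_sum, Nat.cast_inj, ← Finset.card_univ]
      exact (Finset.card_eq_sum_card_fiberwise (fun X _ => Finset.mem_univ _)).symm
    rw [h5, ← h1, ← Nat.cast_sum, hstab]
    have : 1 ≤ n := Nat.card_pos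
    push_cast [Nat.cast_sub this]
    ring
  have hsz : ∀ ω : O, sz ω = n ∨ (3 ≤ sz ω ∧ 3 * sz ω ≤ n) := by
    intro ω
    obtain ⟨X, rfl⟩ := Quotient.exists_rep ω
    have h4 := horbit X
    have hodd' : Odd n := hodd
    rw [← h4] at hodd'
    obtain ⟨ho1, ho2⟩ := Nat.odd_mul.1 hodd'
    set s := Nat.card (MulAction.stabilizer E X) with hs
    obtain ⟨i, hi⟩ := ho2
    by_cases hs1 : s = 1
    · left; rwa [hs1, mul_one] at h4
    right
    obtain ⟨j, hj⟩ := ho1
    have hj0 : j ≠ 0 := by
      rintro rfl
      obtain ⟨g, hg⟩ := hno X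
      apply hg
      have h6 : MulAction.stabilizer E X = ⊤ := Subgroup.eq_top_of_card_eq _ (by
        rw [← hs, ← hn]; rw [hj] at h4; simpa using h4)
      exact MulAction.mem_stabilizer_iff.1 (h6 ▸ Subgroup.mem_top g)
    have : 3 ≤ s := by omega
    exact ⟨by omega, by nlinarith⟩
  set B := Finset.univ.filter (fun ω : O => sz ω ≠ n) with hB
  have hsum' : ∑ ω ∈ B, ((n : ℤ) - sz ω) = 2 * ((n : ℤ) - 1) := by
    rw [← hsum, ← Finset.sum_sub_distrib, hB, Finset.sum_filter]
    refine Finset.sum_congr rfl fun ω _ => ?_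
    split_ifs with h
    · rfl
    · rw [not_not.1 h, sub_self]
  have hlow : ∀ ω ∈ B, 2 * (n : ℤ) ≤ 3 * ((n : ℤ) - sz ω) ∧ (n : ℤ) - sz ω ≤ n - 3 := fun ω hω => by
    have := (hsz ω).resolve_left (Finset.mem_filter.1 hω).2
    omega
  have hA : (B.card : ℤ) * (2 * n) ≤ 3 * (2 * ((n : ℤ) - 1)) := by
    rw [← hsum', Finset.mul_sum]
    simpa using Finset.card_nsmul_le_sum B _ (2 * (n : ℤ)) fun ω hω => (hlow ω hω).1
  have hC : 2 * ((n : ℤ) - 1) ≤ (B.card : ℤ) * ((n : ℤ) - 3) := by
    rw [← hsum']
    simpa using Finset.sum_le_card_nsmul B _ ((n : ℤ) - 3) fun ω hω => (hlow ω hω).2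
  have hn1 : (1 : ℤ) ≤ n := by exact_mod_cast Nat.card_pos
  by_cases hn3 : (n : ℤ) < 3
  · -- trivial group
    have hn' : n = 1 := by obtain ⟨k, hk⟩ := (hodd : Odd n); omega
    obtain ⟨X⟩ := ‹Nonempty Ω›
    obtain ⟨g, hg⟩ := hno X
    have : Subsingleton E := (Nat.card_eq_one_iff_unique.1 hn').1
    exact hg (by rw [Subsingleton.elim g 1, one_smul])
  rcases le_or_gt B.card 2 with hb | hb
  · have : (B.card : ℤ) ≤ 2 := by exact_mod_cast hb
    nlinarith
  · have : (3 : ℤ) ≤ (B.card : ℤ) := by exact_mod_cast hb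
    nlinarith

/-- A permutation of odd order commuting with another one fixes each of its fixed points when those
are at most two. -/
theorem fixedBy_of_pow {E : Type u} [Group E] {Ω : Type v} [Finite Ω] [MulAction E Ω] {g : E}
    {k : ℕ} (hodd : Odd (orderOf g)) (h : Nat.card (MulAction.fixedBy Ω (g ^ k)) ≤ 2) {X : Ω}
    (hX : g ^ k • X = X) : g • X = X := by
  have hmem : ∀ i : ℕ, g ^ k • (g ^ i • X) = g ^ i • X := fun i => by
    rw [← mul_smul, ← pow_add, add_comm, pow_add, mul_smul, hX]
  have h2 : g ^ 2 • X = X := by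
    by_contra hne
    have hne1 : g • X ≠ X := fun e => hne (by rw [pow_two, mul_smul, e, e])
    let f : Fin 3 → MulAction.fixedBy Ω (g ^ k) := fun i => ⟨g ^ (i : ℕ) • X, hmem i⟩
    have hinj : Function.Injective f := by
      intro i j hij
      have h3 : g ^ (i : ℕ) • X = g ^ (j : ℕ) • X := congrArg Subtype.val hij
      fin_cases i <;> fin_cases j <;> simp at h3 ⊢
      · exact hne1 h3.symm
      · exact hne h3.symm
      · exact hne1 h3
      · exact hne1 (by rw [pow_two, mul_smul] at h3; exact (smul_left_cancel g h3).symm)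
      · exact hne h3
      · exact hne1 (by rw [pow_two, mul_smul] at h3; exact smul_left_cancel g h3)
    have := Nat.card_le_card_of_injective f hinj
    simp only [Nat.card_eq_fintype_card (α := Fin 3), Fintype.card_fin] at this
    omega
  obtain ⟨i, hi⟩ := hodd
  have hpow : ∀ j : ℕ, (g ^ 2) ^ j • X = X := by
    intro j
    induction j with
    | zero => simp
    | succ j ih => rw [pow_succ, mul_smul, h2, ih]
  have : g = (g ^ 2) ^ (i + 1) := by
    rw [← pow_mul, show 2 * (i + 1) = orderOf g + 1 by omega, pow_succ, pow_orderOf_eq_one, one_mul]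
  rw [this, hpow]

end CfsgLib.Coherence
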