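import Cfsg.Agent.Coherence.Chief
import Cfsg.Agent.Coherence.Irr

/-!
# Peterfalvi (6.6)

The characters of `L` nontrivial on a normal subgroup `Z` central in `K` form a coherent set.
-/

set_option autoImplicit false
set_option linter.unusedSectionVars false

namespace CfsgLib.Coherence

open Cfsg ComplexConjugate CfsgLib.Characters

universe u v

variable {L : Type u} [Group L] [Fintype L] {G : Type v} [Group G] [Fintype G]

noncomputable local instance fintypeSubgroupIrrAbove (H : Subgroup L) : Fintype H := Fintype.ofFinite H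

/-- A constituent of a character is trivial where the character is. -/
theorem constituent_trivial {χ θ : L → ℂ} (hχ : IsCharacter L χ) (hθ : IsIrrCharacter L θ)
    (hne : classInner χ θ ≠ 0) {z : L} (hz : χ z = χ 1) : θ z = θ 1 := by
  obtain ⟨m, hm⟩ := exists_nat_coeff hχ
  have hc : classInner χ θ = m ⟨θ, hθ⟩ := by
    conv_lhs => rw [hm]
    exact classInner_irr_coeff (fun ψ => (m ψ : ℂ)) ⟨θ, hθ⟩
  have hpt : ∀ x : L, χ x = ∑ ψ : IrrCharacter L, (m ψ : ℂ) * ψ.1 x := fun x => by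
    have h := congrFun hm x
    simpa [Finset.sum_apply] using h
  have hnorm : ∀ ψ : IrrCharacter L, ‖ψ.1 z‖ ≤ (ψ.1 1).re := fun ψ =>
    OddOrderChar.character_norm_le (isCharacter_of_isIrr ψ.2) z
  have hre : ∀ ψ : IrrCharacter L, (m ψ : ℝ) * (ψ.1 z).re ≤ (m ψ : ℝ) * (ψ.1 1).re := fun ψ =>
    mul_le_mul_of_nonneg_left ((Complex.re_le_norm _).trans (hnorm ψ)) (Nat.cast_nonneg _)
  have hsum : ∑ ψ : IrrCharacter L, (m ψ : ℝ) * (ψ.1 z).re
      = ∑ ψ : IrrCharacter L, (m ψ : ℝ) * (ψ.1 1).re := by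
    have h := congrArg Complex.re hz
    simpa [hpt, Complex.re_sum] using h
  have h1 := (Finset.sum_eq_sum_iff_of_le fun ψ _ => hre ψ).1 hsum ⟨θ, hθ⟩ (Finset.mem_univ _)
  have hm0 : (m ⟨θ, hθ⟩ : ℝ) ≠ 0 := by
    intro h0
    apply hne
    rw [hc, show m ⟨θ, hθ⟩ = 0 by exact_mod_cast h0, Nat.cast_zero]
  have h2 : (θ z).re = (θ 1).re := mul_left_cancel₀ hm0 h1
  obtain ⟨d, -, hd⟩ := exists_degree_pos hθ
  have h3 := OddOrderChar.eq_of_sum_re_eq ({()} : Finset Unit) (fun _ => θ z) (θ 1).re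
    (fun _ _ => OddOrderChar.character_norm_le (isCharacter_of_isIrr hθ) z) (by simp [h2]) () (by simp)
  rw [h3, hd, Complex.natCast_re, Complex.ofReal_natCast]

variable {K : Subgroup L} [K.Normal] {F : Finset (L → ℂ)} {T : (L → ℂ) →ₗ[ℂ] (G → ℂ)}
  {R : (L → ℂ) → Finset (G → ℂ)}

open Classical in
/-- The degree of a member of `S` in units of `[L:K]`. -/
noncomputable def relDeg (K : Subgroup L) (φ : L → ℂ) : ℕ :=
  if h : ∃ d : ℕ, φ 1 = (d : ℂ) * (K.index : ℂ) then Classical.choose h else 0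

theorem relDeg_spec (hF : (↑F : Set (L → ℂ)) = inducedIrrAbove K ⊥) {φ : L → ℂ} (hφ : φ ∈ F) :
    φ 1 = (relDeg K φ : ℂ) * (K.index : ℂ) := by
  obtain ⟨d, -, hd⟩ := exists_deg_mul hF hφ
  have h : ∃ d : ℕ, φ 1 = (d : ℂ) * (K.index : ℂ) := ⟨d, hd⟩
  rw [relDeg, dif_pos h]
  exact Classical.choose_spec h

/-- The members of `S` nontrivial on `Z` are the irreducible characters nontrivial on `Z`. -/
theorem diff_eq_nontrivial (Z : Subgroup L) [Z.Normal] (hZK : Z ≤ K)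
    (hirr : ∀ χ ∈ inducedIrrAbove K ⊥ \ inducedIrrAbove K Z, IsIrrCharacter L χ) :
    inducedIrrAbove K ⊥ \ inducedIrrAbove K Z =
      {χ | IsIrrCharacter L χ ∧ ∃ z ∈ Z, χ z ≠ χ 1} := by
  ext χ
  have hres : ∀ (θ : K → ℂ) (χ : L → ℂ), IsClassFunction L χ →
      classInner (indFun K θ) χ = classInner θ (fun k : K => χ k) := fun θ χ h =>
    OddOrderChar.classInner_indFun_left K θ h
  constructor
  · intro hm
    have hχ := hirr χ hm
    refine ⟨hχ, ?_⟩
    by_contra hno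
    push Not at hno
    obtain ⟨⟨θ, hθ, hθ1, -, rfl⟩, hnot⟩ := hm
    refine hnot ((ind_mem_iff K hθ).2 ⟨hθ1, fun a ha => ?_⟩)
    refine constituent_trivial (isCharacter_restrict K (isCharacter_of_isIrr hχ)) hθ ?_ ?_
    · rw [← ci_conj, ← hres θ _ (isClassFunction_of_isIrr hχ), classInner_isIrr_self hχ, map_one]
      exact one_ne_zero
    · exact hno _ ha
  · rintro ⟨hχ, z, hz, hne⟩
    have hcl := isClassFunction_of_isIrr hχ
    obtain ⟨θ, hθ0, hθz⟩ : ∃ θ : IrrCharacter K,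
        classInner (fun k : K => χ k) θ.1 ≠ 0 ∧ θ.1 ⟨z, hZK hz⟩ ≠ θ.1 1 := by
      by_contra h
      push Not at h
      have he := character_expansion (isCharacter_restrict K (isCharacter_of_isIrr hχ))
      apply hne
      have h1 := congrFun he ⟨z, hZK hz⟩
      have h2 := congrFun he 1
      simp only [Finset.sum_apply, Pi.smul_apply, smul_eq_mul, OneMemClass.coe_one] at h1 h2
      rw [h1, h2]
      refine Finset.sum_congr rfl fun ψ _ => ?_
      by_cases h0 : classInner (fun k : K => χ k) ψ.1 = 0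
      · rw [h0, zero_mul, zero_mul]
      · rw [h ψ h0]
    have hθ1 : θ.1 ≠ fun _ => 1 := fun h => hθz (by rw [h])
    have hmem : indFun K θ.1 ∈ inducedIrrAbove K ⊥ \ inducedIrrAbove K Z :=
      ⟨(ind_mem_iff K θ.2).2 ⟨hθ1, fun a ha => by
          rw [show a = 1 from Subtype.ext (Subgroup.mem_bot.1 ha)]⟩,
        fun h => hθz (((ind_mem_iff K θ.2).1 h).2 ⟨z, hZK hz⟩ hz)⟩
    have hi := hirr _ hmem
    have he : indFun K θ.1 = χ := by
      by_contra hne'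
      have h0 := classInner_isIrr_ne hi hχ hne'
      rw [hres θ.1 χ hcl, ← ci_conj, map_eq_zero] at h0
      exact hθ0 h0
    exact he ▸ hmem

/-- Peterfalvi (6.6), coherence part. -/
theorem irr_nontrivial_coherence (hsolv : Group.IsSolvable K) (hS : Sys F T R)
    (hF : (↑F : Set (L → ℂ)) = inducedIrrAbove K ⊥) (hodd : Odd (Nat.card L))
    (hnil : Group.IsNilpotent K) (hH₁K : ⁅K, K⁆ < K) (hKL : K < ⊤)
    (hfrob : ∀ k ∈ K, k ∉ ⁅K, K⁆ → ∀ x : L, x * k * x⁻¹ * k⁻¹ ∈ ⁅K, K⁆ → x ∈ K)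
    (Z : Subgroup L) [Z.Normal] (hZK : Z ≤ K) (hZc : ∀ z ∈ Z, ∀ k ∈ K, z * k = k * z)
    (hirr : ∀ χ ∈ inducedIrrAbove K ⊥ \ inducedIrrAbove K Z, IsIrrCharacter L χ) :
    ∃ g, IsExt (F \ above K F Z) T g := by
  classical
  by_cases hgood : (∃ N : Subgroup L, N.Normal ∧ ⁅K, K⁆ < N ∧ N < K) ∨
      4 * K.index ^ 2 + 1 < ⁅K, K⁆.relIndex K ∨
      (¬ ∃ p m : ℕ, p.Prime ∧ (⊥ : Subgroup L).relIndex K = p ^ m) ∨ ⁅K, K⁆ ≤ ⊥ ∨
      (∃ p m : ℕ, p.Prime ∧ (⊥ : Subgroup L).relIndex K = p ^ m ∧ K.index ∣ p - 1)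
  · have : ((⊥ : Subgroup L).subgroupOf K).Normal := Subgroup.Normal.subgroupOf inferInstance K
    obtain ⟨g, hg⟩ := chief_coherence (H₁ := ⁅K, K⁆) hsolv hS hF hodd ⊥ bot_le inferInstance
      (sup_bot_eq _).symm hH₁K hKL hfrob hgood
    refine ⟨g, hg.mono fun φ hφ => (mem_above hF).2 ?_⟩
    rw [← hF, Finset.mem_coe]
    exact (Finset.mem_sdiff.1 hφ).1
  push Not at hgood
  obtain ⟨-, -, ⟨p, m, hp, hpm⟩, hnab, -⟩ := hgood
  have : Fact p.Prime := ⟨hp⟩
  rw [Subgroup.relIndex_bot_left] at hpm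
  set e := K.index with he
  have he0 : e ≠ 0 := K.index_ne_zero_of_finite
  have heC : (e : ℂ) ≠ 0 := Nat.cast_ne_zero.2 he0
  have hm0 : m ≠ 0 := by
    rintro rfl
    rw [pow_zero] at hpm
    exact hnab (Subgroup.eq_bot_of_card_eq K hpm ▸ hH₁K.le)
  have hp2 : p ≠ 2 := by
    rintro rfl
    have h : Odd (Nat.card K) := hodd.of_dvd_nat K.card_subgroup_dvd_card
    rw [hpm, Nat.odd_pow_iff hm0] at h
    exact absurd h (by decide)
  have hp3 : 3 ≤ p := by have := hp.two_le; omega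
  have hecop : Nat.Coprime e p := by
    refine Nat.Coprime.symm ((hp.coprime_iff_not_dvd).2 fun hpe => ?_)
    have h1 := frob_congr (K := K) (H₁ := ⁅K, K⁆) le_rfl hH₁K.le hfrob K le_rfl
    have h2 : ⁅K, K⁆.relIndex K ∣ Nat.card K := Subgroup.index_dvd_card _
    rw [hpm] at h2
    obtain ⟨i, -, hi⟩ := (Nat.dvd_prime_pow hp).1 h2
    rcases Nat.eq_zero_or_pos i with rfl | hpos
    · rw [pow_zero, Subgroup.relIndex_eq_one] at hi
      exact hH₁K.not_ge hi
    · have h3 : p ∣ ⁅K, K⁆.relIndex K := hi ▸ dvd_pow_self p hpos.ne'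
      have h4 : p ∣ ⁅K, K⁆.relIndex K - 1 := hpe.trans h1
      have h5 : 1 ≤ ⁅K, K⁆.relIndex K := by rw [hi]; exact Nat.one_le_pow _ _ hp.pos
      have h6 := Nat.dvd_sub h3 h4
      rw [show ⁅K, K⁆.relIndex K - (⁅K, K⁆.relIndex K - 1) = 1 by omega] at h6
      exact hp.not_dvd_one h6
  set X := F \ above K F Z with hX
  have hXF : X ⊆ F := Finset.sdiff_subset
  have hXc : ∀ φ ∈ X, conjFun φ ∈ X := by
    intro φ hφ
    obtain ⟨h1, h2⟩ := Finset.mem_sdiff.1 hφ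
    exact Finset.mem_sdiff.2 ⟨hS.conj_mem φ h1, fun h => h2 (by simpa using above_conj hF _ h)⟩
  have hXirr : ∀ φ ∈ X, IsIrrCharacter L φ := by
    intro φ hφ
    obtain ⟨h1, h2⟩ := Finset.mem_sdiff.1 hφ
    exact hirr φ ⟨hF ▸ h1, fun h => h2 ((mem_above hF).2 h)⟩
  set dg := relDeg K with hdg
  have hdeg : ∀ φ ∈ F, φ 1 = (dg φ : ℂ) * (e : ℂ) := fun φ hφ => relDeg_spec hF hφ
  -- degrees are powers of `p` whose squares divide `[K:Z]`
  have hpow : ∀ φ ∈ F, (∃ i, dg φ = p ^ i) ∧ dg φ ^ 2 ∣ Z.relIndex K := by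
    intro φ hφ
    have hmem : φ ∈ inducedIrrAbove K ⊥ := hF ▸ hφ
    obtain ⟨θ, hθ, -, -, hφe⟩ := hmem
    obtain ⟨n, ρ, hρ, hθe⟩ := hθ
    have hθ1 : θ 1 = (Module.finrank ℂ (Fin n → ℂ) : ℂ) := by rw [← hθe, Representation.char_one]
    have h1 : (dg φ : ℂ) = (Module.finrank ℂ (Fin n → ℂ) : ℂ) := by
      have h := hdeg φ hφ
      rw [congrFun hφe 1, ind_one, hθ1] at h
      exact (mul_left_cancel₀ heC (h.trans (mul_comm _ _))).symm
    obtain ⟨i, -, hi⟩ := (Nat.dvd_prime_pow hp).1 (hpm ▸ finrank_dvd_card ρ)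
    have hd : dg φ = p ^ i := (Nat.cast_injective h1).trans hi
    refine ⟨⟨i, hd⟩, ?_⟩
    obtain ⟨j, -, hj⟩ := (Nat.dvd_prime_pow hp).1
      (hpm ▸ (Z.subgroupOf K).index_dvd_card : Z.relIndex K ∣ p ^ m)
    have hb := ind_degree_bound K (B := ⊥) (C := K) (D := Z) bot_le hZK le_rfl
      (fun x hx y hy => by rw [Subgroup.mem_bot, hZc x hx y hy]; group) (by rw [← hF, Finset.mem_coe]; exact hφ)
    rw [hdeg φ hφ, ← Nat.cast_mul, Complex.natCast_re] at hb
    have hb' : (dg φ * e) ^ 2 ≤ e ^ 2 * Z.relIndex K := by exact_mod_cast hb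
    rw [mul_pow, mul_comm] at hb'
    have hb'' := Nat.le_of_mul_le_mul_left hb' (by positivity)
    rw [hd, ← pow_mul] at hb'' ⊢
    rw [hj] at hb'' ⊢
    exact Nat.pow_dvd_pow p ((Nat.pow_le_pow_iff_right hp.one_lt).1 hb'')
  -- the total
  have htot : (∑ φ ∈ X, dg φ ^ 2) * e + Z.relIndex K = Nat.card K := by
    have h0 := sum_re_above hF (⊥ : Subgroup L)
    have hZsum := sum_re_above hF Z
    have hab : above K F ⊥ = F := Finset.ext fun φ => by
      rw [mem_above hF, ← hF, Finset.mem_coe]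
    rw [hab, ← Finset.sum_sdiff (above_subset (K := K) Z), hZsum, Subgroup.relIndex_bot_left] at h0
    have hval : ∑ φ ∈ X, (φ 1).re ^ 2 / sqNorm φ = (e : ℝ) ^ 2 * ((∑ φ ∈ X, dg φ ^ 2 : ℕ) : ℝ) := by
      push_cast
      rw [Finset.mul_sum]
      refine Finset.sum_congr rfl fun φ hφ => ?_
      rw [sqNorm, classInner_isIrr_self (hXirr φ hφ), Complex.one_re, div_one, hdeg φ (hXF hφ),
        ← Nat.cast_mul, Complex.natCast_re]
      push_cast; ring
    rw [← hX, hval] at h0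
    have h1 : (e : ℝ) * ((((∑ φ ∈ X, dg φ ^ 2) * e + Z.relIndex K : ℕ) : ℝ)) = (e : ℝ) * (Nat.card K : ℝ) := by
      push_cast at h0 ⊢; nlinarith [h0]
    exact_mod_cast mul_left_cancel₀ (Nat.cast_ne_zero.2 he0) h1
  -- induction on the degree
  suffices H : ∀ n, ∃ g, IsExt (X.filter fun φ => dg φ < n) T g by
    obtain ⟨g, hg⟩ := H (X.sup dg + 1)
    refine ⟨g, hg.mono fun φ hφ => Finset.mem_filter.2 ⟨hφ, ?_⟩⟩
    exact Nat.lt_succ_of_le (Finset.le_sup (f := dg) hφ)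
  intro n
  induction n using Nat.strong_induction_on with
  | _ n ih =>
    set W := X.filter fun φ => dg φ < n with hW
    have hWX : W ⊆ X := Finset.filter_subset _ _
    by_cases hne : W.Nonempty
    swap
    · exact ⟨fun _ => 0, fun a ha => absurd ⟨a, ha⟩ hne, fun a ha => absurd ⟨a, ha⟩ hne,
        fun a ha => absurd ⟨a, ha⟩ hne⟩
    obtain ⟨χb, hχb, hmax⟩ := W.exists_max_image dg hne
    obtain ⟨χa, hχa, hmin⟩ := W.exists_min_image dg hne
    have hdgc : ∀ φ ∈ X, dg (conjFun φ) = dg φ := by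
      intro φ hφ
      have h := hdeg _ (hXF (hXc φ hφ))
      rw [conjFun_one (n := dg φ * e) (by rw [hdeg φ (hXF hφ)]; push_cast; ring), Nat.cast_mul] at h
      exact (Nat.cast_injective (mul_right_cancel₀ heC h)).symm
    by_cases heq : dg χa = dg χb
    · refine (hS.subset (hWX.trans hXF) fun φ hφ => ?_).uniform_degree hne fun φ hφ ψ hψ => ?_
      · obtain ⟨h1, h2⟩ := Finset.mem_filter.1 hφ
        exact Finset.mem_filter.2 ⟨hXc φ h1, by rw [hdgc φ h1]; exact h2⟩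
      · have h1 : ∀ ξ ∈ W, dg ξ = dg χa := fun ξ hξ =>
          le_antisymm (heq ▸ hmax ξ hξ) (hmin ξ hξ)
        rw [hdeg φ (hXF (hWX hφ)), hdeg ψ (hXF (hWX hψ)), h1 φ hφ, h1 ψ hψ]
    set b := dg χb with hb
    obtain ⟨hχbX, hbn⟩ := Finset.mem_filter.1 hχb
    obtain ⟨f, hf⟩ := ih b hbn
    set Y := X.filter fun φ => dg φ < b with hY
    have hab : dg χa < b := lt_of_le_of_ne (hmin χb hχb) heq
    have hχaY : χa ∈ Y := Finset.mem_filter.2 ⟨hWX hχa, hab⟩
    set Tgt := X.filter fun φ => dg φ = b with hTgt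
    have hYc : ∀ φ ∈ Y, conjFun φ ∈ Y := fun φ hφ => by
      obtain ⟨h1, h2⟩ := Finset.mem_filter.1 hφ
      exact Finset.mem_filter.2 ⟨hXc φ h1, by rw [hdgc φ h1]; exact h2⟩
    obtain ⟨ib, hib⟩ : ∃ i, b = p ^ i := (hpow χb (hXF hχbX)).1
    obtain ⟨ia, hia⟩ := (hpow χa (hXF (hWX hχa))).1
    have hlti : ia < ib := (Nat.pow_lt_pow_iff_right hp.one_lt).1 (by rw [← hia, ← hib]; exact hab)
    have hsumY : b ^ 2 ≤ ∑ φ ∈ Y, dg φ ^ 2 := by
      have hbZ : b ^ 2 ∣ Z.relIndex K := (hpow χb (hXF hχbX)).2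
      have hall : b ^ 2 ∣ ∑ φ ∈ X, dg φ ^ 2 := by
        have h1 : b ^ 2 ∣ (∑ φ ∈ X, dg φ ^ 2) * e := by
          have h2 : b ^ 2 ∣ (∑ φ ∈ X, dg φ ^ 2) * e + Z.relIndex K := by
            rw [htot, ← Subgroup.relIndex_bot_left,
              ← Subgroup.relIndex_mul_relIndex ⊥ Z K bot_le hZK]
            exact Dvd.dvd.mul_left hbZ _
          exact (Nat.dvd_add_iff_left hbZ).2 h2
        refine Nat.Coprime.dvd_of_dvd_mul_right ?_ h1
        rw [hib]
        exact (hecop.symm.pow_left ib).pow_left 2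
      have hrest : b ^ 2 ∣ ∑ φ ∈ X \ Y, dg φ ^ 2 := Finset.dvd_sum fun φ hφ => by
        obtain ⟨hφX, hφY⟩ := Finset.mem_sdiff.1 hφ
        obtain ⟨i, hi⟩ := (hpow φ (hXF hφX)).1
        have hge : b ≤ dg φ := not_lt.1 fun h => hφY (Finset.mem_filter.2 ⟨hφX, h⟩)
        rw [hi, hib] at hge
        rw [hi, hib]
        exact pow_dvd_pow_of_dvd (Nat.pow_dvd_pow p ((Nat.pow_le_pow_iff_right hp.one_lt).1 hge)) 2
      rw [← Finset.sum_sdiff (Finset.filter_subset _ X : Y ⊆ X)] at hall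
      refine Nat.le_of_dvd ?_ ((Nat.dvd_add_iff_right hrest).2 hall)
      refine lt_of_lt_of_le ?_ (Finset.single_le_sum (fun φ _ => Nat.zero_le _) hχaY)
      rw [hia]; exact Nat.pow_pos (Nat.pow_pos hp.pos)
    obtain ⟨U, g, hU1, hU2, -, -, hg⟩ := hS.extend_many ((Finset.filter_subset _ X).trans hXF) hYc hf
      hχaY (X := Tgt) ((Finset.filter_subset _ X).trans hXF)
      (fun φ hφ => ⟨p ^ (ib - ia), by
        obtain ⟨h1, h2⟩ := Finset.mem_filter.1 hφ
        rw [hdeg φ (hXF h1), h2, hdeg χa (hXF (hWX hχa)), hib, hia, ← mul_assoc, Nat.cast_pow, Nat.cast_pow,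
          Nat.cast_pow, ← pow_add, Nat.sub_add_cancel hlti.le]⟩)
      (fun φ hφ => by
        obtain ⟨h1, h2⟩ := Finset.mem_filter.1 hφ
        have hre : ∀ ξ ∈ X, (ξ 1).re = (dg ξ : ℝ) * e := fun ξ hξ => by
          rw [hdeg ξ (hXF hξ), ← Nat.cast_mul, Complex.natCast_re]; push_cast; ring
        rw [Finset.sum_congr rfl (g := fun ξ => (e : ℝ) ^ 2 * ((dg ξ ^ 2 : ℕ) : ℝ)) (fun ξ hξ => by
            have hξX := (Finset.mem_filter.1 hξ).1
            rw [sqNorm, classInner_isIrr_self (hXirr ξ hξX), Complex.one_re, div_one, hre ξ hξX]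
            push_cast; ring),
          ← Finset.mul_sum, ← Nat.cast_sum, hre φ h1, hre χa (hWX hχa), h2]
        have h3 : 2 * dg χa * b < b ^ 2 := by
          have h4 : p * p ^ ia ≤ p ^ ib := by
            rw [← pow_succ']; exact Nat.pow_le_pow_right hp.pos hlti
          have h5 : 3 * p ^ ia ≤ p * p ^ ia := Nat.mul_le_mul_right _ hp3
          have h6 : 0 < p ^ ia := Nat.pow_pos hp.pos
          rw [sq]
          refine Nat.mul_lt_mul_of_pos_right ?_ (by rw [hib]; exact Nat.pow_pos hp.pos)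
          rw [hia, hib]; omega
        have h7 : ((2 * dg χa * b : ℕ) : ℝ) < ((∑ ξ ∈ Y, dg ξ ^ 2 : ℕ) : ℝ) := by
          exact_mod_cast h3.trans_le hsumY
        have h8 : (0 : ℝ) < (e : ℝ) ^ 2 := by positivity
        have h9 := mul_lt_mul_of_pos_left h7 h8
        push_cast at h9 ⊢
        linarith)
    refine ⟨g, hg.mono fun φ hφ => ?_⟩
    obtain ⟨h1, -⟩ := Finset.mem_filter.1 hφ
    rcases (hmax φ hφ).lt_or_eq with h | h
    · exact hU1 (Finset.mem_filter.2 ⟨h1, h⟩)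
    · exact hU2 (Finset.mem_filter.2 ⟨h1, h⟩)

end CfsgLib.Coherence
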