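import Cfsg.Agent.Coherence.FrobSys
import Cfsg.Prelude.Def_OddOrderLocal
import Cfsg.Agent.Characters.Generalized

/-!
# Induction from the normaliser of a T.I. subgroup
-/

set_option autoImplicit false
set_option linter.unusedSectionVars false

namespace CfsgLib.Coherence

open Cfsg CfsgLib.Characters CfsgLib.OddOrderChar

universe u

variable {G : Type u} [Group G] [Fintype G] {H L : Subgroup G} [Fintype L]

noncomputable local instance fintypeSubgroupTIInduction (M : Subgroup L) : Fintype M := Fintype.ofFinite M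

variable (hTI : IsTISubset (H : Set G)) (hN : Subgroup.normalizer (H : Set G) = L)
include hTI hN

/-- On `H` induction does not change a class function supported on `H#`. -/
theorem ti_ind_apply {α : L → ℂ} (hcl : IsClassFunction L α)
    (hsupp : ∀ x : L, (x : G) ∉ H → α x = 0) (h1 : α 1 = 0) (x : L) (hx : (x : G) ∈ H) :
    indFun L α x = α x := by
  classical
  by_cases hx1 : x = 1
  · subst hx1
    rw [OneMemClass.coe_one, Characters.indFun_one, h1, mul_zero]
  have hterm : ∀ g : G, extendByZero L α (g⁻¹ * x * g) = if g ∈ L then α x else 0 := by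
    intro g
    split_ifs with hg
    · have hmem : g⁻¹ * x * g ∈ L := mul_mem (mul_mem (inv_mem hg) x.2) hg
      rw [OddOrderChar.extendByZero_of_mem L α hmem,
        show (⟨g⁻¹ * x * g, hmem⟩ : L) = (⟨g, hg⟩ : L)⁻¹ * x * ((⟨g, hg⟩ : L)⁻¹)⁻¹ from
          Subtype.ext (by simp)]
      exact hcl x _
    · by_cases hmem : g⁻¹ * x * g ∈ L
      · rw [OddOrderChar.extendByZero_of_mem L α hmem]
        refine hsupp _ fun hH => hx1 (Subtype.ext ?_)
        exact hTI g⁻¹ (fun h => hg (by rw [hN] at h; simpa using inv_mem h)) x hx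
          (by simpa using hH)
      · exact OddOrderChar.extendByZero_of_notMem L α hmem
  unfold indFun
  rw [Finset.sum_congr rfl fun g _ => hterm g, ← Finset.sum_filter, Finset.sum_const,
    nsmul_eq_mul, ← Fintype.card_subtype, ← Nat.card_eq_fintype_card, ← mul_assoc]
  exact (congrArg (· * α x) (inv_mul_cancel₀ natCard_ne_zero)).trans (one_mul _)

/-- Induction is an isometry on the lattice of `S`. -/
theorem ti_isometry :
    IsLinearIsometryOn (zspanOn (inducedIrrAbove (H.subgroupOf L) ⊥) {1}ᶜ)
        (fun α : L → ℂ => indFun L α) ∧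
      ∀ α ∈ zspanOn (inducedIrrAbove (H.subgroupOf L) ⊥) {1}ᶜ, indFun L α 1 = 0 := by
  classical
  have : (H.subgroupOf L).Normal :=
    (Subgroup.normal_subgroupOf_iff_le_normalizer (hN ▸ Subgroup.le_normalizer)).2 hN.ge
  have key : ∀ α ∈ zspanOn (inducedIrrAbove (H.subgroupOf L) ⊥) {1}ᶜ,
      IsGeneralizedCharacter L α ∧ (∀ x : L, (x : G) ∉ H → α x = 0) ∧ α 1 = 0 := by
    intro α hα
    obtain ⟨hspan, h1⟩ := mem_zspanOn_one.1 hα
    refine ⟨?_, fun x hx => ?_, h1⟩
    · refine Submodule.span_induction ?_ isGen_zero (fun a b _ _ => isGen_add)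
        (fun n a _ ha => Coherence.isGen_zsmul ha n) hspan
      rintro φ ⟨θ, hθ, -, -, rfl⟩
      exact Coherence.isGen_of_isCharacter
        (OddOrderChar.isCharacter_indFun _ (isCharacter_of_isIrr hθ))
    · refine Submodule.span_induction (p := fun a _ => a x = 0) ?_ rfl
        (fun a b _ _ ha hb => by simp [ha, hb]) (fun n a _ ha => by simp [ha]) hspan
      rintro φ ⟨θ, -, -, -, rfl⟩
      exact indFun_normal_eq_zero _ θ fun h => hx (Subgroup.mem_subgroupOf.1 h)
  refine ⟨⟨fun a _ b _ => Characters.indFun_add L a b, fun a _ n => ?_, fun a ha b hb => ?_,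
    fun a ha => isGen_indFun L (key a ha).1⟩, fun a ha => ?_⟩
  · simp only [← Int.cast_smul_eq_zsmul ℂ]
    exact Characters.indFun_smul L _ a
  · obtain ⟨-, hsa, -⟩ := key a ha
    obtain ⟨hgb, hsb, hb1⟩ := key b hb
    rw [OddOrderChar.classInner_indFun_left L a (Characters.isClassFunction_indFun L b)]
    simp only [classInner]
    congr 1
    refine Finset.sum_congr rfl fun x _ => ?_
    by_cases hx : (x : G) ∈ H
    · rw [ti_ind_apply hTI hN (Coherence.isClassFunction_of_isGen hgb) hsb hb1 x hx]
    · rw [hsa x hx, zero_mul, zero_mul]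
  · rw [Characters.indFun_one, (key a ha).2.2, mul_zero]

end CfsgLib.Coherence
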